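import Groth.Agent.L01.FlatCx.BC
import Groth.Agent.L10.DRing.Modules
import Groth.Agent.L02.PC.Coherent
import Mathlib.Algebra.TrivSqZeroExt.Basic

/-!
# Finite free models of complexes of flat modules
-/

set_option autoImplicit false
set_option linter.style.haveILetI false
set_option backward.isDefEq.respectTransparency false

universe u

open CategoryTheory CategoryTheory.Limits MonoidalCategory
open scoped TensorProduct

noncomputable section

namespace Groth.L17.BC.FlatModel

open Groth.L01.FlatCx (Coker dd flat_coker_iff exists_homology_toCoker qr qr_surjective flat_left)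
open Groth.L02.PC

variable {A : Type u} [CommRing A]

/-- A complex of flat modules which is exact, and in high degrees universally exact, is universally exact. -/
theorem isZero_T_of_exact (C : CochainComplex (ModuleCat.{u} A) ℤ) (hC : ∀ i, Module.Flat A (C.X i))
    (hex : ∀ i, IsZero (C.homology i)) (N : ℤ)
    (hN : ∀ (M : ModuleCat.{u} A) (i : ℤ), N < i → IsZero (CohIII.T C i M)) (M : ModuleCat.{u} A) (i : ℤ) :
    IsZero (CohIII.T C i M) := by
  have hA : ∀ i, Subsingleton ((CohIII.TFun C i).obj (ModuleCat.of A A)) := fun i => by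
    haveI := ModuleCat.subsingleton_of_isZero (hex i)
    exact (Groth.L01.FlatCx.unitEquiv C i).toEquiv.subsingleton
  have hflat : ∀ i, Module.Flat A (Coker C (i - 1) i) := by
    suffices ∀ (k : ℕ) (i : ℤ), N < i + k → Module.Flat A (Coker C (i - 1) i) from
      fun i => this (N + 1 - i).toNat i (by omega)
    intro k
    induction k with
    | zero =>
      intro i hi
      refine (Groth.L01.FlatCx.preservesMono_iff C (CochainComplex.prev _ _) hC).1 ⟨fun {M N} g _ => ?_⟩
      rw [ModuleCat.mono_iff_injective]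
      haveI := ModuleCat.subsingleton_of_isZero (hN M i (by omega))
      exact fun a b _ => Subsingleton.elim (α := CohIII.T C i M) a b
    | succ k ih =>
      intro i hi
      have hnext : Module.Flat A (Coker C i (i + 1)) := by
        have h := ih (i + 1) (by omega)
        rwa [show i + 1 - 1 = i by omega] at h
      haveI := hC (i + 1)
      haveI : Module.Flat A (LinearMap.range (dd C i (i + 1))) :=
        flat_left (Submodule.injective_subtype _) (Submodule.mkQ_surjective _)
          (LinearMap.exact_iff.mpr ((Submodule.ker_mkQ _).trans (Submodule.range_subtype _).symm))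
      rw [flat_coker_iff C (CochainComplex.prev _ _) (CochainComplex.next _ _)]
      haveI := hA i
      infer_instance
  haveI : (CohIII.TFun C i).PreservesEpimorphisms := by
    rw [Groth.L01.FlatCx.preservesEpi_iff C (j := i) (k := i + 1) (CochainComplex.next _ _)
      (by simp) hC]
    have h := hflat (i + 1)
    rwa [show i + 1 - 1 = i by omega] at h
  have hb := Groth.L01.FlatCx.bijective_of_preservesEpi C i hC M
  haveI := hA i
  haveI : Subsingleton (((CohIII.TFun C i).obj (ModuleCat.of A A) : Type u) ⊗[A] (M : Type u)) :=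
    ⟨fun a b => by
      have h0 : ∀ z : ((CohIII.TFun C i).obj (ModuleCat.of A A) : Type u) ⊗[A] (M : Type u), z = 0 := fun z => by
        induction z using TensorProduct.induction_on with
        | zero => rfl
        | tmul x m => rw [Subsingleton.elim x 0, TensorProduct.zero_tmul]
        | add x y hx hy => rw [hx, hy, add_zero]
      rw [h0 a, h0 b]⟩
  haveI : Subsingleton ((CohIII.TFun C i).obj M) := hb.2.subsingleton
  haveI : Subsingleton (CohIII.T C i M) := ‹Subsingleton ((CohIII.TFun C i).obj M)›
  exact ModuleCat.isZero_of_subsingleton _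

variable {L K : CochainComplex (ModuleCat.{u} A) ℤ} (φ : L ⟶ K)

theorem isZero_cone_homology [QuasiIso φ] (i : ℤ) : IsZero ((CochainComplex.mappingCone φ).homology i) := by
  letI := HasDerivedCategory.standard (ModuleCat.{u} A)
  haveI : IsIso (DerivedCategory.Q.map φ) := (DerivedCategory.isIso_Q_map_iff_quasiIso (C := ModuleCat.{u} A) φ).2 inferInstance
  exact (isApprox_Q_map_iff φ i).1 (IsApprox.of_isIso _ i) i le_rfl

theorem flat_cone (hL : ∀ i, Module.Flat A (L.X i)) (hK : ∀ i, Module.Flat A (K.X i)) (i : ℤ) :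
    Module.Flat A ((CochainComplex.mappingCone φ).X i) :=
  haveI := hL (i + 1)
  haveI := hK i
  haveI : Module.Flat A ((L.X (i + 1) : Type u) × (K.X i : Type u)) :=
    Groth.L01.FlatCx.flat_middle (f := LinearMap.inl A (L.X (i + 1) : Type u) (K.X i : Type u))
      (g := LinearMap.snd A (L.X (i + 1) : Type u) (K.X i : Type u)) LinearMap.inl_injective
      Prod.snd_surjective Function.Exact.inl_snd
  Module.Flat.of_linearEquiv (coneEquiv φ i (i + 1) rfl)

theorem isZero_T_iff_subsingleton (C : CochainComplex (ModuleCat.{u} A) ℤ) (i : ℤ) (M : ModuleCat.{u} A) :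
    IsZero (CohIII.T C i M) ↔ Subsingleton ((CohIII.TFun C i).obj M) :=
  ⟨fun h => ModuleCat.subsingleton_of_isZero h, fun h => haveI : Subsingleton (CohIII.T C i M) := h
    ModuleCat.isZero_of_subsingleton _⟩

/-- A quasi-isomorphism between complexes of flat modules which are universally exact in high degrees
remains a quasi-isomorphism after tensoring. -/
theorem quasiIso_tensor [QuasiIso φ] (hL : ∀ i, Module.Flat A (L.X i)) (hK : ∀ i, Module.Flat A (K.X i)) (N : ℤ)
    (hLN : ∀ (M : ModuleCat.{u} A) (i : ℤ), N < i → IsZero (CohIII.T L i M))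
    (hKN : ∀ (M : ModuleCat.{u} A) (i : ℤ), N < i → IsZero (CohIII.T K i M)) (M : ModuleCat.{u} A) :
    QuasiIso (((tensorRight M).mapHomologicalComplex (ComplexShape.up ℤ)).map φ) := by
  let e : ∀ M : ModuleCat.{u} A, CohIII.tensorObj (CochainComplex.mappingCone φ) M ≅
      CochainComplex.mappingCone (((tensorRight M).mapHomologicalComplex (ComplexShape.up ℤ)).map φ) :=
    fun M => CochainComplex.mappingCone.mapHomologicalComplexIso φ (tensorRight M)
  have hz : ∀ (M : ModuleCat.{u} A) i, IsZero (CohIII.T (CochainComplex.mappingCone φ) i M) := by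
    refine fun M i => isZero_T_of_exact _ (flat_cone φ hL hK) (isZero_cone_homology φ) N (fun M i hi => ?_) M i
    refine IsZero.of_iso ?_ ((HomologicalComplex.homologyFunctor _ _ i).mapIso (e M))
    letI := HasDerivedCategory.standard (ModuleCat.{u} A)
    refine (isApprox_Q_map_iff _ i).1 ⟨fun j hj => ?_, ?_⟩ i le_rfl
    · exact ⟨0, IsZero.eq_of_src ((isZero_HH_Q_iff _ j).2 (hLN M j (by omega))) _ _,
        IsZero.eq_of_src ((isZero_HH_Q_iff _ j).2 (hKN M j (by omega))) _ _⟩
    · exact IsZero.epi ((isZero_HH_Q_iff _ i).2 (hKN M i hi)) _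
  refine Groth.L02.PC.quasiIso_of_coneExact (f := ((tensorRight M).mapHomologicalComplex (ComplexShape.up ℤ)).map φ) (hf := fun i => ?_)
  rw [coneExact_iff _ _ _ _ _ (by omega) rfl (by omega)]
  exact IsZero.of_iso (hz M i) ((HomologicalComplex.homologyFunctor _ _ i).mapIso (e M)).symm

/-- Over a Noetherian ring, a finite free bounded above model. -/
theorem exists_finite_free_model [IsNoetherianRing A] (K : CochainComplex (ModuleCat.{u} A) ℤ) (N : ℤ)
    (hfin : ∀ i, Module.Finite A (K.homology i)) (hz : ∀ i, N < i → IsZero (K.homology i)) :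
    ∃ (L : CochainComplex (ModuleCat.{u} A) ℤ) (φ : L ⟶ K),
      (∀ i, Module.Finite A (L.X i) ∧ Module.Free A (L.X i)) ∧ (∃ b : ℤ, ∀ i, b < i → IsZero (L.X i)) ∧
        QuasiIso φ := by
  letI := HasDerivedCategory.standard (ModuleCat.{u} A)
  have hpc : ∀ m, DRing.IsPseudoCoherent A m (DRing.toD K) := fun m => by
    refine Groth.L10.DR.pc_of_homology m _ N (fun i hi => (isZero_HH_Q_iff K i).2 (hz i hi)) fun i _ => ?_
    haveI : Module.Finite A ((Groth.L02.PC.HH i).obj (DRing.toD K)) :=
      haveI : Module.Finite A ((HomologicalComplex.homologyFunctor (ModuleCat.{u} A) (ComplexShape.up ℤ) i).obj K) :=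
        hfin i
      Module.Finite.equiv ((DerivedCategory.homologyFunctorFactors (ModuleCat.{u} A) i).app K).toLinearEquiv.symm
    exact Groth.L10.DR.pc_single i m (pc_of_pc' (Groth.L10.DR.pcModule'_noetherian _) (m - i))
  obtain ⟨L, b, hLb, hLF, ⟨e⟩⟩ := pc'_of_forall hpc
  haveI := isKProjective_of_vanishesAbove hLb fun i =>
    haveI := (hLF i).2
    Module.Projective.of_free
  obtain ⟨φ, hφ⟩ := exists_chainMap e.hom
  refine ⟨L, φ, hLF, ⟨b, hLb⟩, (DerivedCategory.isIso_Q_map_iff_quasiIso (C := ModuleCat.{u} A) φ).1 ?_⟩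
  rw [hφ]
  infer_instance

/-- Vanishing after tensoring with all algebras gives vanishing after tensoring with all modules. -/
theorem isZero_T_of_forall_algebra (C : CochainComplex (ModuleCat.{u} A) ℤ) (i : ℤ)
    (h : ∀ (B : Type u) [CommRing B] [Algebra A B], IsZero ((CohIII.bcCx (algebraMap A B) C).homology i))
    (M : ModuleCat.{u} A) : IsZero (CohIII.T C i M) := by
  letI : Module Aᵐᵒᵖ M := Module.compHom M ((RingHom.id A).fromOpposite mul_comm)
  haveI : IsCentralScalar A M := ⟨fun _ _ => rfl⟩
  let B := TrivSqZeroExt A (M : Type u)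
  let inr : M ⟶ ModuleCat.of A B := ModuleCat.ofHom (TrivSqZeroExt.inrHom A (M : Type u))
  let snd : ModuleCat.of A B ⟶ M := ModuleCat.ofHom (TrivSqZeroExt.sndHom A (M : Type u))
  have hid : inr ≫ snd = 𝟙 M := ModuleCat.hom_ext (LinearMap.ext fun m => TrivSqZeroExt.snd_inr A m)
  haveI := ModuleCat.subsingleton_of_isZero (h B)
  have hB : IsZero (CohIII.T C i (ModuleCat.of A B)) := by
    rw [isZero_T_iff_subsingleton]
    refine subsingleton_of_forall_eq 0 fun a => ?_
    obtain ⟨x, rfl⟩ := Groth.L01.FlatCx.cls_surjective C i (ModuleCat.of A B) a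
    have hz : (Groth.L01.FlatCx.sw B C i).symm x.1 ∈ Groth.L01.FlatCx.Cyc' (Groth.L01.FlatCx.bc B C) i := by
      apply (Groth.L01.FlatCx.sw B C ((ComplexShape.up ℤ).next i)).injective
      rw [Groth.L01.FlatCx.sw_dd, AddEquiv.apply_symm_apply, map_zero]
      exact x.2
    obtain ⟨y, hy⟩ := (Groth.L01.FlatCx.cls'_eq_zero_iff (Groth.L01.FlatCx.bc B C) (i := i - 1)
      (CochainComplex.prev _ _) ⟨_, hz⟩).1 (Subsingleton.elim _ _)
    rw [Groth.L01.FlatCx.cls_eq_zero_iff C (i := i - 1) (CochainComplex.prev _ _)]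
    refine ⟨Groth.L01.FlatCx.sw B C (i - 1) y, ?_⟩
    rw [← Groth.L01.FlatCx.sw_dd, hy, AddEquiv.apply_symm_apply]
  have := (CohIII.TFun C i).congr_map hid
  rw [Functor.map_comp, CategoryTheory.Functor.map_id] at this
  rw [IsZero.iff_id_eq_zero]
  exact this.symm.trans (by rw [IsZero.eq_of_src hB ((CohIII.TFun C i).map snd) 0, comp_zero])

end Groth.L17.BC.FlatModel
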