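import Groth.Agent.L17.BC.Change
import Groth.Agent.L17.BC.FlatModel
import Groth.Agent.L01.FlatCx.Rank
import Groth.Agent.L17.CoverVanishing
import Groth.Agent.L17.CechComparison
import Groth.Agent.L16.ProperFinite
import Groth.Agent.L20.ModFlat

/-!
# A finite free complex computing cohomology after every base change
-/

set_option autoImplicit false
set_option linter.style.haveILetI false
set_option backward.isDefEq.respectTransparency false

universe u

open CategoryTheory CategoryTheory.Limits AlgebraicGeometry TopologicalSpace Opposite MonoidalCategory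
open scoped TensorProduct

noncomputable section

namespace Groth.L17.BC

open Groth.L02.PC
open Groth.L01.FlatCx (dd bc sw sw_dd bcE bcE_map)

variable {A : Type u} [CommRing A]

section Scalars

variable (B : Type u) [CommRing B] [Algebra A B]

theorem sw_natural {P Q : CochainComplex (ModuleCat.{u} A) ℤ} (φ : P ⟶ Q) (i : ℤ) (z : (bc B P).X i) :
    sw B Q i ((((ModuleCat.extendScalars (algebraMap A B)).mapHomologicalComplex _).map φ).f i z) =
      (φ.f i).hom.rTensor B (sw B P i z) := by
  show TensorProduct.comm A B (Q.X i)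
      (bcE B (Q.X i) ((((ModuleCat.extendScalars (algebraMap A B))).map (φ.f i)).hom z)) =
    (φ.f i).hom.rTensor B (TensorProduct.comm A B (P.X i) (bcE B (P.X i) z))
  rw [bcE_map]
  exact (LinearMap.congr_fun (LinearMap.rTensor_comp_comm (φ.f i).hom) _).symm.trans rfl

/-- A quasi-isomorphism which stays one after tensoring stays one after base change. -/
theorem quasiIso_bc {P Q : CochainComplex (ModuleCat.{u} A) ℤ} (φ : P ⟶ Q)
    (h : QuasiIso (((tensorRight (ModuleCat.of A B)).mapHomologicalComplex (ComplexShape.up ℤ)).map φ)) :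
    QuasiIso (((ModuleCat.extendScalars (algebraMap A B)).mapHomologicalComplex (ComplexShape.up ℤ)).map φ) := by
  set φB := ((tensorRight (ModuleCat.of A B)).mapHomologicalComplex (ComplexShape.up ℤ)).map φ
  haveI : QuasiIso φB := h
  refine Groth.L02.PC.quasiIso_of_coneExact
    (f := ((ModuleCat.extendScalars (algebraMap A B)).mapHomologicalComplex (ComplexShape.up ℤ)).map φ)
    (hf := fun i => ?_)
  intro p x hp hx
  have h1 : ConeExact φB (i - 1) i (i + 1) (i + 2) :=
    (coneExact_iff φB _ _ _ _ (by omega) rfl (by omega)).2 (FlatModel.isZero_cone_homology φB i)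
  have e1 : (dd P (i + 1) (i + 2)).rTensor B (sw B P (i + 1) p) = 0 := by
    rw [← sw_dd]
    exact (congrArg (sw B P (i + 2)) hp).trans (map_zero _)
  have e2 : (φ.f (i + 1)).hom.rTensor B (sw B P (i + 1) p) = (dd Q i (i + 1)).rTensor B (sw B Q i x) := by
    rw [← sw_natural B φ, ← sw_dd]
    exact congrArg (sw B Q (i + 1)) hx
  obtain ⟨q, y, hq, hy⟩ := h1 (sw B P (i + 1) p) (sw B Q i x) e1 e2
  refine ⟨(sw B P i).symm q, (sw B Q (i - 1)).symm y, (sw B P (i + 1)).injective ?_, (sw B Q i).injective ?_⟩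
  · exact (sw_dd B P i (i + 1) _).trans ((congrArg _ ((sw B P i).apply_symm_apply q)).trans hq)
  · rw [map_add, sw_natural B φ, AddEquiv.apply_symm_apply]
    exact (congrArg ((φ.f i).hom.rTensor B q + ·)
      ((sw_dd B Q (i - 1) i _).trans (congrArg _ ((sw B Q (i - 1)).apply_symm_apply y)))).trans hy

/-- Homology after base change to a field is finite dimensional. -/
theorem finite_homology_bc_field (P : CochainComplex (ModuleCat.{u} A) ℤ) (hP : ∀ i, Module.Finite A (P.X i))
    (k : Type u) [Field k] [Algebra A k] (j : ℤ) : Module.Finite k ((bc k P).homology j : Type u) := by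
  haveI := hP j
  haveI : Module.Finite k ((bc k P).X j) := Groth.L01.FlatCx.finite_bc k P j
  haveI : IsNoetherian k ((bc k P).X j) := isNoetherian_of_isNoetherianRing_of_finite k _
  haveI : Module.Finite k (Groth.L01.FlatCx.Cyc' (bc k P) j) :=
    Module.Finite.iff_fg.2 (IsNoetherian.noetherian _)
  exact Module.Finite.of_surjective _ (Groth.L01.FlatCx.cls'_surjective (bc k P) j)

/-- The dimension of the homology after base change to a field. -/
theorem finrank_homology_bc (P : CochainComplex (ModuleCat.{u} A) ℤ) (k : Type u) [Field k] [Algebra A k] (j : ℤ) :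
    Module.finrank k ((bc k P).homology j : Type u) =
      CohIII.dRank P j (PrimeSpectrum.comap (algebraMap A k) ⊥) := by
  rw [← Groth.L01.FlatCx.dRank_baseChange P j (⊥ : PrimeSpectrum k)]
  let x : PrimeSpectrum k := ⊥
  obtain ⟨e⟩ := Groth.L01.FlatCx.nonempty_homology_bc x.asIdeal.ResidueField (bc k P) j
    (Groth.L01.FlatCx.bijective_tMap_of_flat (bc k P) j (ModuleCat.of k x.asIdeal.ResidueField))
  show _ = Module.finrank x.asIdeal.ResidueField _
  rw [e.finrank_eq, Module.finrank_baseChange]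
  exact (Groth.L01.FlatCx.unitEquiv (bc k P) j).finrank_eq.symm

end Scalars

variable {X : Scheme.{u}} (f : X ⟶ Spec (CommRingCat.of A))

/-- Sections of a module flat over the base on an affine open are flat. -/
theorem flat_sec (F : X.Modules) [Coh.IsQCoh F] (hfl : FlatMod.IsFlatOver f F) {V : X.Opens}
    (hV : IsAffineOpen V) : Module.Flat A (Sec (Coh.toGlobal f) F V) := by
  let R := Γ(Spec (CommRingCat.of A), ⊤)
  have hW : IsAffineOpen (⊤ : (Spec (CommRingCat.of A)).Opens) := isAffineOpen_top _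
  letI : Algebra R Γ(X, V) := (f.appLE ⊤ V le_top).hom.toAlgebra
  letI : Module R Γ(F, V) := Module.compHom Γ(F, V) (f.appLE ⊤ V le_top).hom
  haveI : IsScalarTower R Γ(X, V) Γ(F, V) := IsScalarTower.of_algebraMap_smul fun _ _ => rfl
  haveI hR : Module.Flat R Γ(F, V) := by
    refine Module.flat_of_isLocalized_maximal (R := R) Γ(X, V) Γ(F, V)
      (fun P _ => LocalizedModule P.primeCompl Γ(F, V))
      (fun P _ => LocalizedModule.mkLinearMap P.primeCompl Γ(F, V)) fun P hP => ?_
    obtain ⟨x, hx, e⟩ : ∃ (x : X) (hx : x ∈ V), (hV.primeIdealOf ⟨x, hx⟩).asIdeal = P := by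
      have hm : hV.fromSpec ⟨P, hP.isPrime⟩ ∈ V := by
        have : hV.fromSpec ⟨P, hP.isPrime⟩ ∈ Set.range hV.fromSpec := ⟨_, rfl⟩
        rwa [hV.range_fromSpec] at this
      exact ⟨_, hm, congrArg (fun p : Spec Γ(X, V) => p.asIdeal)
        (hV.fromSpec.isOpenEmbedding.injective (a₁ := hV.primeIdealOf _) (hV.fromSpec_primeIdealOf _))⟩
    subst e
    exact (Groth.L20.ModStalk.isFlatOverAt_iff f F hW hV le_top hx).1 (hfl _)
  let σ : A →+* R := (Scheme.ΓSpecIso (CommRingCat.of A)).inv.hom
  letI : Algebra A R := σ.toAlgebra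
  haveI : Module.Flat A R := RingHom.Flat.of_bijective
    (ConcreteCategory.bijective_of_isIso (Scheme.ΓSpecIso (CommRingCat.of A)).inv)
  letI : Module A Γ(F, V) := Module.compHom Γ(F, V) σ
  haveI : IsScalarTower A R Γ(F, V) := IsScalarTower.of_algebraMap_smul fun _ _ => rfl
  have h : Module.Flat A Γ(F, V) := Module.Flat.trans A R Γ(F, V)
  let e : Γ(F, V) ≃ₗ[A] Sec (Coh.toGlobal f) F V :=
    { (AddEquiv.refl Γ(F, V)) with
      map_smul' := fun a s => by
        show f.appLE ⊤ V le_top (σ a) • s = act (Coh.toGlobal f) V a • s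
        rfl }
  exact Module.Flat.of_linearEquiv e.symm

omit [CommRing A] in
theorem exists_affine_cover [CompactSpace X] [X.IsSeparated] :
    ∃ (t : ℕ) (U : ULift.{u} (Fin t) → X.Opens), ⨆ i, U i = ⊤ ∧
      ∀ (n : ℕ) (a : Fin (n + 1) → ULift.{u} (Fin t)), IsAffineOpen (⨅ k, U (a k)) := by
  obtain ⟨s, hs⟩ := isCompact_univ.elim_finite_subcover (fun V : X.affineOpens => (V.1 : Set X))
    (fun V => V.1.2) fun x _ => by
      obtain ⟨V, hV, hxV, -⟩ := X.isBasis_affineOpens.exists_subset_of_mem_open (Set.mem_univ x) isOpen_univ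
      obtain ⟨V', hV', rfl⟩ := hV
      exact Set.mem_iUnion.2 ⟨⟨V', hV'⟩, hxV⟩
  let e : ULift.{u} (Fin s.card) ≃ s := Equiv.ulift.trans s.equivFin.symm
  refine ⟨s.card, fun i => (e i).1.1, top_unique fun x _ => ?_, fun n a => IsAffineOpen.iInf fun k => (e (a k)).1.2⟩
  obtain ⟨V, hV, hx⟩ := Set.mem_iUnion₂.1 (hs (Set.mem_univ x))
  refine Opens.mem_iSup.2 ⟨e.symm ⟨V, hV⟩, ?_⟩
  show x ∈ (e (e.symm ⟨V, hV⟩)).1.1
  rw [e.apply_symm_apply]
  exact hx

variable {ι : Type u} [Finite ι] (U : ι → X.Opens)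

theorem flat_K (F : X.Modules) (hfl : ∀ V : X.Opens, IsAffineOpen V → Module.Flat A (Sec (Coh.toGlobal f) F V))
    (haff : ∀ (n : ℕ) (a : Fin (n + 1) → ι), IsAffineOpen (⨅ k, U (a k))) (i : ℤ) :
    Module.Flat A ((K (Coh.toGlobal f) F U).X i) := by
  classical
  haveI := finite_idx (ι := ι) i
  haveI : Fintype (Idx ι i) := Fintype.ofFinite _
  haveI : ∀ a : Idx ι i, Module.Flat A (Sec (Coh.toGlobal f) F (opn U a.1)) := fun a =>
    hfl _ (isAffineOpen_opn U haff a)
  show Module.Flat A (C (Coh.toGlobal f) F U i)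
  exact Module.Flat.of_linearEquiv
    (DirectSum.linearEquivFunOnFintype A (Idx ι i) fun a => Sec (Coh.toGlobal f) F (opn U a.1)).symm

omit [Finite ι] in
theorem isZero_K (ρ : A →+* Coh.Γtop X) (F : X.Modules) {i : ℤ} (hi : i < 0) : IsZero ((K ρ F U).X i) :=
  haveI : Subsingleton ((K ρ F U).X i) := subsingleton_C ρ F U hi
  ModuleCat.isZero_of_subsingleton _

theorem isZero_homology_K (ρ : A →+* Coh.Γtop X) (F : X.Modules) [Coh.IsQCoh F] (hcov : ⨆ i, U i = ⊤)
    (haff : ∀ (n : ℕ) (a : Fin (n + 1) → ι), IsAffineOpen (⨅ k, U (a k))) (i : ℤ)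
    (hi : (Nat.card ι : ℤ) ≤ i) : IsZero ((K ρ F U).homology i) := by
  classical
  obtain ⟨p, rfl⟩ : ∃ p : ℕ, i = p := ⟨i.toNat, (Int.toNat_of_nonneg (by omega)).symm⟩
  obtain ⟨e⟩ := exists_homology_equiv ρ F U hcov haff p
  let σ : Fin (Nat.card ι) ≃ ι := (Finite.equivFin ι).symm
  haveI : Subsingleton (Coh.HH X F p) :=
    Groth.L17.subsingleton_HH_of_affine_cover (Nat.card ι) (fun i => U (σ i))
      ((σ.surjective.iSup_comp U).trans hcov) (fun s hs => by
        have hne := hs
        obtain ⟨n, hn⟩ : ∃ n, s.card = n + 1 := ⟨s.card - 1, by have := hs.card_pos; omega⟩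
        let v : Fin (n + 1) ≃ s := (finCongr hn.symm).trans s.equivFin.symm
        have e : s.inf (fun i => U (σ i)) = ⨅ k, U (σ (v k).1) := by
          refine le_antisymm (le_iInf fun k => Finset.inf_le (v k).2) (Finset.le_inf fun i hi => ?_)
          refine le_of_eq_of_le rfl ((iInf_le _ (v.symm ⟨i, hi⟩)).trans_eq ?_)
          rw [v.apply_symm_apply]
        rw [e]
        exact haff n _) F p (by omega)
  haveI : Subsingleton ((K ρ F U).homology (p : ℤ)) := e.toEquiv.subsingleton
  exact ModuleCat.isZero_of_subsingleton _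

/-- Vanishing of the base changed complex in high degrees. -/
theorem isZero_homology_bc_K (F : X.Modules) [Coh.IsQCoh F] (hcov : ⨆ i, U i = ⊤)
    (haff : ∀ (n : ℕ) (a : Fin (n + 1) → ι), IsAffineOpen (⨅ k, U (a k))) (B : Type u) [CommRing B] [Algebra A B]
    (i : ℤ) (hi : (Nat.card ι : ℤ) ≤ i) :
    IsZero ((CohIII.bcCx (algebraMap A B) (K (Coh.toGlobal f) F U)).homology i) := by
  let g := pullback.fst f (Spec.map (CommRingCat.ofHom (algebraMap A B)))
  let f' := pullback.snd f (Spec.map (CommRingCat.ofHom (algebraMap A B)))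
  have sq : IsPullback g f' f (Spec.map (CommRingCat.ofHom (algebraMap A B))) := IsPullback.of_hasPullback _ _
  haveI := isAffineHom_of_isPullback f f' g sq
  obtain ⟨e⟩ := nonempty_bcCx_iso g (Coh.toGlobal f) (Coh.toGlobal f') F (compat_of_isPullback f f' g sq) U
    (hasBC_of_isPullback f f' g sq F) haff
  haveI : Coh.IsQCoh (Fb g F) := Groth.L16.AffineBC.isQCoh_pullback g F
  have hcov' : ⨆ i, Ub g U i = ⊤ := top_unique fun x _ => by
    obtain ⟨i, hi⟩ := Opens.mem_iSup.1 (hcov.ge (Opens.mem_top (g x)))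
    exact Opens.mem_iSup.2 ⟨i, hi⟩
  exact IsZero.of_iso (isZero_homology_K (Ub g U) (Coh.toGlobal f') (Fb g F) hcov'
    (isAffineOpen_iInf_preimage g U haff) i hi) ((HomologicalComplex.homologyFunctor _ _ i).mapIso e)

/-- Tensor products of the Čech complex are acyclic in high degrees. -/
theorem isZero_T_K (F : X.Modules) [Coh.IsQCoh F] (hcov : ⨆ i, U i = ⊤)
    (haff : ∀ (n : ℕ) (a : Fin (n + 1) → ι), IsAffineOpen (⨅ k, U (a k))) (M : ModuleCat.{u} A)
    (i : ℤ) (hi : (Nat.card ι : ℤ) ≤ i) : IsZero (CohIII.T (K (Coh.toGlobal f) F U) i M) :=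
  FlatModel.isZero_T_of_forall_algebra _ i (fun B _ _ => isZero_homology_bc_K f U F hcov haff B i hi) M

end Groth.L17.BC

namespace Groth.L17.BC

variable {A : Type u} [CommRing A] [IsNoetherianRing A] {X : Scheme.{u}} (f : X ⟶ Spec (CommRingCat.of A))

/-- A finite free complex computing the cohomology after every base change: the data. -/
structure Model [IsProper f] (F : X.Modules) where
  /-- the index type of the cover -/
  ι : Type u
  finite : Finite ι
  /-- the cover -/
  U : ι → X.Opens
  cover : ⨆ i, U i = ⊤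
  affine : ∀ (n : ℕ) (a : Fin (n + 1) → ι), IsAffineOpen (⨅ k, U (a k))
  /-- the complex -/
  L : CochainComplex (ModuleCat.{u} A) ℤ
  finiteFree : ∀ i, Module.Finite A (L.X i) ∧ Module.Free A (L.X i)
  /-- a degree above which it vanishes -/
  top : ℤ
  isZero_above : ∀ i, top < i → IsZero (L.X i)
  /-- the comparison with the Čech complex -/
  φ : L ⟶ K (Coh.toGlobal f) F U
  quasiIso : ∀ M : ModuleCat.{u} A,
    QuasiIso (((tensorRight M).mapHomologicalComplex (ComplexShape.up ℤ)).map φ)

variable [IsProper f] (F : X.Modules) (hF : Coh.IsCoh F)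
  (hfl : ∀ V : X.Opens, IsAffineOpen V → Module.Flat A (Sec (Coh.toGlobal f) F V))

include hF hfl in
theorem nonempty_model : Nonempty (Model f F) := by
  classical
  haveI : Coh.IsQCoh F := hF.1
  letI : X.Over (Spec (CommRingCat.of A)) := ⟨f⟩
  haveI : IsProper (X ↘ Spec (CommRingCat.of A)) := inferInstanceAs (IsProper f)
  haveI : CompactSpace X := QuasiCompact.compactSpace_of_compactSpace f
  haveI : X.IsSeparated := ⟨by rw [← terminal.comp_from f]; infer_instance⟩
  obtain ⟨t, U, hcov, haff⟩ := exists_affine_cover (X := X)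
  let Kc := K (Coh.toGlobal f) F U
  let N : ℤ := Nat.card (ULift.{u} (Fin t))
  have hfin : ∀ i, Module.Finite A (Kc.homology i) := fun i => by
    rcases Int.lt_or_le i 0 with hi | hi
    · haveI : Subsingleton (Kc.homology i) := ModuleCat.subsingleton_of_isZero
        ((HomologicalComplex.exactAt_iff_isZero_homology _ _).1
          (ShortComplex.exact_of_isZero_X₂ _ (isZero_K U _ F hi)))
      infer_instance
    · obtain ⟨p, rfl⟩ : ∃ p : ℕ, i = p := ⟨i.toNat, (Int.toNat_of_nonneg hi).symm⟩
      obtain ⟨e⟩ := exists_homology_equiv (Coh.toGlobal f) F U hcov haff p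
      haveI := Groth.L16.ProperFinite.finite_HH A hF p
      exact Module.Finite.equiv e.symm
  obtain ⟨L, φ, hLF, ⟨b, hb⟩, hq⟩ := FlatModel.exists_finite_free_model Kc N hfin
    fun i hi => isZero_homology_K U (Coh.toGlobal f) F hcov haff i (by omega)
  refine ⟨⟨_, inferInstance, U, hcov, haff, L, hLF, b, hb, φ, fun M => ?_⟩⟩
  refine FlatModel.quasiIso_tensor φ (fun i => ?_) (flat_K f U F hfl haff) (max b N) (fun M i hi => ?_)
    (fun M i hi => isZero_T_K f U F hcov haff M i ((le_max_right b N).trans hi.le)) M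
  · haveI := (hLF i).2
    infer_instance
  · refine (HomologicalComplex.exactAt_iff_isZero_homology _ _).1 (ShortComplex.exact_of_isZero_X₂ _ ?_)
    exact (tensorRight M).map_isZero (hb i (lt_of_le_of_lt (le_max_left b N) hi))

end Groth.L17.BC

set_option linter.unusedSectionVars false

namespace Groth.L17.BC.Model

variable {A : Type u} [CommRing A] [IsNoetherianRing A] {X : Scheme.{u}} {f : X ⟶ Spec (CommRingCat.of A)}
  [IsProper f] {F : X.Modules} (m : Model f F)

theorem flat_X (i : ℤ) : Module.Flat A (m.L.X i) :=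
  haveI := (m.finiteFree i).2
  inferInstance

/-- Tensor products with the complex are acyclic in negative degrees. -/
theorem isZero_T_of_neg (M : ModuleCat.{u} A) {i : ℤ} (hi : i < 0) : IsZero (CohIII.T m.L i M) := by
  haveI := m.quasiIso M
  haveI : QuasiIsoAt (((tensorRight M).mapHomologicalComplex (ComplexShape.up ℤ)).map m.φ) i :=
    (m.quasiIso M).quasiIsoAt i
  have h : IsZero (CohIII.T (K (Coh.toGlobal f) F m.U) i M) :=
    (HomologicalComplex.exactAt_iff_isZero_homology _ _).1 (ShortComplex.exact_of_isZero_X₂ _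
      ((tensorRight M).map_isZero (isZero_K m.U _ F hi)))
  exact IsZero.of_iso h (isoOfQuasiIsoAt (((tensorRight M).mapHomologicalComplex _).map m.φ) i)

theorem isZero_T_of_gt (M : ModuleCat.{u} A) {i : ℤ} (hi : m.top < i) : IsZero (CohIII.T m.L i M) :=
  (HomologicalComplex.exactAt_iff_isZero_homology _ _).1 (ShortComplex.exact_of_isZero_X₂ _
    ((tensorRight M).map_isZero (m.isZero_above i hi)))

/-- The complex computes cohomology after base change. -/
theorem exists_equiv [Coh.IsQCoh F] {B : Type u} [CommRing B] [Algebra A B] {X' : Scheme.{u}}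
    (f' : X' ⟶ Spec (CommRingCat.of B)) (g : X' ⟶ X)
    (sq : IsPullback g f' f (Spec.map (CommRingCat.ofHom (algebraMap A B)))) (p : ℕ) :
    letI : Module B (Coh.HH X' ((Scheme.Modules.pullback g).obj F) p) :=
      Module.compHom _ (Coh.toGlobal f')
    Nonempty (((CohIII.bcCx (algebraMap A B) m.L).homology (p : ℤ) : Type u) ≃ₗ[B]
      Coh.HH X' ((Scheme.Modules.pullback g).obj F) p) := by
  letI : Module B (Coh.HH X' ((Scheme.Modules.pullback g).obj F) p) := Module.compHom _ (Coh.toGlobal f')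
  haveI := m.finite
  haveI := isAffineHom_of_isPullback f f' g sq
  haveI := quasiIso_bc B m.φ (m.quasiIso _)
  obtain ⟨e⟩ := nonempty_bcCx_iso g (Coh.toGlobal f) (Coh.toGlobal f') F (compat_of_isPullback f f' g sq) m.U
    (hasBC_of_isPullback f f' g sq F) m.affine
  haveI : Coh.IsQCoh (Fb g F) := Groth.L16.AffineBC.isQCoh_pullback g F
  have hcov' : ⨆ i, Ub g m.U i = ⊤ := top_unique fun x _ => by
    obtain ⟨i, hi⟩ := Opens.mem_iSup.1 (m.cover.ge (Opens.mem_top (g x)))
    exact Opens.mem_iSup.2 ⟨i, hi⟩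
  obtain ⟨e'⟩ := exists_homology_equiv (Coh.toGlobal f') (Fb g F) (Ub g m.U) hcov'
    (isAffineOpen_iInf_preimage g m.U m.affine) p
  exact ⟨((isoOfQuasiIsoAt (((ModuleCat.extendScalars (algebraMap A B)).mapHomologicalComplex _).map m.φ)
    (p : ℤ)) ≪≫ (HomologicalComplex.homologyFunctor _ _ (p : ℤ)).mapIso e).toLinearEquiv.trans e'⟩

/-- The complex computes cohomology. -/
theorem exists_equiv_self [Coh.IsQCoh F] (p : ℕ) :
    letI : Module A (Coh.HH X F p) := Module.compHom _ (Coh.toGlobal f)
    Nonempty ((m.L.homology (p : ℤ) : Type u) ≃ₗ[A] Coh.HH X F p) := by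
  letI : Module A (Coh.HH X F p) := Module.compHom _ (Coh.toGlobal f)
  haveI := m.finite
  obtain ⟨e⟩ := exists_homology_equiv (Coh.toGlobal f) F m.U m.cover m.affine p
  haveI := m.quasiIso (ModuleCat.of A A)
  exact ⟨(Groth.L01.FlatCx.unitEquiv m.L (p : ℤ)).symm.trans
    ((isoOfQuasiIsoAt (((tensorRight (ModuleCat.of A A)).mapHomologicalComplex _).map m.φ) (p : ℤ)).toLinearEquiv.trans
      ((Groth.L01.FlatCx.unitEquiv _ (p : ℤ)).trans e))⟩

/-- Dimension of the cohomology of the base change to a field. -/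
theorem finrank_eq_dRank [Coh.IsQCoh F] {k : Type u} [Field k] [Algebra A k] {X' : Scheme.{u}}
    (f' : X' ⟶ Spec (CommRingCat.of k)) (g : X' ⟶ X)
    (sq : IsPullback g f' f (Spec.map (CommRingCat.ofHom (algebraMap A k)))) (p : ℕ) :
    letI : Module k (Coh.HH X' ((Scheme.Modules.pullback g).obj F) p) :=
      Module.compHom _ (Coh.toGlobal f')
    Module.finrank k (Coh.HH X' ((Scheme.Modules.pullback g).obj F) p) =
      CohIII.dRank m.L (p : ℤ) (PrimeSpectrum.comap (algebraMap A k) ⊥) := by
  letI : Module k (Coh.HH X' ((Scheme.Modules.pullback g).obj F) p) := Module.compHom _ (Coh.toGlobal f')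
  obtain ⟨e⟩ := m.exists_equiv f' g sq p
  rw [← e.finrank_eq]
  exact finrank_homology_bc m.L k p

include m in
/-- Cohomology of the base change to a field is finite dimensional. -/
theorem finite_fibre [Coh.IsQCoh F] {k : Type u} [Field k] [Algebra A k] {X' : Scheme.{u}}
    (f' : X' ⟶ Spec (CommRingCat.of k)) (g : X' ⟶ X)
    (sq : IsPullback g f' f (Spec.map (CommRingCat.ofHom (algebraMap A k)))) (p : ℕ) :
    letI : Module k (Coh.HH X' ((Scheme.Modules.pullback g).obj F) p) :=
      Module.compHom _ (Coh.toGlobal f')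
    Module.Finite k (Coh.HH X' ((Scheme.Modules.pullback g).obj F) p) := by
  letI : Module k (Coh.HH X' ((Scheme.Modules.pullback g).obj F) p) := Module.compHom _ (Coh.toGlobal f')
  obtain ⟨e⟩ := m.exists_equiv f' g sq p
  haveI := finite_homology_bc_field m.L (fun i => (m.finiteFree i).1) k (p : ℤ)
  exact Module.Finite.equiv e

end Groth.L17.BC.Model
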