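import Groth.Agent.L17.BC.Model
import Groth.Agent.L17.ProperCoh

/-!
# Models over affine opens of the base: fibres and higher direct images
-/

set_option autoImplicit false
set_option linter.style.haveILetI false
set_option backward.isDefEq.respectTransparency false

universe u

open CategoryTheory CategoryTheory.Limits AlgebraicGeometry TopologicalSpace Opposite

noncomputable section

namespace Groth.L17.BC

/-- An isomorphism of modules gives a linear equivalence in cohomology. -/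
def HHequiv {X : Scheme.{u}} {M N : X.Modules} (e : M ≅ N) (n : ℕ) :
    Coh.HH X M n ≃ₗ[Coh.Γtop X] Coh.HH X N n :=
  { ((Sheaf.functorH (Opens.grothendieckTopology X.toTopCat) n).mapIso
      ((Groth.L17.toAbShF X).mapIso e)).addCommGroupIsoToAddEquiv with
    map_smul' := fun r x => by
      show Sheaf.H.map ((Groth.L17.toAbShF X).map e.hom) n (Sheaf.H.map (Coh.smulAb M r) n x) =
        Sheaf.H.map (Coh.smulAb N r) n (Sheaf.H.map ((Groth.L17.toAbShF X).map e.hom) n x)
      rw [← Groth.L17.CohSections.toAb_smulM, ← Groth.L17.CohSections.toAb_smulM, ← Sheaf.H.map_comp_apply,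
        ← Sheaf.H.map_comp_apply, ← Functor.map_comp, ← Functor.map_comp]
      exact congrArg (fun φ => Sheaf.H.map ((Groth.L17.toAbShF X).map φ) n x)
        ((Groth.L17.CohSections.smulM r).naturality e.hom).symm }

variable {X Y : Scheme.{u}} (f : X ⟶ Y) {V : Y.Opens} (hV : IsAffineOpen V)

/-- The morphism over an affine open, to the spectrum of its functions. -/
def fV : ↑(f ⁻¹ᵁ V) ⟶ Spec Γ(Y, V) := (f ∣_ V) ≫ hV.isoSpec.hom

theorem fV_fromSpec : fV f hV ≫ hV.fromSpec = (f ⁻¹ᵁ V).ι ≫ f := by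
  simp [fV, IsAffineOpen.isoSpec_hom_fromSpec, morphismRestrict_ι]

instance [IsProper f] : IsProper (fV f hV) := inferInstanceAs (IsProper ((f ∣_ V) ≫ hV.isoSpec.hom))

/-- The restricted module. -/
abbrev FV (F : X.Modules) : (↑(f ⁻¹ᵁ V) : Scheme.{u}).Modules := F.restrict (f ⁻¹ᵁ V).ι

theorem isCoh_FV {F : X.Modules} (hF : Coh.IsCoh F) : Coh.IsCoh (FV f (V := V) F) :=
  haveI : Coh.IsQCoh F := hF.1
  ⟨Scheme.Modules.isQuasicoherent_restrictFunctor _ F, Groth.L16.CohKernel.isFT_restrict _ F hF.2⟩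

/-- Over an affine open of the base, the fibre is a base change. -/
theorem exists_fibre_square (y : Y) (hy : y ∈ V) :
    ∃ g : f.fiber y ⟶ ↑(f ⁻¹ᵁ V), g ≫ (f ⁻¹ᵁ V).ι = f.fiberι y ∧
      IsPullback g (f.fiberToSpecResidueField y) (fV f hV) (Spec.map (Y.evaluation V y hy)) ∧
      PrimeSpectrum.comap (Y.evaluation V y hy).hom ⊥ = hV.primeIdealOf ⟨y, hy⟩ := by
  have hb : Spec.map (Y.evaluation V y hy) ≫ hV.fromSpec = Y.fromSpecResidueField y := by
    rw [← Scheme.germ_residue, Spec.map_comp, Category.assoc]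
    exact congrArg (Spec.map (Y.residue y) ≫ ·) (hV.fromSpecStalk_eq_fromSpecStalk hy)
  have hr : Set.range (f.fiberι y) ⊆ Set.range (f ⁻¹ᵁ V).ι := by
    rw [Scheme.Hom.range_fiberι, Scheme.Opens.range_ι]
    intro x hx
    show f x ∈ V
    rw [show f x = y from hx]
    exact hy
  let g := IsOpenImmersion.lift (f ⁻¹ᵁ V).ι (f.fiberι y) hr
  have hg : g ≫ (f ⁻¹ᵁ V).ι = f.fiberι y := IsOpenImmersion.lift_fac _ _ _
  refine ⟨g, hg, ?_, ?_⟩
  · have big : IsPullback (g ≫ (f ⁻¹ᵁ V).ι) (f.fiberToSpecResidueField y) f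
        (Spec.map (Y.evaluation V y hy) ≫ hV.fromSpec) := by
      rw [hg, hb]
      exact IsPullback.of_hasPullback _ _
    have w : g ≫ fV f hV = f.fiberToSpecResidueField y ≫ Spec.map (Y.evaluation V y hy) := by
      rw [← cancel_mono hV.fromSpec, Category.assoc, fV_fromSpec, Category.assoc, ← big.w, Category.assoc]
    refine IsPullback.of_right big w ?_
    have h2 : IsPullback (f ⁻¹ᵁ V).ι (f ∣_ V) f V.ι := (isPullback_morphismRestrict f V).flip
    refine h2.of_iso (Iso.refl _) (Iso.refl _) hV.isoSpec (Iso.refl _) (by simp) (by simp [fV]) (by simp) ?_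
    simp [IsAffineOpen.isoSpec_hom_fromSpec]
  · refine hV.fromSpec.isOpenEmbedding.injective ?_
    rw [hV.fromSpec_primeIdealOf]
    exact (congrArg (fun φ : Spec (Y.residueField y) ⟶ Y => φ (⊥ : PrimeSpectrum (Y.residueField y))) hb).trans
      (Scheme.fromSpecResidueField_apply _ _)

/-- Flatness over the base, on sections over affine pieces. -/
theorem flat_appLE (F : X.Modules) [Coh.IsQCoh F] (hfl : FlatMod.IsFlatOver f F) {W : X.Opens} (hW : IsAffineOpen W)
    (hWV : W ≤ f ⁻¹ᵁ V) (hV' : IsAffineOpen V) :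
    letI : Module Γ(Y, V) Γ(F, W) := Module.compHom Γ(F, W) (f.appLE V W hWV).hom
    Module.Flat Γ(Y, V) Γ(F, W) := by
  letI : Algebra Γ(Y, V) Γ(X, W) := (f.appLE V W hWV).hom.toAlgebra
  letI : Module Γ(Y, V) Γ(F, W) := Module.compHom Γ(F, W) (f.appLE V W hWV).hom
  haveI : IsScalarTower Γ(Y, V) Γ(X, W) Γ(F, W) := IsScalarTower.of_algebraMap_smul fun _ _ => rfl
  refine Module.flat_of_isLocalized_maximal (R := Γ(Y, V)) Γ(X, W) Γ(F, W)
    (fun P _ => LocalizedModule P.primeCompl Γ(F, W))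
    (fun P _ => LocalizedModule.mkLinearMap P.primeCompl Γ(F, W)) fun P hP => ?_
  obtain ⟨x, hx, e⟩ : ∃ (x : X) (hx : x ∈ W), (hW.primeIdealOf ⟨x, hx⟩).asIdeal = P := by
    have hm : hW.fromSpec ⟨P, hP.isPrime⟩ ∈ W := by
      have : hW.fromSpec ⟨P, hP.isPrime⟩ ∈ Set.range hW.fromSpec := ⟨_, rfl⟩
      rwa [hW.range_fromSpec] at this
    exact ⟨_, hm, congrArg (fun p : Spec Γ(X, W) => p.asIdeal)
      (hW.fromSpec.isOpenEmbedding.injective (a₁ := hW.primeIdealOf _) (hW.fromSpec_primeIdealOf _))⟩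
  subst e
  exact (Groth.L20.ModStalk.isFlatOverAt_iff f F hV' hW hWV hx).1 (hfl _)

/-- Sections of the restricted module on affine opens are flat over the functions of the affine open. -/
theorem flat_sec_FV (F : X.Modules) [Coh.IsQCoh F] (hfl : FlatMod.IsFlatOver f F)
    {W' : (↑(f ⁻¹ᵁ V) : Scheme.{u}).Opens} (hW' : IsAffineOpen W') :
    Module.Flat Γ(Y, V) (Sec (Coh.toGlobal (A := Γ(Y, V)) (fV f hV)) (FV f (V := V) F) W') := by
  let j := (f ⁻¹ᵁ V).ι
  have hWV : j ''ᵁ W' ≤ f ⁻¹ᵁ V := by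
    rintro _ ⟨x, -, rfl⟩
    exact x.2
  have key : (Scheme.ΓSpecIso Γ(Y, V)).inv ≫ (fV f hV).appLE ⊤ W' le_top ≫ (j.appIso W').inv =
      f.appLE V (j ''ᵁ W') hWV := by
    rw [← Category.assoc, Iso.comp_inv_eq, Scheme.Hom.appIso_hom', Scheme.Hom.appLE_comp_appLE]
    have h1 : (Scheme.ΓSpecIso Γ(Y, V)).inv = hV.fromSpec.appLE V ⊤ hV.fromSpec_preimage_self.ge := by
      rw [Scheme.Hom.appLE, hV.fromSpec_app_self, Category.assoc, ← Functor.map_comp]
      exact ((congrArg ((Scheme.ΓSpecIso Γ(Y, V)).inv ≫ ·) ((Spec Γ(Y, V)).presheaf.map_id _)).trans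
        (Category.comp_id _)).symm
    rw [h1, Scheme.Hom.appLE_comp_appLE]
    congr 1
    exact fV_fromSpec f hV
  have h := flat_appLE f F hfl (hW'.image_of_isOpenImmersion j) hWV hV
  letI : Module Γ(Y, V) Γ(F, j ''ᵁ W') := Module.compHom _ (f.appLE V (j ''ᵁ W') hWV).hom
  haveI : Module.Flat Γ(Y, V) Γ(F, j ''ᵁ W') := h
  refine Module.Flat.of_linearEquiv (M := Γ(F, j ''ᵁ W')) ?_
  exact
    { (AddEquiv.refl Γ(F, j ''ᵁ W')) with
      map_smul' := fun a s => by
        show (j.appIso W').inv (act (Coh.toGlobal (A := Γ(Y, V)) (fV f hV)) W' a) • (show Γ(F, j ''ᵁ W') from s) =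
          f.appLE V (j ''ᵁ W') hWV a • (show Γ(F, j ''ᵁ W') from s)
        rw [← key]
        rfl }

variable [IsProper f] [IsLocallyNoetherian Y]

/-- A finite free complex over an affine open of the base. -/
structure Local (F : X.Modules) where
  /-- the complex -/
  L : CochainComplex (ModuleCat.{u} Γ(Y, V)) ℤ
  finiteFree : ∀ i, Module.Finite Γ(Y, V) (L.X i) ∧ Module.Free Γ(Y, V) (L.X i)
  /-- a degree above which it vanishes -/
  top : ℤ
  isZero_above : ∀ i, top < i → IsZero (L.X i)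
  isZero_neg : ∀ (M : ModuleCat.{u} Γ(Y, V)) (i : ℤ), i < 0 → IsZero (CohIII.T L i M)
  fiberRank_eq : ∀ (y : Y) (hy : y ∈ V) (p : ℕ),
    CohIII.fiberRank f F p y = CohIII.dRank L (p : ℤ) (hV.primeIdealOf ⟨y, hy⟩)
  finite_fiberH : ∀ (y : Y) (_ : y ∈ V) (p : ℕ), Module.Finite (Y.residueField y) (CohIII.fiberH f F y p)
  rpush : ∀ [HasInjectiveResolutions X.Modules] (p : ℕ),
    Nonempty (((Coh.Rpush f p).obj F).restrict hV.fromSpec ≅ tilde (L.homology (p : ℤ)))

theorem nonempty_local (F : X.Modules) (hF : Coh.IsCoh F) (hfl : FlatMod.IsFlatOver f F) :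
    Nonempty (Local f hV F) := by
  haveI : IsNoetherianRing Γ(Y, V) := IsLocallyNoetherian.component_noetherian ⟨V, hV⟩
  haveI : Coh.IsQCoh F := hF.1
  let g₀ : ↑(f ⁻¹ᵁ V) ⟶ Spec (CommRingCat.of Γ(Y, V)) := fV f hV
  haveI : IsProper g₀ := inferInstanceAs (IsProper (fV f hV))
  have hFV := isCoh_FV (V := V) f hF
  haveI : Coh.IsQCoh (FV f (V := V) F) := hFV.1
  obtain ⟨m⟩ := nonempty_model g₀ (FV f (V := V) F) hFV fun W hW => flat_sec_FV f hV F hfl hW
  have hfib : ∀ (y : Y) (hy : y ∈ V) (p : ℕ),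
      CohIII.fiberRank f F p y = CohIII.dRank m.L (p : ℤ) (hV.primeIdealOf ⟨y, hy⟩) ∧
        Module.Finite (Y.residueField y) (CohIII.fiberH f F y p) := by
    intro y hy p
    obtain ⟨g, hg, sq, hpt⟩ := exists_fibre_square f hV y hy
    letI : Algebra Γ(Y, V) (Y.residueField y) := (Y.evaluation V y hy).hom.toAlgebra
    let f' : f.fiber y ⟶ Spec (CommRingCat.of (Y.residueField y)) := f.fiberToSpecResidueField y
    have sq' : IsPullback g f' g₀ (Spec.map (CommRingCat.ofHom (algebraMap Γ(Y, V) (Y.residueField y)))) := sq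
    letI : Module (Y.residueField y) (Coh.HH (f.fiber y) ((Scheme.Modules.pullback g).obj (FV f (V := V) F)) p) :=
      Module.compHom _ (Coh.toGlobal f')
    let e : (Scheme.Modules.pullback g).obj (FV f (V := V) F) ≅ CohIII.fiberMod f F y :=
      (Scheme.Modules.pullback g).mapIso ((Scheme.Modules.restrictFunctorIsoPullback _).app F) ≪≫
        (Scheme.Modules.pullbackComp g (f ⁻¹ᵁ V).ι).app F ≪≫ (Scheme.Modules.pullbackCongr hg).app F
    let E : Coh.HH (f.fiber y) ((Scheme.Modules.pullback g).obj (FV f (V := V) F)) p ≃ₗ[Y.residueField y]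
        CohIII.fiberH f F y p :=
      { (HHequiv e p).toAddEquiv with
        map_smul' := fun a x => (HHequiv e p).map_smul (Coh.toGlobal f' a) x }
    refine ⟨?_, haveI := m.finite_fibre f' g sq' p; Module.Finite.equiv E⟩
    rw [CohIII.fiberRank, ← E.finrank_eq, m.finrank_eq_dRank f' g sq' p]
    exact congrArg _ hpt
  refine ⟨⟨m.L, m.finiteFree, m.top, m.isZero_above, fun M i hi => m.isZero_T_of_neg M hi,
    fun y hy p => (hfib y hy p).1, fun y hy p => (hfib y hy p).2, fun {_} p => ?_⟩⟩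
  haveI := PushQCoh.hasInjectiveResolutions (f ⁻¹ᵁ V : Scheme.{u})
  obtain ⟨e⟩ := PushQCoh.nonempty_Rpush_restrict_iso f hV.fromSpec (f ⁻¹ᵁ V).ι (fV f hV)
    (by rw [hV.opensRange_fromSpec, Scheme.Opens.opensRange_ι]) (fV_fromSpec f hV) F p
  haveI := PushQCoh.isQCoh_Rpush (fV f hV) (FV f (V := V) F) p
  letI : Module Γ(Y, V) (Coh.HH (↑(f ⁻¹ᵁ V) : Scheme.{u}) (FV f (V := V) F) p) :=
    Module.compHom _ (Coh.toGlobal g₀)
  obtain ⟨e'⟩ := m.exists_equiv_self p
  obtain ⟨e''⟩ := Groth.L17.ProperCoh.nonempty_Γ_Rpush_equiv (fV f hV) (FV f (V := V) F) p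
  exact ⟨e ≪≫ (Groth.L18.TildeF.counitIso _).symm ≪≫
    (tilde.functor Γ(Y, V)).mapIso (e'.trans e'').toModuleIso.symm⟩

end Groth.L17.BC
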