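import Groth.Agent.L29.DCoh.ExtZero
import Groth.Agent.L21.Mod.Locality
import Groth.Agent.L17.PushQCoh
import Groth.Agent.L17.QCohExtension
import Groth.Agent.L16.QcqsPush
import Groth.Agent.L29.DCoh.QCohOps
import Groth.Agent.L16.AffineBC.Pullback
import Groth.Prelude.Def_CohPull
import Groth.Agent.L17.SerreCriterion

/-!
# A stalkwise split effacement
-/

set_option autoImplicit false
set_option linter.style.haveILetI false
set_option linter.unusedSectionVars false
set_option backward.isDefEq.respectTransparency false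

universe u

open CategoryTheory CategoryTheory.Limits AlgebraicGeometry TopologicalSpace Opposite

noncomputable section

namespace Groth.L17.BC.Efface

open Groth.L00

variable {X X' : Scheme.{u}}

/-- Stalkwise split monomorphisms. -/
def StalkSplit {M N : X.Modules} (f : M ⟶ N) : Prop := ∀ x, IsSplitMono ((Stk.F X x).map f)

theorem mono_of_stk {M N : X.Modules} (f : M ⟶ N) (h : ∀ x, Mono ((Stk.F X x).map f)) : Mono f :=
  Preadditive.mono_of_isZero_kernel f <| (Stk.isZero_iff _).2 fun x =>
    haveI := h x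
    (isZero_kernel_of_mono ((Stk.F X x).map f)).of_iso (PreservesKernel.iso (Stk.F X x) f)

theorem mono_of_stalkSplit {M N : X.Modules} {f : M ⟶ N} (h : StalkSplit f) : Mono f :=
  mono_of_stk f fun x => haveI := h x; inferInstance

/-- The inverse image of a stalkwise split monomorphism is a monomorphism. -/
theorem mono_pullback {M N : X.Modules} {f : M ⟶ N} (h : StalkSplit f) (g : X' ⟶ X) :
    Mono ((Scheme.Modules.pullback g).map f) := by
  refine mono_of_stk _ fun x => ?_
  haveI := h (g x)
  haveI : IsSplitMono ((ModuleCat.extendScalars (PullStalk.φ g x)).map ((Stk.F X (g x)).map f)) :=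
    IsSplitMono.mk' (((IsSplitMono.exists_splitMono (f := (Stk.F X (g x)).map f)).some).map
      (ModuleCat.extendScalars (PullStalk.φ g x)))
  exact ((MorphismProperty.monomorphisms _).arrow_mk_iso_iff
    (Arrow.isoMk ((PullStalk.stalkIso g x).app M) ((PullStalk.stalkIso g x).app N)
      ((PullStalk.stalkIso g x).hom.naturality f).symm)).2 (inferInstance :
        Mono ((ModuleCat.extendScalars (PullStalk.φ g x)).map ((Stk.F X (g x)).map f)))

/-- The inverse image of a stalkwise split short exact sequence is short exact. -/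
theorem shortExact_pullback {S : ShortComplex X.Modules} (hS : S.ShortExact) (h : StalkSplit S.f) (g : X' ⟶ X) :
    (S.map (Scheme.Modules.pullback g)).ShortExact := by
  haveI := (Scheme.Modules.pullbackPushforwardAdjunction g).isLeftAdjoint
  haveI := hS.epi_g
  exact { exact := hS.exact.map_of_epi_of_preservesCokernel _ inferInstance inferInstance
          mono_f := mono_pullback h g
          epi_g := inferInstanceAs (Epi ((Scheme.Modules.pullback g).map S.g)) }

/-- Sections only depend on the part in the open. -/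
def IsLocalTo (P : X.Modules) (V : X.Opens) : Prop :=
  ∀ (W W' : X.Opens) (h : W' ≤ W), W ⊓ V ≤ W' → Function.Bijective (P.presheaf.map (homOfLE h).op)

theorem isLocalTo_push (V : X.Opens) (G : (V : Scheme.{u}).Modules) :
    IsLocalTo ((Scheme.Modules.pushforward V.ι).obj G) V := by
  intro W W' h h'
  have e : V.ι ⁻¹ᵁ W' = V.ι ⁻¹ᵁ W := le_antisymm (V.ι.preimage_mono h) fun x hx => h' ⟨hx, x.2⟩
  change Function.Bijective (G.presheaf.map ((Opens.map V.ι.base).map (homOfLE h)).op)
  rw [show (Opens.map V.ι.base).map (homOfLE h) = eqToHom e from Subsingleton.elim _ _]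
  exact ConcreteCategory.bijective_of_isIso _

variable (Ω : X.Opens) {ι : Type u} [Finite ι] (U : ι → X.Opens) (F : X.Modules)

/-- The pieces. -/
abbrev P (i : ι) : X.Modules :=
  (Scheme.Modules.pushforward (U i).ι).obj ((Scheme.Modules.restrictFunctor (U i).ι).obj F)

/-- The part away from the open. -/
abbrev D : X.Modules := cokernel ((CxOX.extZeroAdj Ω.ι).counit.app F)

/-- The effacing module. -/
abbrev C : X.Modules := (∏ᶜ P U F) ⊞ D Ω F

/-- The effacing map. -/
def toC : F ⟶ C Ω U F :=
  biprod.lift (Pi.lift fun i => (Scheme.Modules.restrictAdjunction (U i).ι).unit.app F) (cokernel.π _)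

/-- The projection to a piece. -/
def proj (i : ι) : C Ω U F ⟶ P U F i := biprod.fst ≫ Pi.π (P U F) i

theorem toC_proj (i : ι) :
    toC Ω U F ≫ proj Ω U F i = (Scheme.Modules.restrictAdjunction (U i).ι).unit.app F := by
  simp [toC, proj]

theorem isIso_restrict_counit :
    IsIso ((Scheme.Modules.restrictFunctor Ω.ι).map ((CxOX.extZeroAdj Ω.ι).counit.app F)) := by
  haveI := Groth.L29.DC.ExtZero.isIso_unit Ω.ι
  haveI : IsIso ((CxOX.extZeroAdj Ω.ι).unit.app ((Scheme.Modules.restrictFunctor Ω.ι).obj F) ≫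
      (Scheme.Modules.restrictFunctor Ω.ι).map ((CxOX.extZeroAdj Ω.ι).counit.app F)) := by
    rw [(CxOX.extZeroAdj Ω.ι).right_triangle_components]; infer_instance
  exact IsIso.of_isIso_comp_left ((CxOX.extZeroAdj Ω.ι).unit.app ((Scheme.Modules.restrictFunctor Ω.ι).obj F)) _

theorem isZero_restrict_D : IsZero ((Scheme.Modules.restrictFunctor Ω.ι).obj (D Ω F)) :=
  haveI := isIso_restrict_counit Ω F
  (isZero_cokernel_of_epi ((Scheme.Modules.restrictFunctor Ω.ι).map ((CxOX.extZeroAdj Ω.ι).counit.app F))).of_iso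
    (PreservesCokernel.iso _ _)

theorem isIso_stalk_unit (i : ι) {x : X} (hx : x ∈ U i) :
    IsIso ((Stk.F X x).map ((Scheme.Modules.restrictAdjunction (U i).ι).unit.app F)) := by
  let j := (U i).ι
  haveI : IsIso ((Scheme.Modules.restrictFunctor j).map ((Scheme.Modules.restrictAdjunction j).unit.app F)) := by
    haveI : IsIso ((Scheme.Modules.restrictAdjunction j).counit.app ((Scheme.Modules.restrictFunctor j).obj F)) :=
      inferInstance
    haveI : IsIso ((Scheme.Modules.restrictFunctor j).map ((Scheme.Modules.restrictAdjunction j).unit.app F) ≫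
        (Scheme.Modules.restrictAdjunction j).counit.app ((Scheme.Modules.restrictFunctor j).obj F)) := by
      rw [show _ ≫ _ = _ from (Scheme.Modules.restrictAdjunction j).left_triangle_components F]; infer_instance
    exact IsIso.of_isIso_comp_right _
      ((Scheme.Modules.restrictAdjunction j).counit.app ((Scheme.Modules.restrictFunctor j).obj F))
  let y : (U i).toScheme := ⟨x, hx⟩
  haveI : IsIso ((Groth.L21.Mod.stalkF _ y).map
      ((Scheme.Modules.restrictFunctor j).map ((Scheme.Modules.restrictAdjunction j).unit.app F))) := inferInstance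
  have h' := this
  rw [Groth.L21.Mod.restrict_stalk_map] at h'
  have h2 := (MorphismProperty.isomorphisms _).cancel_left_of_respectsIso _ _ |>.mp h'
  have h3 : IsIso ((Groth.L21.Mod.stalkF X x).map ((Scheme.Modules.restrictAdjunction j).unit.app F)) :=
    (MorphismProperty.isomorphisms _).cancel_right_of_respectsIso _ _ |>.mp h2
  haveI : IsIso ((Stk.F X x ⋙ forget₂ (ModuleCat.{u} (X.presheaf.stalk x)) AddCommGrpCat.{u}).map
      ((Scheme.Modules.restrictAdjunction j).unit.app F)) :=
    ((MorphismProperty.isomorphisms _).arrow_mk_iso_iff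
      (Arrow.isoMk ((Stk.forgetIso x).app _) ((Stk.forgetIso x).app _)
        ((Stk.forgetIso x).hom.naturality _).symm)).2 h3
  haveI : IsIso ((forget₂ (ModuleCat.{u} (X.presheaf.stalk x)) AddCommGrpCat.{u}).map
      ((Stk.F X x).map ((Scheme.Modules.restrictAdjunction (U i).ι).unit.app F))) :=
    ‹IsIso ((Stk.F X x ⋙ forget₂ (ModuleCat.{u} (X.presheaf.stalk x)) AddCommGrpCat.{u}).map _)›
  exact isIso_of_reflects_iso _ (forget₂ (ModuleCat.{u} (X.presheaf.stalk x)) AddCommGrpCat.{u})

variable (hU : ∀ x, x ∈ Ω → ∃ i, x ∈ U i)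

include hU in
theorem stalkSplit_toC : StalkSplit (toC Ω U F) := by
  intro x
  by_cases hx : x ∈ Ω
  · obtain ⟨i, hi⟩ := hU x hx
    haveI := isIso_stalk_unit U F i hi
    exact IsSplitMono.mk' ⟨(Stk.F X x).map (proj Ω U F i) ≫
        inv ((Stk.F X x).map ((Scheme.Modules.restrictAdjunction (U i).ι).unit.app F)), by
      rw [← Category.assoc, ← Functor.map_comp, toC_proj, IsIso.hom_inv_id]⟩
  · have hz := Groth.L29.DC.ExtZero.isZero_stalk Ω.ι (x := x) (by rwa [Scheme.Opens.range_ι])
      ((Scheme.Modules.restrictFunctor Ω.ι).obj F)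
    haveI : IsIso ((Stk.F X x).map (cokernel.π ((CxOX.extZeroAdj Ω.ι).counit.app F))) := by
      haveI : IsIso (cokernel.π ((Stk.F X x).map ((CxOX.extZeroAdj Ω.ι).counit.app F))) :=
        cokernel.π_of_zero (hz.eq_of_src _ _)
      rw [show (Stk.F X x).map (cokernel.π ((CxOX.extZeroAdj Ω.ι).counit.app F)) =
        cokernel.π ((Stk.F X x).map ((CxOX.extZeroAdj Ω.ι).counit.app F)) ≫
          (PreservesCokernel.iso (Stk.F X x) _).inv from (π_comp_cokernelComparison _ _).symm.trans (by simp)]
      infer_instance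
    exact IsSplitMono.mk' ⟨(Stk.F X x).map (biprod.snd (X := ∏ᶜ P U F)) ≫
        inv ((Stk.F X x).map (cokernel.π ((CxOX.extZeroAdj Ω.ι).counit.app F))), by
      rw [← Category.assoc, ← Functor.map_comp,
        show toC Ω U F ≫ biprod.snd = cokernel.π _ from biprod.lift_snd _ _, IsIso.hom_inv_id]⟩

/-- The effacing sequence. -/
def S : ShortComplex X.Modules := ShortComplex.mk (toC Ω U F) (cokernel.π _) (cokernel.condition _)

include hU in
theorem shortExact_S : (S Ω U F).ShortExact := by
  haveI := mono_of_stalkSplit (stalkSplit_toC Ω U F hU)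
  exact { exact := ShortComplex.exact_of_g_is_cokernel _ (cokernelIsCokernel _)
          mono_f := inferInstanceAs (Mono (toC Ω U F))
          epi_g := inferInstanceAs (Epi (cokernel.π _)) }

/-- The inclusion of a piece. -/
def incl (i : ι) : P U F i ⟶ C Ω U F :=
  haveI := Classical.decEq ι
  Pi.lift (fun k => if hk : i = k then eqToHom (congrArg (P U F) hk) else 0) ≫ biprod.inl

/-- The module decomposes into the pieces and the part away from the open. -/
theorem sum_proj_incl [Fintype ι] :
    ∑ i, proj Ω U F i ≫ incl Ω U F i + biprod.snd ≫ biprod.inr = 𝟙 (C Ω U F) := by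
  classical
  have hid : ∑ i, Pi.π (P U F) i ≫ Pi.lift (fun k => if hk : i = k then eqToHom (congrArg (P U F) hk) else 0) =
      𝟙 (∏ᶜ P U F) := by
    refine Pi.hom_ext _ _ fun k => ?_
    simp only [Preadditive.sum_comp, Category.assoc, Category.id_comp, Pi.lift_π]
    rw [Finset.sum_eq_single k (fun i _ hi => by rw [dif_neg hi, comp_zero])
      (fun hk => absurd (Finset.mem_univ k) hk)]
    simp
  refine Eq.trans ?_ (biprod.total (X := ∏ᶜ P U F) (Y := D Ω F))
  refine congrArg (· + biprod.snd ≫ biprod.inr) ?_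
  have key : ∀ i, proj Ω U F i ≫ incl Ω U F i = biprod.fst ≫
      (Pi.π (P U F) i ≫ Pi.lift (fun k => if hk : i = k then eqToHom (congrArg (P U F) hk) else 0)) ≫ biprod.inl :=
    fun i => by
      unfold proj incl
      simp only [Category.assoc]
  rw [Finset.sum_congr rfl fun i _ => key i, ← Preadditive.comp_sum, ← Preadditive.sum_comp, hid, Category.id_comp]

theorem isQCoh_restrict_push [QuasiSeparatedSpace (Ω : Scheme.{u})] {V : X.Opens} (h : V ≤ Ω)
    (haff : IsAffineOpen V) (G : (V : Scheme.{u}).Modules) [Coh.IsQCoh G] :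
    Coh.IsQCoh (((Scheme.Modules.pushforward V.ι).obj G).restrict Ω.ι) := by
  haveI : IsAffine V.toScheme := haff
  haveI hG : Coh.IsQCoh (G.restrict (𝟙 V.toScheme)) := Scheme.Modules.isQuasicoherent_restrictFunctor _ _
  have hpush : Coh.IsQCoh ((Scheme.Modules.pushforward (X.homOfLE h)).obj (G.restrict (𝟙 V.toScheme))) :=
    Groth.L16.QcqsPush.isQCoh_push (f := X.homOfLE h) (M := G.restrict (𝟙 V.toScheme))
  have hr : V.ι ⁻¹ᵁ Ω.ι.opensRange ≤ Scheme.Hom.opensRange (𝟙 V.toScheme) := fun x _ => ⟨x, rfl⟩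
  have w : X.homOfLE h ≫ Ω.ι = 𝟙 V.toScheme ≫ V.ι := by rw [Category.id_comp, X.homOfLE_ι]
  let E := PushQCoh.pushRestrictIso V.ι Ω.ι (𝟙 V.toScheme) (X.homOfLE h) hr w
  let e : ((Scheme.Modules.pushforward V.ι).obj G).restrict Ω.ι ≅
      (Scheme.Modules.pushforward (X.homOfLE h)).obj (G.restrict (𝟙 V.toScheme)) := E.app G
  exact Groth.L29.DC.isQCoh_of_iso' e.symm hpush

theorem isQCoh_restrict_of_le [hF : Coh.IsQCoh (F.restrict Ω.ι)] {V : X.Opens} (h : V ≤ Ω) :
    Coh.IsQCoh (F.restrict V.ι) := by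
  haveI hF' : Coh.IsQCoh ((F.restrict Ω.ι).restrict (X.homOfLE h)) :=
    Scheme.Modules.isQuasicoherent_restrictFunctor _ _
  let e : (F.restrict Ω.ι).restrict (X.homOfLE h) ≅ F.restrict V.ι :=
    ((Scheme.Modules.restrictFunctorComp (X.homOfLE h) Ω.ι).symm ≪≫
      Scheme.Modules.restrictFunctorCongr (X.homOfLE_ι h)).app F
  exact Groth.L29.DC.isQCoh_of_iso' e hF'

theorem isQCoh_restrict_P [QuasiSeparatedSpace (Ω : Scheme.{u})] [Coh.IsQCoh (F.restrict Ω.ι)] (i : ι)
    (hUΩ : U i ≤ Ω) (haff : IsAffineOpen (U i)) : Coh.IsQCoh ((P U F i).restrict Ω.ι) := by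
  haveI : Coh.IsQCoh ((Scheme.Modules.restrictFunctor (U i).ι).obj F) := isQCoh_restrict_of_le Ω F hUΩ
  exact isQCoh_restrict_push Ω hUΩ haff _

theorem isQCoh_restrict_C [QuasiSeparatedSpace (Ω : Scheme.{u})] [Coh.IsQCoh (F.restrict Ω.ι)]
    (hUΩ : ∀ i, U i ≤ Ω) (haff : ∀ i, IsAffineOpen (U i)) : Coh.IsQCoh ((C Ω U F).restrict Ω.ι) := by
  let R := Scheme.Modules.restrictFunctor Ω.ι
  haveI : R.Additive :=
    haveI := preservesBinaryBiproducts_of_preservesBinaryCoproducts R
    Functor.additive_of_preservesBinaryBiproducts _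
  refine Groth.L17.QCohExtension.isQCoh_extension _
    (((ShortComplex.Splitting.ofHasBinaryBiproduct (∏ᶜ P U F) (D Ω F)).map R).shortExact) ?_ ?_
  · exact Groth.L29.DC.isQCoh_of_iso' (PreservesProduct.iso R (P U F)).symm
      (Groth.L17.Serre.isQCoh_piObj _ fun i => isQCoh_restrict_P Ω U F i (hUΩ i) (haff i))
  · exact Groth.L29.DC.isQCoh_of_isZero (isZero_restrict_D Ω F)

theorem isQCoh_restrict_Q [QuasiSeparatedSpace (Ω : Scheme.{u})] [hF : Coh.IsQCoh (F.restrict Ω.ι)]
    (hUΩ : ∀ i, U i ≤ Ω) (haff : ∀ i, IsAffineOpen (U i)) : Coh.IsQCoh ((S Ω U F).X₃.restrict Ω.ι) :=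
  Groth.L29.DC.isQCoh_of_iso' (PreservesCokernel.iso (Scheme.Modules.restrictFunctor Ω.ι) (toC Ω U F)).symm
    (Groth.L29.DC.isQCoh_cokernel' _ hF (isQCoh_restrict_C Ω U F hUΩ haff))

end Groth.L17.BC.Efface
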