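import Groth.Agent.L17.BC.CechA
import Groth.Agent.L17.BC.Efface

/-!
# Maps of Čech cochains, exact sequences of sections and a contracting homotopy
-/

set_option autoImplicit false
set_option linter.style.haveILetI false
set_option linter.unusedSectionVars false
set_option backward.isDefEq.respectTransparency false

universe u

open CategoryTheory CategoryTheory.Limits AlgebraicGeometry TopologicalSpace Opposite

noncomputable section

namespace Groth.L17.BC

open Groth.L18.Frame (rs ro rs_rs rs_self rs_smul ro_ro)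

namespace Cochains

variable {X : Scheme.{u}}

theorem app_rs {M N : X.Modules} (φ : M ⟶ N) {W W' : X.Opens} (h : W' ≤ W) (s : Γ(M, W)) :
    φ.app W' (rs M h s) = rs N h (φ.app W s) :=
  congr($(φ.mapPresheaf.naturality (homOfLE h).op) s)

/-- Sections are left exact. -/
theorem exact_left {S : ShortComplex X.Modules} (hS : S.Exact) [Mono S.f] (W : X.Opens) :
    Function.Injective (S.f.app W) ∧
      ∀ t : Γ(S.X₂, W), S.g.app W t = 0 → ∃ a : Γ(S.X₁, W), S.f.app W a = t := by
  let E := SheafOfModules.evaluation.{u} X.ringCatSheaf (op W)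
  haveI : E.Additive := Functor.additive_of_preserves_binary_products E
  let S' := (ShortComplex.mk S.f S.g S.zero).map E
  have hk : IsLimit (KernelFork.ofι S'.f S'.zero) := isLimitForkMapOfIsLimit' E S.zero hS.fIsKernel
  haveI : Mono S'.f := mono_of_isLimit_fork hk
  exact ⟨(ModuleCat.mono_iff_injective S'.f).1 inferInstance,
    fun t ht => (ShortComplex.moduleCat_exact_iff S').1 (ShortComplex.exact_of_f_is_kernel S' hk) t ht⟩

/-- Sections on affine opens of an exact sequence of quasi-coherent modules are exact. -/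
theorem exact_app {S : ShortComplex X.Modules} (hS : S.Exact) [Coh.IsQCoh S.X₁] [Coh.IsQCoh S.X₂]
    [Coh.IsQCoh S.X₃] {W : X.Opens} (hW : IsAffineOpen W) (t : Γ(S.X₂, W)) (ht : S.g.app W t = 0) :
    ∃ a : Γ(S.X₁, W), S.f.app W a = t := by
  haveI : Coh.IsQCoh (kernel S.g) := Groth.L29.DC.isQCoh_kernel' S.g inferInstance inferInstance
  haveI : Epi (kernel.lift S.g S.f S.zero) := hS.epi_kernelLift
  obtain ⟨t', rfl⟩ := (exact_left (S := ShortComplex.mk (kernel.ι S.g) S.g (kernel.condition _))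
    (ShortComplex.exact_of_f_is_kernel _ (kernelIsKernel S.g)) W).2 t ht
  obtain ⟨a, rfl⟩ := Groth.L16.AffineBC.surjective_app_of_epi (kernel.lift S.g S.f S.zero) hW t'
  exact ⟨a, congr($(congrArg (fun k => Scheme.Modules.Hom.app k W) (kernel.lift_ι S.g S.f S.zero).symm) a)⟩

/-- The same, when the modules are only known to be quasi-coherent over the affine open. -/
theorem exact_app_on {S : ShortComplex X.Modules} (hS : S.Exact) {V : X.Opens} (hV : IsAffineOpen V)
    [Coh.IsQCoh (S.X₁.restrict V.ι)] [Coh.IsQCoh (S.X₂.restrict V.ι)] [Coh.IsQCoh (S.X₃.restrict V.ι)]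
    (t : Γ(S.X₂, V)) (ht : S.g.app V t = 0) : ∃ a : Γ(S.X₁, V), S.f.app V a = t := by
  haveI : IsAffine V.toScheme := hV
  let R := Scheme.Modules.restrictFunctor V.ι
  haveI : R.Additive :=
    haveI := preservesBinaryBiproducts_of_preservesBinaryCoproducts R
    Functor.additive_of_preservesBinaryBiproducts _
  haveI : Coh.IsQCoh (S.map R).X₁ := ‹Coh.IsQCoh (S.X₁.restrict V.ι)›
  haveI : Coh.IsQCoh (S.map R).X₂ := ‹Coh.IsQCoh (S.X₂.restrict V.ι)›
  haveI : Coh.IsQCoh (S.map R).X₃ := ‹Coh.IsQCoh (S.X₃.restrict V.ι)›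
  have h1 : V.ι ''ᵁ (⊤ : V.toScheme.Opens) ≤ V := V.ι_image_top.le
  have h2 : V ≤ V.ι ''ᵁ (⊤ : V.toScheme.Opens) := V.ι_image_top.ge
  obtain ⟨a, ha⟩ := exact_app (hS.map R) (isAffineOpen_top V.toScheme) (rs S.X₂ h1 t) (by
    show S.g.app (V.ι ''ᵁ ⊤) (rs S.X₂ h1 t) = 0
    rw [app_rs, ht]; exact map_zero _)
  refine ⟨rs S.X₁ h2 (show Γ(S.X₁, V.ι ''ᵁ ⊤) from a), ?_⟩
  rw [app_rs]
  exact (congrArg (rs S.X₂ h2) ha).trans ((rs_rs S.X₂ _ _ t).trans (rs_self S.X₂ _ t))

/-- Sections on an affine open of a map which is an epimorphism near it. -/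
theorem surjective_app_on {M N : X.Modules} (φ : M ⟶ N) [Epi φ] {V : X.Opens} (hV : IsAffineOpen V)
    [Coh.IsQCoh (M.restrict V.ι)] [Coh.IsQCoh (N.restrict V.ι)] : Function.Surjective (φ.app V) := by
  intro t
  haveI : IsAffine V.toScheme := hV
  let R := Scheme.Modules.restrictFunctor V.ι
  haveI : Coh.IsQCoh (R.obj M) := ‹Coh.IsQCoh (M.restrict V.ι)›
  haveI : Coh.IsQCoh (R.obj N) := ‹Coh.IsQCoh (N.restrict V.ι)›
  have h1 : V.ι ''ᵁ (⊤ : V.toScheme.Opens) ≤ V := V.ι_image_top.le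
  have h2 : V ≤ V.ι ''ᵁ (⊤ : V.toScheme.Opens) := V.ι_image_top.ge
  obtain ⟨a, ha⟩ := Groth.L16.AffineBC.surjective_app_of_epi (R.map φ) (isAffineOpen_top V.toScheme) (rs N h1 t)
  refine ⟨rs M h2 (show Γ(M, V.ι ''ᵁ ⊤) from a), ?_⟩
  rw [app_rs]
  exact (congrArg (rs N h2) ha).trans ((rs_rs N _ _ t).trans (rs_self N _ t))

variable {A : Type u} [CommRing A] (ρ : A →+* Coh.Γtop X)

/-- A map of modules on sections, linearly. -/
def appL {M N : X.Modules} (φ : M ⟶ N) (W : X.Opens) : Sec ρ M W →ₗ[A] Sec ρ N W where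
  toFun s := φ.app W s
  map_add' a b := map_add (φ.app W).hom a b
  map_smul' a s := φ.app_smul (act ρ W a) s

theorem appL_res {M N : X.Modules} (φ : M ⟶ N) {V W : X.Opens} (h : W ≤ V) (s : Sec ρ M V) :
    appL ρ φ W (resL ρ M h s) = resL ρ N h (appL ρ φ V s) :=
  app_rs φ h s

variable {ι : Type u} (U : ι → X.Opens)

/-- A map of modules on cochains. -/
def mapC {M N : X.Modules} (φ : M ⟶ N) (i : ℤ) : C ρ M U i →ₗ[A] C ρ N U i :=
  LinearMap.pi fun a => (appL ρ φ _).comp (LinearMap.proj (φ := fun b : Idx ι i => Sec ρ M (opn U b.1)) a)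

theorem mapC_apply {M N : X.Modules} (φ : M ⟶ N) (i : ℤ) (x : C ρ M U i) (a : Idx ι i) :
    mapC ρ U φ i x a = appL ρ φ _ (x a) := rfl

theorem mapC_dL {M N : X.Modules} (φ : M ⟶ N) (i : ℤ) (x : C ρ M U i) :
    mapC ρ U φ (i + 1) (dL ρ M U i x) = dL ρ N U i (mapC ρ U φ i x) := by
  by_cases hi : 0 ≤ i
  · funext a
    rw [mapC_apply, dL_apply ρ M U hi, dL_apply ρ N U hi, map_sum]
    refine Finset.sum_congr rfl fun k _ => ?_
    rw [map_zsmul]
    exact congrArg _ (appL_res ρ φ _ _)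
  · haveI := subsingleton_C ρ M U (i := i) (by omega)
    rw [Subsingleton.elim x 0, map_zero, map_zero, map_zero, map_zero]

theorem mapC_comp {M N P : X.Modules} (φ : M ⟶ N) (ψ : N ⟶ P) (i : ℤ) (x : C ρ M U i) :
    mapC ρ U ψ i (mapC ρ U φ i x) = mapC ρ U (φ ≫ ψ) i x := rfl

theorem mapC_exact {S : ShortComplex X.Modules} (hS : S.Exact) [Mono S.f] (i : ℤ) :
    Function.Injective (mapC ρ U S.f i) ∧
      ∀ y, mapC ρ U S.g i y = 0 → ∃ x, mapC ρ U S.f i x = y := by
  refine ⟨fun x y h => funext fun a => (exact_left hS _).1 (congrFun h a), fun y hy => ?_⟩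
  choose x hx using fun a : Idx ι i => (exact_left hS (opn U a.1)).2 (y a) (congrFun hy a)
  exact ⟨x, funext hx⟩

theorem mapC_surjective {M N : X.Modules} [Coh.IsQCoh M] [Coh.IsQCoh N] (φ : M ⟶ N) [Epi φ]
    (haff : ∀ (n : ℕ) (a : Fin (n + 1) → ι), IsAffineOpen (⨅ k, U (a k))) (i : ℤ) :
    Function.Surjective (mapC ρ U φ i) := by
  intro y
  choose x hx using fun a : Idx ι i => Groth.L16.AffineBC.surjective_app_of_epi φ
    (show IsAffineOpen (opn U a.1) by
      obtain ⟨l, hl, hne⟩ := a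
      obtain ⟨n, hn⟩ : ∃ n, l.length = n + 1 := Nat.exists_eq_succ_of_ne_zero (by simpa using hne)
      have : opn U l = ⨅ k : Fin (n + 1), U l[k.1] := by
        refine le_antisymm (le_iInf fun k => iInf_le (fun k : Fin l.length => U l[k.1]) ⟨k.1, by omega⟩)
          (le_iInf fun k => iInf_le (fun k : Fin (n + 1) => U l[k.1]) ⟨k.1, by omega⟩)
      rw [this]
      exact haff n _) (y a)
  exact ⟨x, funext hx⟩

/-- Modules local to a member of the family have bijective restrictions to the smaller intersections. -/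
theorem bijective_resL_of_isLocalTo {M : X.Modules} {j : ι} (hM : Efface.IsLocalTo M (U j)) (l : List ι)
    (h : opn U (j :: l) ≤ opn U l) : Function.Bijective (resL ρ M h) :=
  hM (opn U l) (opn U (j :: l)) h
    (le_iInf fun k => Fin.cases inf_le_right (fun k' => inf_le_left.trans (iInf_le (fun k : Fin l.length => U l[k.1]) k')) k)

theorem mapC_d {M N : X.Modules} (φ : M ⟶ N) (i j : ℤ) (x : C ρ M U i) :
    mapC ρ U φ j ((K ρ M U).d i j x) = (K ρ N U).d i j (mapC ρ U φ i x) := by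
  by_cases h : i + 1 = j
  · subst h
    exact (congrArg (mapC ρ U φ (i + 1)) (K_d ρ M U i x)).trans
      ((mapC_dL ρ U φ i x).trans (K_d ρ N U i _).symm)
  · rw [(K ρ M U).shape i j (by simpa using h), (K ρ N U).shape i j (by simpa using h)]
    exact map_zero _

/-- A module built from pieces local to members of the family has no Čech cohomology in positive degree. -/
theorem exists_primitive [Fintype ι] {M : X.Modules} (P : ι → X.Modules) (p : ∀ j, M ⟶ P j) (q : ∀ j, P j ⟶ M)
    (hsum : ∑ j, p j ≫ q j = 𝟙 M)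
    (hloc : ∀ (j : ι) (l : List ι) (h : opn U (j :: l) ≤ opn U l), l ≠ [] →
      Function.Bijective (resL ρ (P j) h)) {i : ℤ} (hi : 0 ≤ i)
    (z : C ρ M U (i + 1)) (hz : dL ρ M U (i + 1) z = 0) : ∃ v, dL ρ M U i v = z := by
  classical
  let cons : ∀ {k : ℤ}, ι → Idx ι k → Idx ι (k + 1) := fun j a =>
    ⟨j :: a.1, by rw [List.length_cons]; push_cast; rw [a.2.1], List.cons_ne_nil _ _⟩
  have hle : ∀ (j : ι) (l : List ι), opn U (j :: l) ≤ opn U l := fun j l =>
    opn_le_opn U fun x hx => List.mem_cons_of_mem _ hx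
  choose w hw using fun (j : ι) (a : Idx ι i) =>
    (hloc j a.1 (hle j a.1) a.2.2).2 (appL ρ (p j) (opn U (cons j a).1) (z (cons j a)))
  let w' : ∀ j, C ρ (P j) U i := fun j a => w j a
  have hw' : ∀ (j : ι) (a : Idx ι i),
      resL ρ (P j) (hle j a.1) (w' j a) = appL ρ (p j) (opn U (cons j a).1) (z (cons j a)) := hw
  have key : ∀ j, dL ρ (P j) U i (w' j) = mapC ρ U (p j) (i + 1) z := by
    intro j
    funext b
    refine (hloc j b.1 (hle j b.1) b.2.2).1 ?_
    show resL ρ (P j) (hle j b.1) (dL ρ (P j) U i (w' j) b) = resL ρ (P j) (hle j b.1) (appL ρ (p j) _ (z b))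
    rw [dL_apply ρ (P j) U hi, map_sum]
    have h0 := congrFun hz (cons j b)
    rw [dL_apply ρ M U (by omega : 0 ≤ i + 1)] at h0
    erw [Fin.sum_univ_succ] at h0
    have h1 : resL ρ M (hle j b.1) (z b) =
        ∑ k : Fin b.1.length, ((-1 : ℤ) ^ k.1) •
          resL ρ M (opn_le_erase U (j :: b.1) (k.1 + 1)) (z (cons j ⟨b.1.eraseIdx k.1, length_erase hi b k⟩)) := by
      have h0' := eq_neg_of_add_eq_zero_left h0
      simp only [Fin.val_zero, pow_zero, one_smul, Fin.val_succ] at h0'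
      refine h0'.trans ?_
      rw [← Finset.sum_neg_distrib]
      refine Finset.sum_congr rfl fun k _ => ?_
      rw [← neg_smul, pow_succ, mul_neg_one, neg_neg]
      rfl
    rw [← appL_res, h1, map_sum]
    refine Finset.sum_congr rfl fun k _ => ?_
    rw [map_zsmul, map_zsmul]
    refine congrArg _ ?_
    rw [appL_res]
    have e := hw' j ⟨b.1.eraseIdx k.1, length_erase hi b k⟩
    refine Eq.trans ?_ (congrArg (fun x => rs (P j) (opn_le_erase U (j :: b.1) (k.1 + 1)) x) e)
    show rs (P j) _ (rs (P j) _ _) = rs (P j) _ (rs (P j) _ _)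
    exact (rs_rs (P j) _ _ _).trans (rs_rs (P j) _ _ _).symm
  refine ⟨∑ j, mapC ρ U (q j) i (w' j), ?_⟩
  rw [map_sum]
  have : ∀ j, dL ρ M U i (mapC ρ U (q j) i (w' j)) = mapC ρ U (p j ≫ q j) (i + 1) z := fun j => by
    rw [← mapC_dL, key j, mapC_comp]
  rw [Finset.sum_congr rfl fun j _ => this j]
  funext b
  rw [Finset.sum_apply]
  show ∑ j, (p j ≫ q j).app (opn U b.1) (show Γ(M, opn U b.1) from z b) = (show Γ(M, opn U b.1) from z b)
  have h := congr($(congrArg (fun k => Scheme.Modules.Hom.app k (opn U b.1)) hsum) (show Γ(M, opn U b.1) from z b))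
  refine Eq.trans ?_ h
  let T : (M ⟶ M) →+ Γ(M, opn U b.1) := AddMonoidHom.mk' (fun k => k.app (opn U b.1) (show Γ(M, opn U b.1) from z b))
    fun _ _ => rfl
  exact (map_sum T (fun j => p j ≫ q j) Finset.univ).symm

end Cochains

end Groth.L17.BC
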