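import Groth.Agent.L17.BC.CechA
import Groth.Prelude.Def_ega3
import Mathlib.Data.Set.Finite.List
import Groth.Agent.L16.AffineBC.Pullback
import Mathlib.RingTheory.TensorProduct.IsBaseChangePi
import Mathlib.AlgebraicGeometry.Pullbacks

/-!
# The Čech complex and affine base change
-/

set_option autoImplicit false
set_option linter.style.haveILetI false
set_option backward.isDefEq.respectTransparency false

universe u

open CategoryTheory CategoryTheory.Limits AlgebraicGeometry TopologicalSpace Opposite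
open scoped TensorProduct

noncomputable section

namespace Groth.L17.BC

open Groth.L18.Frame (rs ro rs_rs rs_self rs_smul ro_ro pull pull_rs pull_smul)

variable {X X' : Scheme.{u}} {A B : Type u} [CommRing A] [CommRing B] [Algebra A B]
  (g : X' ⟶ X) (ρ : A →+* Coh.Γtop X) (ρ' : B →+* Coh.Γtop X') (F : X.Modules)

/-- The pulled back module. -/
abbrev Fb : X'.Modules := (Scheme.Modules.pullback g).obj F

/-- Compatibility of the two actions. -/
def Compat : Prop := ∀ a : A, g.appTop (ρ a) = ρ' (algebraMap A B a)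

omit [Algebra A B] in
theorem app_act {V : X.Opens} {W : X'.Opens} (e : W ≤ g ⁻¹ᵁ V) (a : A) (a' : B)
    (h : g.appTop (ρ a) = ρ' a') :
    ro e (g.app V (act ρ V a)) = act ρ' W a' := by
  show ro e (g.app V (ro le_top (ρ a))) = ro le_top (ρ' a')
  rw [show g.app V (ro le_top (ρ a)) = ro (g.preimage_mono (le_top : V ≤ ⊤)) (g.app ⊤ (ρ a)) from
    ConcreteCategory.congr_hom (g.naturality (homOfLE (le_top : V ≤ ⊤)).op) (ρ a), ro_ro, ← h]
  rfl

variable (hc : Compat g ρ ρ')

instance secModuleA (W : X'.Opens) : Module A (Sec ρ' (Fb g F) W) :=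
  Module.compHom _ (algebraMap A B)

instance secTower (W : X'.Opens) : IsScalarTower A B (Sec ρ' (Fb g F) W) :=
  IsScalarTower.of_algebraMap_smul fun _ _ => rfl

/-- The pullback of sections, linearly. -/
def pullL {V : X.Opens} {W : X'.Opens} (e : W ≤ g ⁻¹ᵁ V) : Sec ρ F V →ₗ[A] Sec ρ' (Fb g F) W where
  toFun m := rs (Fb g F) e (pull g F V m)
  map_add' m m' := (congrArg (rs (Fb g F) e)
    (map_add (((Scheme.Modules.pullbackPushforwardAdjunction g).unit.app F).app V).hom m m')).trans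
      (map_add ((Fb g F).presheaf.map (homOfLE e).op).hom _ _)
  map_smul' a m := by
    show rs (Fb g F) e (pull g F V (act ρ V a • (show Γ(F, V) from m))) =
      act ρ' W (algebraMap A B a) • rs (Fb g F) e (pull g F V (show Γ(F, V) from m))
    rw [pull_smul, rs_smul, app_act g ρ ρ' e a _ (hc a)]

include hc in
theorem pullL_res {V V' : X.Opens} {W W' : X'.Opens} (e : W ≤ g ⁻¹ᵁ V) (e' : W' ≤ g ⁻¹ᵁ V')
    (h : V' ≤ V) (h' : W' ≤ W) (m : Sec ρ F V) :
    resL ρ' (Fb g F) h' (pullL g ρ ρ' F hc e m) = pullL g ρ ρ' F hc e' (resL ρ F h m) := by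
  show rs (Fb g F) h' (rs (Fb g F) e (pull g F V m)) = rs (Fb g F) e' (pull g F V' (rs F h m))
  rw [← pull_rs g F h, rs_rs, rs_rs]

/-- Base change on every affine open. -/
def HasBC : Prop := ∀ (V : X.Opens) (_ : IsAffineOpen V) (W : X'.Opens) (e : W = g ⁻¹ᵁ V),
  IsBaseChange B (pullL g ρ ρ' F hc e.le)

variable {ι : Type u} (U : ι → X.Opens)

/-- The preimages. -/
abbrev Ub : ι → X'.Opens := fun i => g ⁻¹ᵁ U i

omit [CommRing A] [CommRing B] [Algebra A B] in
theorem preimage_opn (a : List ι) : g ⁻¹ᵁ opn U a = opn (Ub g U) a := by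
  apply TopologicalSpace.Opens.ext
  ext x
  simp only [opn]
  rw [SetLike.mem_coe, SetLike.mem_coe]
  show g x ∈ (⨅ k : Fin a.length, U a[k.1] : X.Opens) ↔ x ∈ (⨅ k : Fin a.length, g ⁻¹ᵁ U a[k.1] : X'.Opens)
  rw [← SetLike.mem_coe, ← SetLike.mem_coe (x := x), Opens.coe_iInf, Opens.coe_iInf, Set.mem_iInter,
    Set.mem_iInter]
  rfl

omit [CommRing A] [CommRing B] [Algebra A B] in
theorem isAffineOpen_iInf_preimage [IsAffineHom g] (haff : ∀ (n : ℕ) (a : Fin (n + 1) → ι), IsAffineOpen (⨅ k, U (a k)))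
    (n : ℕ) (a : Fin (n + 1) → ι) : IsAffineOpen (⨅ k, Ub g U (a k)) := by
  have e : g ⁻¹ᵁ (⨅ k, U (a k)) = ⨅ k, Ub g U (a k) := by
    apply TopologicalSpace.Opens.ext
    ext x
    show g x ∈ ((⨅ k, U (a k) : X.Opens) : Set X) ↔ x ∈ ((⨅ k, g ⁻¹ᵁ U (a k) : X'.Opens) : Set X')
    rw [Opens.coe_iInf, Opens.coe_iInf, Set.mem_iInter, Set.mem_iInter]
    rfl
  rw [← e]
  exact (haff n a).preimage g

omit [CommRing A] [CommRing B] [Algebra A B] in
theorem isAffineOpen_opn (haff : ∀ (n : ℕ) (a : Fin (n + 1) → ι), IsAffineOpen (⨅ k, U (a k)))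
    {i : ℤ} (a : Idx ι i) : IsAffineOpen (opn U a.1) := by
  obtain ⟨n, hn⟩ : ∃ n, a.1.length = n + 1 := ⟨a.1.length - 1, by
    have := List.length_pos_iff.2 a.2.2; omega⟩
  have e : opn U a.1 = ⨅ k : Fin (n + 1), U (a.1[k.1]'(by omega)) := by
    refine le_antisymm (le_iInf fun k => ?_) (le_iInf fun k => ?_)
    · exact iInf_le (fun l : Fin a.1.length => U a.1[l.1]) ⟨k.1, by omega⟩
    · exact iInf_le (fun l : Fin (n + 1) => U (a.1[l.1]'(by omega))) ⟨k.1, by omega⟩
  rw [e]
  exact haff n _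

/-- Pullback of cochains. -/
def Φ (i : ℤ) : C ρ F U i →ₗ[A] C ρ' (Fb g F) (Ub g U) i :=
  LinearMap.pi fun a => (pullL g ρ ρ' F hc (preimage_opn g U a.1).ge).comp
    (LinearMap.proj (φ := fun b : Idx ι i => Sec ρ F (opn U b.1)) a)

include hc in
theorem Φ_d (i : ℤ) (x : C ρ F U i) :
    Φ g ρ ρ' F hc U (i + 1) (dL ρ F U i x) = dL ρ' (Fb g F) (Ub g U) i (Φ g ρ ρ' F hc U i x) := by
  by_cases hi : 0 ≤ i
  · funext a
    rw [dL_apply ρ' (Fb g F) (Ub g U) hi]
    show pullL g ρ ρ' F hc _ (dL ρ F U i x a) = _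
    rw [dL_apply ρ F U hi, map_sum]
    refine Finset.sum_congr rfl fun k _ => ?_
    rw [map_zsmul]
    exact congrArg _ (pullL_res g ρ ρ' F hc _ _ _ _ _).symm
  · haveI := subsingleton_C ρ F U (i := i) (by omega)
    rw [Subsingleton.elim x 0, map_zero, map_zero, map_zero, map_zero]

theorem finite_idx [Finite ι] (i : ℤ) : Finite (Idx ι i) :=
  Set.Finite.to_subtype (Set.Finite.subset (List.finite_length_le ι i.toNat.succ) fun a ha => by
    show a.length ≤ i.toNat.succ
    have := ha.1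
    omega)

include hc in
theorem isBaseChange_Φ [Finite ι] (hbc : HasBC g ρ ρ' F hc)
    (haff : ∀ (n : ℕ) (a : Fin (n + 1) → ι), IsAffineOpen (⨅ k, U (a k))) (i : ℤ) :
    IsBaseChange B (Φ g ρ ρ' F hc U i) := by
  haveI := finite_idx (ι := ι) i
  exact IsBaseChange.pi _ fun a => hbc _ (isAffineOpen_opn U haff a) _ (preimage_opn g U a.1).symm

/-- The base changed complex. -/
abbrev Kb (ρ : A →+* Coh.Γtop X) (F : X.Modules) (U : ι → X.Opens) (B : Type u) [CommRing B] [Algebra A B] :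
    CochainComplex (ModuleCat.{u} B) ℤ :=
  CohIII.bcCx (algebraMap A B) (K ρ F U)

theorem nonempty_bcCx_iso_aux {A B : Type u} [CommRing A] [CommRing B] [inst : Algebra A B]
    (ρ : A →+* Coh.Γtop X) (ρ' : B →+* Coh.Γtop X') (hc : Compat g ρ ρ') (φ : A →+* B) (hφ : inst = φ.toAlgebra)
    [Finite ι] (hbc : HasBC g ρ ρ' F hc)
    (haff : ∀ (n : ℕ) (a : Fin (n + 1) → ι), IsAffineOpen (⨅ k, U (a k))) :
    Nonempty (CohIII.bcCx φ (K ρ F U) ≅ K ρ' (Fb g F) (Ub g U)) := by
  subst hφ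
  letI := φ.toAlgebra
  let e : ∀ i, (CohIII.bcCx φ (K ρ F U)).X i ≅ (K ρ' (Fb g F) (Ub g U)).X i := fun i =>
    ((isBaseChange_Φ g ρ ρ' F hc U hbc haff i).equiv).toModuleIso
  refine ⟨HomologicalComplex.Hom.isoOfComponents e fun i j hij => ?_⟩
  obtain rfl : i + 1 = j := hij
  refine ModuleCat.hom_ext (LinearMap.ext fun z => ?_)
  show (K ρ' (Fb g F) (Ub g U)).d i (i + 1) ((e i).hom z) =
    (e (i + 1)).hom (((ModuleCat.extendScalars φ).map ((K ρ F U).d i (i + 1))) z)
  induction z using TensorProduct.induction_on with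
  | zero => simp only [map_zero]
  | add a b ha hb => simp only [map_add, ha, hb]
  | tmul b x =>
    rw [ModuleCat.ExtendScalars.map_tmul]
    refine (K_d ρ' (Fb g F) (Ub g U) i _).trans ?_
    show dL ρ' (Fb g F) (Ub g U) i ((isBaseChange_Φ g ρ ρ' F hc U hbc haff i).equiv (b ⊗ₜ x)) =
      (isBaseChange_Φ g ρ ρ' F hc U hbc haff (i + 1)).equiv (b ⊗ₜ ((K ρ F U).d i (i + 1) x))
    rw [IsBaseChange.equiv_tmul, IsBaseChange.equiv_tmul, map_smul, K_d, Φ_d]

include hc in
/-- The Čech complex of the pullback is the base change of the Čech complex. -/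
theorem nonempty_bcCx_iso [Finite ι] (hbc : HasBC g ρ ρ' F hc)
    (haff : ∀ (n : ℕ) (a : Fin (n + 1) → ι), IsAffineOpen (⨅ k, U (a k))) :
    Nonempty (CohIII.bcCx (algebraMap A B) (K ρ F U) ≅ K ρ' (Fb g F) (Ub g U)) :=
  nonempty_bcCx_iso_aux g F U ρ ρ' hc (algebraMap A B) (Algebra.algebra_ext _ _ fun _ => rfl) hbc haff

end Groth.L17.BC

namespace Groth.L17.BC

open Groth.L18.Frame (rs ro rs_rs rs_self rs_smul ro_ro pull pull_rs pull_smul)

variable {A B : Type u} [CommRing A] [CommRing B] [Algebra A B] {X X' : Scheme.{u}}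
  (f : X ⟶ Spec (CommRingCat.of A)) (f' : X' ⟶ Spec (CommRingCat.of B)) (g : X' ⟶ X)
  (sq : IsPullback g f' f (Spec.map (CommRingCat.ofHom (algebraMap A B))))

include sq in
theorem compat_of_isPullback : Compat g (Coh.toGlobal f) (Coh.toGlobal f') := fun a => by
  show (f.appTop ≫ g.appTop) ((Scheme.ΓSpecIso (CommRingCat.of A)).inv a) =
    f'.appTop ((CommRingCat.ofHom (algebraMap A B) ≫ (Scheme.ΓSpecIso (CommRingCat.of B)).inv) a)
  rw [← Scheme.Hom.comp_appTop, sq.w, Scheme.Hom.comp_appTop, Scheme.ΓSpecIso_inv_naturality]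
  rfl

include sq in
theorem isAffineHom_of_isPullback : IsAffineHom g :=
  MorphismProperty.of_isPullback (P := @IsAffineHom) sq.flip (inferInstance)

include sq in
theorem isPushout_sections {V : X.Opens} (hV : IsAffineOpen V) :
    IsPushout (CommRingCat.ofHom (act (Coh.toGlobal f) V)) (CommRingCat.ofHom (algebraMap A B))
      (g.app V) (CommRingCat.ofHom (act (Coh.toGlobal f') (g ⁻¹ᵁ V))) := by
  haveI : IsAffine V.toScheme := hV
  have hpb : IsPullback (g ∣_ V) ((g ⁻¹ᵁ V).ι ≫ f') (V.ι ≫ f)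
      (Spec.map (CommRingCat.ofHom (algebraMap A B))) :=
    (isPullback_morphismRestrict g V).paste_vert sq
  refine (isPushout_appTop_of_isPullback hpb).of_iso (Scheme.ΓSpecIso (CommRingCat.of A)) V.topIso
    (Scheme.ΓSpecIso (CommRingCat.of B)) (g ⁻¹ᵁ V).topIso ?_ ?_ ?_ ?_
  · symm
    rw [← Iso.eq_inv_comp, Scheme.Hom.comp_appTop, Scheme.Opens.ι_appTop, Scheme.Opens.topIso_hom,
      Category.assoc]
    erw [← Functor.map_comp]
    rfl
  · exact Scheme.ΓSpecIso_naturality (CommRingCat.ofHom (algebraMap A B))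
  · rw [Scheme.Hom.appTop, morphismRestrict_app', Scheme.Hom.app_eq_appLE, Scheme.Opens.topIso_hom,
      Scheme.Opens.topIso_hom]
    exact (Scheme.Hom.appLE_map g _ _).trans (Scheme.Hom.map_appLE g _ _).symm
  · symm
    rw [← Iso.eq_inv_comp, Scheme.Hom.comp_appTop, Scheme.Opens.ι_appTop, Scheme.Opens.topIso_hom,
      Category.assoc]
    erw [← Functor.map_comp]
    rfl

include sq in
/-- Cartesian squares over affine schemes have base change on affine opens. -/
theorem hasBC_of_isPullback (F : X.Modules) [Coh.IsQCoh F] :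
    HasBC g (Coh.toGlobal f) (Coh.toGlobal f') F (compat_of_isPullback f f' g sq) := by
  intro V hV W e
  subst e
  haveI := isAffineHom_of_isPullback f f' g sq
  set ρ := Coh.toGlobal f
  set ρ' := Coh.toGlobal f'
  let P := (Scheme.Modules.pullback g).obj F
  let W := g ⁻¹ᵁ V
  letI : Algebra A Γ(X, V) := (act ρ V).toAlgebra
  letI : Algebra B Γ(X', W) := (act ρ' W).toAlgebra
  letI : Algebra Γ(X, V) Γ(X', W) := (g.appLE V W le_rfl).hom.toAlgebra
  letI : Algebra A Γ(X', W) := ((act ρ' W).comp (algebraMap A B)).toAlgebra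
  haveI : IsScalarTower A B Γ(X', W) := IsScalarTower.of_algebraMap_eq fun _ => rfl
  have hpo := isPushout_sections f f' g sq hV
  haveI : IsScalarTower A Γ(X, V) Γ(X', W) := IsScalarTower.of_algebraMap_eq fun a => by
    show act ρ' W (algebraMap A B a) = g.appLE V W le_rfl (act ρ V a)
    rw [← Scheme.Hom.app_eq_appLE]
    exact (ConcreteCategory.congr_hom hpo.w a).symm
  letI : Module A Γ(F, V) := Module.compHom Γ(F, V) (act ρ V)
  haveI : IsScalarTower A Γ(X, V) Γ(F, V) := IsScalarTower.of_algebraMap_smul fun _ _ => rfl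
  haveI : Algebra.IsPushout A B Γ(X, V) Γ(X', W) := by
    refine CommRingCat.isPushout_iff_isPushout.1 ?_
    have : CommRingCat.ofHom (algebraMap Γ(X, V) Γ(X', W)) = g.app V := g.app_eq_appLE.symm
    rw [this]
    exact hpo.flip
  letI : Module Γ(X, V) Γ(P, W) := Module.compHom Γ(P, W) (g.appLE V W le_rfl).hom
  haveI : IsScalarTower Γ(X, V) Γ(X', W) Γ(P, W) := IsScalarTower.of_algebraMap_smul fun _ _ => rfl
  have hbc := Groth.L16.AffineBC.isBaseChange_pull g F hV (hV.preimage g) (le_rfl : W ≤ g ⁻¹ᵁ V)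
  let E : B ⊗[A] Γ(F, V) ≃+ Γ(P, W) :=
    (Algebra.IsPushout.cancelBaseChange A B Γ(X, V) Γ(X', W) Γ(F, V)).symm.toAddEquiv.trans
      hbc.equiv.toAddEquiv
  have hE : ∀ (b : B) (m : Γ(F, V)),
      E (b ⊗ₜ[A] m) = act ρ' W b • rs P le_rfl (pull g F V m) := fun b m => by
    show hbc.equiv ((Algebra.IsPushout.cancelBaseChange A B Γ(X, V) Γ(X', W) Γ(F, V)).symm (b ⊗ₜ m)) = _
    rw [Algebra.IsPushout.cancelBaseChange_symm_tmul, IsBaseChange.equiv_tmul]
    rfl
  let E' : (B ⊗[A] Sec ρ F V) →ₗ[B] Sec ρ' (Fb g F) W :=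
    { toFun := fun z => E z
      map_add' := fun z z' => map_add E z z'
      map_smul' := fun b z => by
        show E (b • (show B ⊗[A] Γ(F, V) from z)) = act ρ' W b • E (show B ⊗[A] Γ(F, V) from z)
        induction (show B ⊗[A] Γ(F, V) from z) using TensorProduct.induction_on with
        | zero => simp only [smul_zero, map_zero]
        | add z z' hz hz' => simp only [smul_add, map_add, hz, hz']
        | tmul c m => rw [TensorProduct.smul_tmul', hE, hE, smul_eq_mul, map_mul, mul_smul] }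
  exact IsBaseChange.of_equiv (LinearEquiv.ofBijective E' E.bijective) fun m => by
    refine (hE 1 m).trans ?_
    rw [map_one, one_smul]
    rfl

end Groth.L17.BC
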