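import Groth.Agent.L17.BC.FreeBC
import Groth.Agent.L16.AffineBC.Local
import Groth.Agent.L17.SerreCriterion

/-!
# Base change maps of sheaves from split differentials
-/

set_option autoImplicit false
set_option linter.style.haveILetI false
set_option linter.unusedSectionVars false
set_option backward.isDefEq.respectTransparency false

universe u

open CategoryTheory CategoryTheory.Limits AlgebraicGeometry TopologicalSpace Opposite
open scoped TensorProduct

noncomputable section

namespace Groth.L17.BC.Classes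

open Groth.L18.Frame (rs pull rs_rs)

/-- A morphism of modules which is bijective on small affine opens is an isomorphism. -/
theorem isIso_of_affine {Y : Scheme.{u}} {M N : Y.Modules} (φ : M ⟶ N)
    (h : ∀ y : Y, ∃ W : Y.Opens, y ∈ W ∧ ∀ V ≤ W, IsAffineOpen V → Function.Bijective (φ.app V)) : IsIso φ := by
  rw [Groth.L21.Mod.isIso_iff_stalk_bijective]
  intro y
  obtain ⟨W, hyW, hW⟩ := h y
  have key : ∀ (U : Y.Opens), y ∈ U → ∃ (V : Y.Opens) (hVU : V ≤ U), y ∈ V ∧ Function.Bijective (φ.app V) := by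
    intro U hU
    obtain ⟨_, ⟨V, hV, rfl⟩, hyV, hVU⟩ :=
      Y.isBasis_affineOpens.exists_subset_of_mem_open (a := y) (show y ∈ U ⊓ W from ⟨hU, hyW⟩) (U ⊓ W).2
    exact ⟨V, fun x hx => (hVU hx).1, hyV, hW V (fun x hx => (hVU hx).2) hV⟩
  refine ⟨(injective_iff_map_eq_zero _).2 fun a ha => ?_, fun t => ?_⟩
  · obtain ⟨U, hU, s, rfl⟩ := TopCat.Presheaf.exists_germ_eq (F := M.presheaf) (x := y) a
    erw [Groth.L21.Mod.stalkF_map_germ] at ha
    obtain ⟨U', hU', i₁, i₂, e⟩ := TopCat.Presheaf.germ_eq N.presheaf y hU hU (φ.app U s) 0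
      (ha.trans (map_zero _).symm)
    obtain ⟨V, hVU, hyV, hb⟩ := key U' hU'
    have hs : rs M (hVU.trans i₁.le) s = 0 := by
      refine hb.1 ?_
      rw [map_zero, Cochains.app_rs, ← rs_rs N i₁.le hVU,
        show rs N i₁.le (φ.app U s) = 0 from e.trans (map_zero _)]
      exact map_zero _
    rw [← TopCat.Presheaf.germ_res_apply M.presheaf (homOfLE (hVU.trans i₁.le)) y hyV s]
    exact (congrArg (M.presheaf.germ V y hyV) hs).trans (map_zero _)
  · obtain ⟨U, hU, s, rfl⟩ := TopCat.Presheaf.exists_germ_eq (F := N.presheaf) (x := y) t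
    obtain ⟨V, hVU, hyV, hb⟩ := key U hU
    obtain ⟨a, ha⟩ := hb.2 (rs N hVU s)
    refine ⟨M.presheaf.germ V y hyV a, ?_⟩
    erw [Groth.L21.Mod.stalkF_map_germ]
    rw [ha]
    exact TopCat.Presheaf.germ_res_apply N.presheaf (homOfLE hVU) y hyV s

variable {X S X' S' : Scheme.{u}} {f : X ⟶ S} {g : S' ⟶ S} {f' : X' ⟶ S'} {g' : X' ⟶ X}
  [IsProper f] [LocallyOfFinitePresentation f] [HasInjectiveResolutions X.Modules]
  {F : X.Modules} {V : S.Opens} {hV : IsAffineOpen V}

/-- The complex is split at a point in a degree. -/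
def FreeBC.Split (l : FreeBC f (V := V) F) (hV : IsAffineOpen V) (i : ℕ) {y : S} (hy : y ∈ V) : Prop :=
  SplitAt (l.L.d (i : ℤ) (i + 1)).hom (hV.primeIdealOf ⟨y, hy⟩)

variable [HasInjectiveResolutions X'.Modules] {w : g' ≫ f = f' ≫ g}
  {Δ : RDer.DerivedLES (Scheme.Modules.pushforward f)} {Δ' : RDer.DerivedLES (Scheme.Modules.pushforward f')}
  {E : CohCmp.SectCmp f Δ} {E' : CohCmp.SectCmp f' Δ'} (B : CohCmp.GenBC f g f' g' w E E')

theorem bc_app_pull (p : ℕ) (G : X.Modules) (U : S.Opens) (t : Γ((Coh.Rpush f p).obj G, U)) :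
    (B.bc p G).app (g ⁻¹ᵁ U) (pull g ((Coh.Rpush f p).obj G) U t) = (B.φ p G).app U t :=
  congr($(congrArg (fun k => Scheme.Modules.Hom.app k U)
    (((Scheme.Modules.pullbackPushforwardAdjunction g).homEquiv_unit _ _ (B.bc p G)).symm.trans
      (((Scheme.Modules.pullbackPushforwardAdjunction g).homEquiv _ _).apply_symm_apply (B.φ p G)))) t)

variable {V' : S'.Opens} [Coh.IsQCoh F]

/-- The map on sections over an affine open induced by pullback and the base change map, linearly. -/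
theorem bc_app_pullRes (q : Sq f g f' g' V V') (p : ℕ) (t : Γ((Coh.Rpush f p).obj F, V)) :
    (B.bc p F).app V' (Groth.L16.AffineBC.pullRes g ((Coh.Rpush f p).obj F) q.le t) = q.ψ B p F t := by
  show (B.bc p F).app V' (rs _ q.le (pull g ((Coh.Rpush f p).obj F) V t)) = _
  rw [Cochains.app_rs, bc_app_pull]
  rfl

include B in
/-- Sections of the base change map over an affine open with split differential. -/
theorem bijective_bc_app (q : Sq f g f' g' V V') (l : FreeBC f (V := V) F) (p : ℕ)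
    (h : ∀ (z : S') (hz : z ∈ V'), l.Split q.hV p (q.le hz)) :
    Function.Bijective ((B.bc p F).app V') := by
  letI : Algebra Γ(S, V) Γ(S', V') := q.φ.hom.toAlgebra
  letI : Module Γ(S, V) Γ((Coh.Rpush f' p).obj ((Scheme.Modules.pullback g').obj F), V') :=
    Module.compHom _ (algebraMap Γ(S, V) Γ(S', V'))
  haveI : IsScalarTower Γ(S, V) Γ(S', V') Γ((Coh.Rpush f' p).obj ((Scheme.Modules.pullback g').obj F), V') :=
    IsScalarTower.of_algebraMap_smul fun _ _ => rfl
  obtain ⟨ψl, hψ, ⟨D⟩⟩ := l.bcData q rfl B p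
  have hbc : IsBaseChange Γ(S', V') ψl := by
    refine D.isBaseChange (LinearMap.ext fun x => Transfer.dd_zero l.L _ _ _ x) fun x => ?_
    obtain ⟨z, hz, rfl⟩ : ∃ (z : S') (hz : z ∈ V'), q.hV'.primeIdealOf ⟨z, hz⟩ = x := by
      have hm : q.hV'.fromSpec x ∈ V' := q.hV'.opensRange_fromSpec.le ⟨x, rfl⟩
      exact ⟨_, hm, q.hV'.fromSpec.isOpenEmbedding.injective (q.hV'.fromSpec_primeIdealOf _)⟩
    rw [show PrimeSpectrum.comap (algebraMap Γ(S, V) Γ(S', V')) (q.hV'.primeIdealOf ⟨z, hz⟩) =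
      q.hV.primeIdealOf ⟨g z, q.le hz⟩ from IsAffineOpen.comap_primeIdealOf_appLE V q.hV V' q.hV' q.le hz]
    exact h z hz
  haveI := PushQCoh.isQCoh_Rpush f F p
  letI : Module Γ(S, V) Γ((Scheme.Modules.pullback g).obj ((Coh.Rpush f p).obj F), V') :=
    Module.compHom _ (g.appLE V V' q.le).hom
  haveI : IsScalarTower Γ(S, V) Γ(S', V') Γ((Scheme.Modules.pullback g).obj ((Coh.Rpush f p).obj F), V') :=
    IsScalarTower.of_algebraMap_smul fun _ _ => rfl
  have hpr : IsBaseChange Γ(S', V') (Groth.L16.AffineBC.pullRes g ((Coh.Rpush f p).obj F) q.le) :=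
    Groth.L16.AffineBC.isBaseChange_pull g ((Coh.Rpush f p).obj F) q.hV q.hV' q.le

  have key : ∀ x, (B.bc p F).app V' (hpr.equiv x) = hbc.equiv x := by
    intro x
    induction x using TensorProduct.induction_on with
    | zero => rw [map_zero, map_zero, map_zero]
    | add a b ha hb => rw [map_add, map_add, map_add, ha, hb]
    | tmul b t =>
      rw [IsBaseChange.equiv_tmul, IsBaseChange.equiv_tmul, hψ, ← bc_app_pullRes B q p t]
      exact (B.bc p F).app_smul b _
  have : Function.Bijective (fun x => (B.bc p F).app V' (hpr.equiv x)) := by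
    rw [funext key]; exact hbc.equiv.bijective
  exact (Function.Bijective.of_comp_iff _ hpr.equiv.bijective).1 this

include B in
/-- A base change map into an open set of split points is an isomorphism. -/
theorem isIso_bc {U : S.Opens} (p : ℕ) (hU : ∀ z : S', g z ∈ U) (pb : IsPullback g' f' f g)
    (h : ∀ y ∈ U, ∃ (V : S.Opens) (hV : IsAffineOpen V) (l : FreeBC f (V := V) F),
      y ∈ V ∧ ∀ y' (hy' : y' ∈ V), y' ∈ U → l.Split hV p hy') : IsIso (B.bc p F) := by
  refine isIso_of_affine _ fun z => ?_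
  obtain ⟨V, hV, l, hzV, hl⟩ := h (g z) (hU z)
  obtain ⟨_, ⟨W, hW, rfl⟩, hzW, hWV⟩ :=
    S'.isBasis_affineOpens.exists_subset_of_mem_open (a := z) (show z ∈ g ⁻¹ᵁ V from hzV) (g ⁻¹ᵁ V).2
  exact ⟨W, hzW, fun V' hV'W hV' => bijective_bc_app B ⟨hV, hV', fun x hx => hWV (hV'W hx), pb⟩ l p
    fun z' hz' => hl _ _ (hU z')⟩

end Groth.L17.BC.Classes

namespace Groth.L17.BC.Classes

open Groth.L18.Frame (rs pull rs_rs)

variable {X S : Scheme.{u}} {f : X ⟶ S} [IsProper f] [LocallyOfFinitePresentation f]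
  [HasInjectiveResolutions X.Modules] {F : X.Modules} {V : S.Opens} (hV : IsAffineOpen V) (l : FreeBC f (V := V) F)

include hV in
/-- The square of the fibre over a point of an affine open. -/
theorem fibreSq {s : S} (hs : s ∈ V) :
    Sq f (S.fromSpecResidueField s) (f.fiberToSpecResidueField s) (f.fiberι s) V ⊤ :=
  ⟨hV, isAffineOpen_top _, fun z _ => show S.fromSpecResidueField s z ∈ V by
    rw [Scheme.fromSpecResidueField_apply]; exact hs, IsPullback.of_hasPullback _ _⟩

/-- The complex is exact at a point after extension to the residue field iff the fibre has no cohomology. -/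
theorem FreeBC.ker_le_range {y : S} (hy : y ∈ V) (p : ℕ) (h : Subsingleton (CohIII.fiberH f F y p)) :
    letI : Algebra Γ(S, V) (S.residueField y) := (S.evaluation V y hy).hom.toAlgebra
    LinearMap.ker ((l.L.d (p : ℤ) (p + 1)).hom.baseChange (S.residueField y)) ≤
      LinearMap.range ((l.L.d ((p : ℤ) - 1) p).hom.baseChange (S.residueField y)) := by
  obtain ⟨q, -, hq⟩ := l.fiber_cls y hy p
  exact fun z hz => (hq ⟨z, hz⟩).1 (Subsingleton.elim _ _)

theorem comap_evaluation {y : S} (hy : y ∈ V) :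
    PrimeSpectrum.comap (S.evaluation V y hy).hom ⊥ = hV.primeIdealOf ⟨y, hy⟩ := by
  have hb : Spec.map (S.evaluation V y hy) ≫ hV.fromSpec = S.fromSpecResidueField y := by
    rw [← Scheme.germ_residue, Spec.map_comp, Category.assoc]
    exact congrArg (Spec.map (S.residue y) ≫ ·) (hV.fromSpecStalk_eq_fromSpecStalk hy)
  refine hV.fromSpec.isOpenEmbedding.injective ?_
  rw [hV.fromSpec_primeIdealOf]
  exact (congrArg (fun φ : Spec (S.residueField y) ⟶ S => φ (⊥ : PrimeSpectrum (S.residueField y))) hb).trans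
    (Scheme.fromSpecResidueField_apply _ _)

/-- Where fibre cohomology vanishes in a degree, splitting moves down from it. -/
theorem FreeBC.split_prev {y : S} (hy : y ∈ V) (p q : ℕ) (hpq : q + 1 = p)
    (h : Subsingleton (CohIII.fiberH f F y p)) (hp : l.Split hV p hy) : l.Split hV q hy := by
  letI : Algebra Γ(S, V) (S.residueField y) := (S.evaluation V y hy).hom.toAlgebra
  haveI := l.finite (p : ℤ)
  haveI := l.free (p : ℤ)
  have e : PrimeSpectrum.comap (algebraMap Γ(S, V) (S.residueField y)) ⊥ = hV.primeIdealOf ⟨y, hy⟩ :=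
    comap_evaluation hV hy
  unfold FreeBC.Split at hp ⊢
  rw [← e] at hp ⊢
  have key := SplitAt.prev (LinearMap.ext fun x => Transfer.dd_zero l.L ((p : ℤ) - 1) p (p + 1) x) hp
    (l.ker_le_range hy p h)
  have e1 : (q : ℤ) + 1 = p := by exact_mod_cast hpq
  have tr : ∀ i j : ℤ, i = (p : ℤ) - 1 → j = p → SplitAt (l.L.d i j).hom
      (PrimeSpectrum.comap (algebraMap Γ(S, V) (S.residueField y)) ⊥) := by
    rintro _ _ rfl rfl; exact key
  exact tr _ _ (by omega) e1

/-- Where fibre cohomology vanishes in a degree and the top splits, everything above the degree splits. -/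
theorem FreeBC.split_of_top {y : S} (hy : y ∈ V) (p : ℕ) (hp : l.top ≤ (p : ℤ)) : l.Split hV p hy := by
  haveI := l.zero_above ((p : ℤ) + 1) (by omega)
  exact ⟨1, 0, fun hh => (hV.primeIdealOf ⟨y, hy⟩).2.ne_top ((Ideal.eq_top_iff_one _).2 hh),
    fun v => Subsingleton.elim _ _⟩

/-- Splitting is open. -/
theorem FreeBC.split_nhd {y : S} (hy : y ∈ V) (p : ℕ) (hp : l.Split hV p hy) :
    ∃ W : S.Opens, y ∈ W ∧ W ≤ V ∧ ∀ y' (hy' : y' ∈ V), y' ∈ W → l.Split hV p hy' := by
  obtain ⟨r, σ, hr, hσ⟩ := hp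
  have hmem : ∀ (z : S) (hz : z ∈ V), z ∈ S.basicOpen r ↔ r ∉ (hV.primeIdealOf ⟨z, hz⟩).asIdeal := by
    intro z hz
    refine (Iff.of_eq (congrArg (fun x => x ∈ S.basicOpen r) (hV.fromSpec_primeIdealOf ⟨z, hz⟩))).symm.trans ?_
    show hV.primeIdealOf ⟨z, hz⟩ ∈ hV.fromSpec ⁻¹ᵁ S.basicOpen r ↔ _
    rw [hV.fromSpec_preimage_basicOpen]
    rfl
  exact ⟨S.basicOpen r, (hmem y hy).2 hr, S.basicOpen_le r,
    fun y' hy' hW => ⟨r, σ, (hmem y' hy').1 hW, hσ⟩⟩

variable [Coh.IsQCoh F] {s : S} [HasInjectiveResolutions (f.fiber s).Modules]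
  {Δ : RDer.DerivedLES (Scheme.Modules.pushforward f)}
  {Δs : RDer.DerivedLES (Scheme.Modules.pushforward (f.fiberToSpecResidueField s))}
  {E : CohCmp.SectCmp f Δ} {Es : CohCmp.SectCmp (f.fiberToSpecResidueField s) Δs}
  (Bs : CohCmp.GenBC f (S.fromSpecResidueField s) (f.fiberToSpecResidueField s) (f.fiberι s) (f.fiber_fac s) E Es)

/-- Surjectivity of the fibre base change map is splitting at the point. -/
theorem epi_bc_iff_split (hs : s ∈ V) (p : ℕ) : Epi (Bs.bc p F) ↔ l.Split hV p hs := by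
  let q := fibreSq (f := f) hV hs
  let g := S.fromSpecResidueField s
  let f' := f.fiberToSpecResidueField s
  haveI : IsProper f' := MorphismProperty.of_isPullback q.pb inferInstance
  letI : Algebra Γ(S, V) Γ(Spec (S.residueField s), ⊤) := q.φ.hom.toAlgebra
  letI : Field Γ(Spec (S.residueField s), ⊤) :=
    ((Scheme.ΓSpecIso (S.residueField s)).commRingCatIsoToRingEquiv.toMulEquiv.isField
      (Field.toIsField (S.residueField s))).toField
  let R' := (Coh.Rpush f' p).obj ((Scheme.Modules.pullback (f.fiberι s)).obj F)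
  letI : Module Γ(S, V) Γ(R', ⊤) := Module.compHom _ (algebraMap Γ(S, V) Γ(Spec (S.residueField s), ⊤))
  haveI : IsScalarTower Γ(S, V) Γ(Spec (S.residueField s), ⊤) Γ(R', ⊤) :=
    IsScalarTower.of_algebraMap_smul fun _ _ => rfl
  obtain ⟨ψl, hψ, ⟨D⟩⟩ := l.bcData q rfl Bs p
  have hdd : (l.L.d (p : ℤ) (p + 1)).hom ∘ₗ (l.L.d ((p : ℤ) - 1) p).hom = 0 :=
    LinearMap.ext fun x => Transfer.dd_zero l.L _ _ _ x
  haveI := PushQCoh.isQCoh_Rpush f F p
  haveI : Coh.IsQCoh ((Scheme.Modules.pullback (f.fiberι s)).obj F) := Groth.L16.AffineBC.isQCoh_pullback _ _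
  haveI : Coh.IsQCoh R' := PushQCoh.isQCoh_Rpush f' _ p
  haveI : Coh.IsQCoh ((Scheme.Modules.pullback g).obj ((Coh.Rpush f p).obj F)) :=
    Groth.L16.AffineBC.isQCoh_pullback _ _
  letI : Module Γ(S, V) Γ((Scheme.Modules.pullback g).obj ((Coh.Rpush f p).obj F), ⊤) :=
    Module.compHom _ (g.appLE V ⊤ q.le).hom
  haveI : IsScalarTower Γ(S, V) Γ(Spec (S.residueField s), ⊤)
      Γ((Scheme.Modules.pullback g).obj ((Coh.Rpush f p).obj F), ⊤) :=
    IsScalarTower.of_algebraMap_smul fun _ _ => rfl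
  have hpr : IsBaseChange Γ(Spec (S.residueField s), ⊤)
      (Groth.L16.AffineBC.pullRes g ((Coh.Rpush f p).obj F) q.le) :=
    Groth.L16.AffineBC.isBaseChange_pull g ((Coh.Rpush f p).obj F) q.hV q.hV' q.le
  have key : ∀ x, (Bs.bc p F).app ⊤ (hpr.equiv x) = ψl.liftBaseChange Γ(Spec (S.residueField s), ⊤) x := by
    intro x
    induction x using TensorProduct.induction_on with
    | zero => rw [map_zero, map_zero, map_zero]
    | add a b ha hb => rw [map_add, map_add, map_add, ha, hb]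
    | tmul b t =>
      rw [IsBaseChange.equiv_tmul, LinearMap.liftBaseChange_tmul, hψ, ← bc_app_pullRes Bs q p t]
      exact (Bs.bc p F).app_smul b _
  have e : PrimeSpectrum.comap (algebraMap Γ(S, V) Γ(Spec (S.residueField s), ⊤)) ⊥ =
      hV.primeIdealOf ⟨s, hs⟩ := by
    let z : Spec (S.residueField s) := (⊥ : PrimeSpectrum (S.residueField s))
    rw [Subsingleton.elim (⊥ : PrimeSpectrum Γ(Spec (S.residueField s), ⊤))
      (q.hV'.primeIdealOf ⟨z, trivial⟩)]
    refine (IsAffineOpen.comap_primeIdealOf_appLE V q.hV ⊤ q.hV' q.le trivial).trans ?_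
    exact congrArg hV.primeIdealOf (Subtype.ext (Scheme.fromSpecResidueField_apply _ _))
  unfold FreeBC.Split
  rw [← e]
  haveI := l.finite (p : ℤ)
  haveI := l.finite ((p : ℤ) + 1)
  haveI := l.free ((p : ℤ) + 1)
  constructor
  · intro h
    refine splitAt_of_cycles_le _ (D.cycles_le_of_span hdd fun y => ?_)
    obtain ⟨x, hx⟩ := Groth.L16.AffineBC.surjective_app_of_epi (Bs.bc p F) (isAffineOpen_top _) y
    exact ⟨hpr.equiv.symm x, by rw [← key, LinearEquiv.apply_symm_apply, hx]⟩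
  · intro h
    have hsurj : Function.Surjective ((Bs.bc p F).app ⊤) := fun y => by
      obtain ⟨x, hx⟩ := D.span_of_cycles_le h.cycles_le y
      exact ⟨hpr.equiv x, (key x).trans hx⟩
    refine Groth.L17.Serre.epi_of_locally_surjective _ fun W x hx t => ?_
    obtain rfl : W = ⊤ := top_unique fun y _ =>
      (Subsingleton.elim (α := PrimeSpectrum (S.residueField s)) x y) ▸ hx
    obtain ⟨a, ha⟩ := hsurj t
    exact ⟨⊤, le_rfl, trivial, a, ha.trans (Groth.L18.Frame.rs_self _ le_rfl t).symm⟩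

end Groth.L17.BC.Classes
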