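import Groth.Agent.L18.Frame
import Groth.Prelude.Def_CohPull

/-!
# Pullback of sections through the canonical isomorphisms
-/

set_option autoImplicit false
set_option linter.style.haveILetI false
set_option linter.unusedSectionVars false
set_option backward.isDefEq.respectTransparency false

universe u

open CategoryTheory AlgebraicGeometry TopologicalSpace Opposite

noncomputable section

namespace Groth.L17.BC.PullSec

open Groth.L18.Frame (rs rs_rs rs_self pull pull_rs)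
open Scheme.Modules

variable {X Y Z : Scheme.{u}}

theorem app_rs {M N : X.Modules} (φ : M ⟶ N) {W W' : X.Opens} (h : W' ≤ W) (s : Γ(M, W)) :
    φ.app W' (rs M h s) = rs N h (φ.app W s) :=
  congr($(φ.mapPresheaf.naturality (homOfLE h).op) s)

/-- Pullback of sections is natural. -/
theorem map_pull (f : X ⟶ Y) {M N : Y.Modules} (φ : M ⟶ N) (W : Y.Opens) (s : Γ(M, W)) :
    ((pullback f).map φ).app (f ⁻¹ᵁ W) (pull f M W s) = pull f N W (φ.app W s) :=
  (congr($(congrArg (fun k => Scheme.Modules.Hom.app k W)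
    ((pullbackPushforwardAdjunction f).unit.naturality φ)) s)).symm

/-- Pullback along a composite. -/
theorem comp_pull (f : X ⟶ Y) (g : Y ⟶ Z) (M : Z.Modules) (W : Z.Opens) (s : Γ(M, W)) :
    ((pullbackComp f g).hom.app M).app (f ⁻¹ᵁ (g ⁻¹ᵁ W)) (pull f _ (g ⁻¹ᵁ W) (pull g M W s)) =
      pull (f ≫ g) M W s := by
  have h := unit_conjugateEquiv ((pullbackPushforwardAdjunction g).comp (pullbackPushforwardAdjunction f))
    (pullbackPushforwardAdjunction (f ≫ g)) (pullbackComp f g).inv M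
  rw [conjugateEquiv_pullbackComp_inv] at h
  have h1 := congr($(congrArg (fun k => Scheme.Modules.Hom.app k W) h) s)
  have h2 : pull f _ (g ⁻¹ᵁ W) (pull g M W s) =
      ((pullbackComp f g).inv.app M).app (f ⁻¹ᵁ (g ⁻¹ᵁ W)) (pull (f ≫ g) M W s) := h1
  rw [h2]
  exact congr($(congrArg (fun k => Scheme.Modules.Hom.app k (f ⁻¹ᵁ (g ⁻¹ᵁ W)))
    ((pullbackComp f g).inv_hom_id_app M)) (pull (f ≫ g) M W s))

/-- Pullback along equal morphisms. -/
theorem congr_pull {f g : X ⟶ Y} (h : f = g) (M : Y.Modules) (W : Y.Opens) (s : Γ(M, W)) (W' : X.Opens)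
    (e : W' ≤ f ⁻¹ᵁ W) (e' : W' ≤ g ⁻¹ᵁ W) :
    ((pullbackCongr h).hom.app M).app W' (rs _ e (pull f M W s)) = rs _ e' (pull g M W s) := by
  subst h
  rfl

/-- Pullback along an open immersion is restriction. -/
theorem restrict_pull (j : X ⟶ Y) [IsOpenImmersion j] (M : Y.Modules) (W : Y.Opens) (s : Γ(M, W)) :
    ((restrictFunctorIsoPullback j).hom.app M).app (j ⁻¹ᵁ W)
        (show Γ((restrictFunctor j).obj M, j ⁻¹ᵁ W) from rs M (j.image_preimage_le W) s) =
      pull j M W s := by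
  have h := Adjunction.unit_leftAdjointUniq_hom_app (restrictAdjunction j) (pullbackPushforwardAdjunction j) M
  exact congr($(congrArg (fun k => Scheme.Modules.Hom.app k W) h) s)

theorem comp_pull_rs (f : X ⟶ Y) (g : Y ⟶ Z) (M : Z.Modules) (W : Z.Opens) (s : Γ(M, W)) (W' : X.Opens)
    (e : W' ≤ f ⁻¹ᵁ (g ⁻¹ᵁ W)) :
    (show (pullback f).obj ((pullback g).obj M) ⟶ (pullback (f ≫ g)).obj M from (pullbackComp f g).hom.app M).app W'
        (rs ((pullback f).obj ((pullback g).obj M)) e (pull f _ (g ⁻¹ᵁ W) (pull g M W s))) =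
      rs ((pullback (f ≫ g)).obj M) e (pull (f ≫ g) M W s) :=
  (app_rs _ e _).trans (congrArg (rs ((pullback (f ≫ g)).obj M) e) (comp_pull f g M W s))

theorem comp_inv_pull_rs (f : X ⟶ Y) (g : Y ⟶ Z) (M : Z.Modules) (W : Z.Opens) (s : Γ(M, W)) (W' : X.Opens)
    (e : W' ≤ f ⁻¹ᵁ (g ⁻¹ᵁ W)) :
    (show (pullback (f ≫ g)).obj M ⟶ (pullback f).obj ((pullback g).obj M) from (pullbackComp f g).inv.app M).app W'
        (rs ((pullback (f ≫ g)).obj M) e (pull (f ≫ g) M W s)) =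
      rs ((pullback f).obj ((pullback g).obj M)) e (pull f _ (g ⁻¹ᵁ W) (pull g M W s)) := by
  rw [← comp_pull_rs f g M W s W' e]
  exact congr($(congrArg (fun k => Scheme.Modules.Hom.app k W') ((pullbackComp f g).hom_inv_id_app M))
    (rs ((pullback f).obj ((pullback g).obj M)) e (pull f _ (g ⁻¹ᵁ W) (pull g M W s))))

theorem restrict_inv_pull (j : X ⟶ Y) [IsOpenImmersion j] (M : Y.Modules) (W : Y.Opens) (s : Γ(M, W)) (W' : X.Opens)
    (e : W' ≤ j ⁻¹ᵁ W) (e' : j ''ᵁ W' ≤ W) :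
    ((restrictFunctorIsoPullback j).inv.app M).app W' (rs ((pullback j).obj M) e (pull j M W s)) = rs M e' s := by
  rw [← restrict_pull j M W s, app_rs ((restrictFunctorIsoPullback j).inv.app M) e]
  refine Eq.trans (congrArg (rs ((restrictFunctor j).obj M) e)
    (congr($(congrArg (fun k => Scheme.Modules.Hom.app k (j ⁻¹ᵁ W))
      ((restrictFunctorIsoPullback j).hom_inv_id_app M)) (rs M (j.image_preimage_le W) s)))) ?_
  exact rs_rs M _ (j.image_mono e) _

/-- The canonical isomorphism behind pullback of classes, on sections. -/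
theorem pullOnIso_app (g : X ⟶ Y) (U : Y.Opens) (U' : X.Opens) (h : U' ≤ g ⁻¹ᵁ U) (F : Y.Modules)
    (W : U.toScheme.Opens) (W' : U'.toScheme.Opens) (e : W' ≤ (g.resLE U U' h) ⁻¹ᵁ W)
    (e₁ : U'.ι ''ᵁ W' ≤ g ⁻¹ᵁ (U.ι ''ᵁ W)) (s : Γ(F, U.ι ''ᵁ W)) :
    (CohPull.pullOnIso g U U' h F).hom.app W'
        (rs ((pullback (g.resLE U U' h)).obj (F.restrict U.ι)) e
          (pull (g.resLE U U' h) (F.restrict U.ι) W s)) =
      rs ((pullback g).obj F) e₁ (pull g F (U.ι ''ᵁ W) s) := by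
  set r := g.resLE U U' h
  have hW : W ≤ U.ι ⁻¹ᵁ (U.ι ''ᵁ W) := (U.ι.preimage_image_eq W).ge
  have e' : W' ≤ r ⁻¹ᵁ (U.ι ⁻¹ᵁ (U.ι ''ᵁ W)) := e.trans (r.preimage_mono hW)
  have e₂ : W' ≤ U'.ι ⁻¹ᵁ (g ⁻¹ᵁ (U.ι ''ᵁ W)) := (U'.ι.preimage_image_eq W').ge.trans (U'.ι.preimage_mono e₁)
  have ha : ((restrictFunctorIsoPullback U.ι).hom.app F).app W s = rs _ hW (pull U.ι F (U.ι ''ᵁ W) s) := by
    rw [← restrict_pull U.ι F (U.ι ''ᵁ W) s, ← app_rs]
    refine congrArg _ ?_
    exact ((rs_rs F _ (U.ι.image_mono hW) s).trans (rs_self F _ s)).symm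
  have H1 : ((pullback r).map ((restrictFunctorIsoPullback U.ι).hom.app F)).app W'
      (rs ((pullback r).obj (F.restrict U.ι)) e (pull r (F.restrict U.ι) W s)) =
      rs ((pullback r).obj ((pullback U.ι).obj F)) e' (pull r _ _ (pull U.ι F (U.ι ''ᵁ W) s)) := by
    refine (app_rs _ e _).trans ?_
    refine (congrArg (rs ((pullback r).obj ((pullback U.ι).obj F)) e) ((map_pull r (M := F.restrict U.ι) (N := (pullback U.ι).obj F) ((restrictFunctorIsoPullback U.ι).hom.app F) W s).trans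
      ((congrArg (pull r ((pullback U.ι).obj F) W) ha).trans
        (pull_rs r ((pullback U.ι).obj F) hW (pull U.ι F (U.ι ''ᵁ W) s)).symm))).trans ?_
    exact rs_rs ((pullback r).obj ((pullback U.ι).obj F)) (r.preimage_mono hW) e _
  have H3 := congr_pull (Scheme.Hom.resLE_comp_ι g h) F (U.ι ''ᵁ W) s W' e' e₂
  refine Eq.trans (congrArg (fun z => ((restrictFunctorIsoPullback U'.ι).inv.app _).app W'
    (((pullbackComp U'.ι g).inv.app F).app W' (((pullbackCongr (Scheme.Hom.resLE_comp_ι g h)).hom.app F).app W'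
      (((pullbackComp r U.ι).hom.app F).app W' z)))) H1) ?_
  refine Eq.trans (congrArg (fun z => ((restrictFunctorIsoPullback U'.ι).inv.app _).app W'
    (((pullbackComp U'.ι g).inv.app F).app W' (((pullbackCongr (Scheme.Hom.resLE_comp_ι g h)).hom.app F).app W' z)))
      (comp_pull_rs r U.ι F (U.ι ''ᵁ W) s W' e')) ?_
  refine Eq.trans (congrArg (fun z => ((restrictFunctorIsoPullback U'.ι).inv.app _).app W'
    (((pullbackComp U'.ι g).inv.app F).app W' z)) H3) ?_
  refine Eq.trans (congrArg (fun z => ((restrictFunctorIsoPullback U'.ι).inv.app _).app W' z)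
    (comp_inv_pull_rs U'.ι g F (U.ι ''ᵁ W) s W' e₂)) ?_
  exact restrict_inv_pull U'.ι _ (g ⁻¹ᵁ (U.ι ''ᵁ W)) _ W' e₂ e₁

end Groth.L17.BC.PullSec
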