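import Groth.Agent.L17.BC.General
import Groth.Agent.L29.LocFree

/-!
# Consequences near a point of the base
-/

set_option autoImplicit false
set_option linter.style.haveILetI false
set_option linter.unusedSectionVars false
set_option backward.isDefEq.respectTransparency false

universe u

open CategoryTheory CategoryTheory.Limits AlgebraicGeometry TopologicalSpace Opposite

noncomputable section

namespace Groth.L17.BC

open Groth.L01.FlatCx (mu Coker)

/-- Local triviality near the points of an open gives local freeness of the restriction. -/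
theorem isFinLocFree_restrict_of_forall {Y : Scheme.{u}} (M : Y.Modules) (U : Y.Opens)
    (h : ∀ y ∈ U, ∃ (U' : Y.Opens) (n : ℕ), y ∈ U' ∧ Nonempty (M.restrict U'.ι ≅ FlatMod.freeMod (↑U') n)) :
    FlatMod.IsFinLocFree (M.restrict U.ι) := by
  refine Groth.L29.LocFree.of_iso ((Scheme.Modules.restrictFunctorIsoPullback U.ι).app M).symm fun x => ?_
  obtain ⟨U', n, hx, ⟨i⟩⟩ := h x.1 x.2
  exact ⟨U.ι ⁻¹ᵁ U', n, hx, Groth.L29.LocFree.restrict_pullback U.ι i⟩

/-- Vanishing near the points of an open gives vanishing of the restriction. -/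
theorem isZero_restrict_of_forall {Y : Scheme.{u}} (M : Y.Modules) (U : Y.Opens)
    (h : ∀ y ∈ U, ∃ U' : Y.Opens, y ∈ U' ∧ IsZero (M.restrict U'.ι)) : IsZero (M.restrict U.ι) := by
  rw [Groth.L21.Mod.isZero_iff_support_eq_empty, Groth.L21.Mod.support_restrict]
  refine Set.eq_empty_of_forall_notMem fun x hx => ?_
  obtain ⟨U', hxU', hz⟩ := h x.1 x.2
  rw [Groth.L21.Mod.isZero_iff_support_eq_empty, Groth.L21.Mod.support_restrict] at hz
  exact Set.notMem_empty _ (hz ▸ (show (⟨x.1, hxU'⟩ : U'.toScheme) ∈ U'.ι ⁻¹' CohB1.support M from hx))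

variable {X Y : Scheme.{u}} (f : X ⟶ Y) [IsProper f] [LocallyOfFinitePresentation f]
  (F : X.Modules) [Coh.IsQCoh F] (hfp : CohB1.IsFP F) (hfl : FlatMod.IsFlatOver f F)

include hfp hfl

/-- Vanishing in the neighbouring degrees gives a free higher direct image. -/
theorem exists_free_of_vanishing [HasInjectiveResolutions X.Modules] (y : Y) (p : ℕ)
    (hlow : ∀ q, q + 1 = p → Subsingleton (CohIII.fiberH f F y q))
    (hhigh : Subsingleton (CohIII.fiberH f F y (p + 1))) :
    ∃ U : Y.Opens, y ∈ U ∧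
      Nonempty (((Coh.Rpush f p).obj F).restrict U.ι ≅ FlatMod.freeMod (↑U) (CohIII.fiberRank f F p y)) := by
  obtain ⟨_, ⟨V, hV, rfl⟩, hyV, -⟩ :=
    Y.isBasis_affineOpens.exists_subset_of_mem_open (Set.mem_univ y) isOpen_univ
  obtain ⟨l⟩ := nonempty_glocal f hV F hfp hfl
  refine l.exists_free hyV p ?_ ?_
  · rcases p with _ | j
    · exact (l.freeC_neg (j := -2) (by norm_num) _).2
    · have h := (l.freeC_of_subsingleton hyV j (hlow j rfl)).2
      simpa using h
  · have h := (l.freeC_of_subsingleton hyV (p + 1) hhigh).1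
    simpa using h

/-- Vanishing in a degree gives vanishing of the higher direct image near the point. -/
theorem exists_isZero_of_vanishing [HasInjectiveResolutions X.Modules] (y : Y) (p : ℕ)
    (hvan : Subsingleton (CohIII.fiberH f F y p)) :
    ∃ U : Y.Opens, y ∈ U ∧ IsZero (((Coh.Rpush f p).obj F).restrict U.ι) := by
  obtain ⟨_, ⟨V, hV, rfl⟩, hyV, -⟩ :=
    Y.isBasis_affineOpens.exists_subset_of_mem_open (Set.mem_univ y) isOpen_univ
  obtain ⟨l⟩ := nonempty_glocal f hV F hfp hfl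
  obtain ⟨h₁, h₂⟩ := l.freeC_of_subsingleton hyV p hvan
  obtain ⟨U, hyU, ⟨e⟩⟩ := l.exists_free hyV p h₁ h₂
  have h0 : CohIII.fiberRank f F p y = 0 := Module.finrank_zero_of_subsingleton
  refine ⟨U, hyU, IsZero.of_iso ?_ e⟩
  rw [h0]
  exact isZero_freeMod_zero _

theorem finite_fiberH (y : Y) (p : ℕ) : Module.Finite (Y.residueField y) (CohIII.fiberH f F y p) := by
  obtain ⟨_, ⟨V, hV, rfl⟩, hyV, -⟩ :=
    Y.isBasis_affineOpens.exists_subset_of_mem_open (Set.mem_univ y) isOpen_univ
  obtain ⟨l⟩ := nonempty_glocal f hV F hfp hfl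
  exact l.finite_fiberH hyV p

theorem subsingleton_iff_fiberRank_eq_zero (y : Y) (p : ℕ) :
    Subsingleton (CohIII.fiberH f F y p) ↔ CohIII.fiberRank f F p y = 0 := by
  haveI := finite_fiberH f F hfp hfl y p
  exact (Module.finrank_zero_iff).symm

/-- The fibre dimensions are upper semicontinuous. -/
theorem eventually_fiberRank_le (p : ℕ) (y : Y) :
    ∀ᶠ z in nhds y, CohIII.fiberRank f F p z ≤ CohIII.fiberRank f F p y := by
  obtain ⟨_, ⟨V, hV, rfl⟩, hyV, -⟩ :=
    Y.isBasis_affineOpens.exists_subset_of_mem_open (Set.mem_univ y) isOpen_univ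
  obtain ⟨l⟩ := nonempty_glocal f hV F hfp hfl
  haveI := fun i => (l.finiteFlat i).1
  haveI := fun i => (l.finiteFlat i).2
  haveI : ∀ i, Module.FinitePresentation l.A₀ (l.m.L.X i) := fun i => Module.finitePresentation_of_finite _ _
  let j : ℤ := (p : ℤ) - 1
  have key := fun z => Groth.L01.FlatCx.dRank_add_mu l.m.L (Crit.prev_eq j) (Crit.next_eq (j + 1)) z
  have hev : ∀ z, ∀ᶠ w in nhds z, CohIII.dRank l.m.L (j + 1) w ≤ CohIII.dRank l.m.L (j + 1) z := fun z => by
    filter_upwards [Groth.L01.FlatCx.mu_eventually_le (Coker l.m.L j (j + 1)) z,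
      Groth.L01.FlatCx.mu_eventually_le (Coker l.m.L (j + 1) (j + 1 + 1)) z,
      (IsLocallyConstant.iff_eventually_eq _).1 (Groth.L01.FlatCx.isLocallyConstant_mu (A := l.A₀) (l.m.L.X (j + 1 + 1))) z]
      with w e1 e2 e3
    have := key z; have := key w
    omega
  let x : PrimeSpectrum Γ(Y, V) := hV.primeIdealOf ⟨y, hyV⟩
  have hx : hV.fromSpec x = y := hV.fromSpec_primeIdealOf ⟨y, hyV⟩
  rw [← hx, ← hV.fromSpec.isOpenEmbedding.map_nhds_eq x, Filter.eventually_map]
  have h := ((PrimeSpectrum.continuous_comap l.φ).tendsto x).eventually (hev _)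
  filter_upwards [h] with w hw
  rw [l.fiberRank_fromSpec, l.fiberRank_fromSpec]
  have e : ((p : ℤ) - 1 + 1) = (p : ℤ) := sub_add_cancel _ _
  simp only [j, e] at hw
  exact hw

theorem isOpen_fiberRank_lt (p n : ℕ) : IsOpen {y : Y | CohIII.fiberRank f F p y < n} :=
  isOpen_iff_eventually.2 fun y hy => (eventually_fiberRank_le f F hfp hfl p y).mono fun z hz =>
    lt_of_le_of_lt hz hy

theorem isOpen_subsingleton_fiberH (p : ℕ) : IsOpen {y : Y | Subsingleton (CohIII.fiberH f F y p)} := by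
  have : {y : Y | Subsingleton (CohIII.fiberH f F y p)} = {y : Y | CohIII.fiberRank f F p y < 1} :=
    Set.ext fun y => (subsingleton_iff_fiberRank_eq_zero f F hfp hfl y p).trans Nat.lt_one_iff.symm
  rw [this]
  exact isOpen_fiberRank_lt f F hfp hfl p 1

/-- The alternating sum of the fibre dimensions is locally constant. -/
theorem exists_eulerSum_eventually_eq (y : Y) :
    ∃ N : ℕ, ∀ᶠ z in nhds y, (∀ i, N ≤ i → CohIII.fiberRank f F i z = 0) ∧
      ∑ i ∈ Finset.range N, (-1 : ℤ) ^ i * (CohIII.fiberRank f F i z : ℤ) =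
        ∑ i ∈ Finset.range N, (-1 : ℤ) ^ i * (CohIII.fiberRank f F i y : ℤ) := by
  obtain ⟨_, ⟨V, hV, rfl⟩, hyV, -⟩ :=
    Y.isBasis_affineOpens.exists_subset_of_mem_open (Set.mem_univ y) isOpen_univ
  obtain ⟨l⟩ := nonempty_glocal f hV F hfp hfl
  let L := l.m.L
  haveI := fun i => (l.finiteFlat i).1
  haveI := fun i => (l.finiteFlat i).2
  haveI : ∀ i, Module.FinitePresentation l.A₀ (L.X i) := fun i => Module.finitePresentation_of_finite _ _
  let N : ℕ := (l.m.top + 1).toNat
  let c : ℤ → PrimeSpectrum l.A₀ → ℕ := fun i => mu (A := l.A₀) (Coker L (i - 1) i)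
  let r : ℤ → PrimeSpectrum l.A₀ → ℕ := fun i => mu (A := l.A₀) (L.X i)
  have hr0 : ∀ i, l.m.top < i → ∀ z, r i z = 0 ∧ c i z = 0 := fun i hi z => by
    haveI := ModuleCat.subsingleton_of_isZero (l.m.isZero_above i hi)
    haveI : Subsingleton (Coker L (i - 1) i) := inferInstance
    exact ⟨Module.finrank_zero_of_subsingleton, Module.finrank_zero_of_subsingleton⟩
  have key : ∀ (i : ℕ) z, (CohIII.dRank L (i : ℤ) z : ℤ) = c i z + c (i + 1) z - r (i + 1) z := fun i z => by
    have h := Groth.L01.FlatCx.dRank_add_mu L (i := (i : ℤ) - 1) (j := (i : ℤ)) (l := (i : ℤ) + 1)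
      (by simp) (by simp) z
    have e : c ((i : ℤ) + 1) z = mu (Coker L (i : ℤ) ((i : ℤ) + 1)) z :=
      congrArg (fun a => mu (A := l.A₀) (Coker L a ((i : ℤ) + 1)) z) (add_sub_cancel_right (i : ℤ) 1)
    simp only [r, c] at e ⊢
    omega
  have hzero : ∀ (i : ℕ), N ≤ i → ∀ z, CohIII.dRank L (i : ℤ) z = 0 := fun i hi z => by
    have h1 := hr0 ((i : ℤ) + 1) (by omega) z
    have h2 := hr0 (i : ℤ) (by omega) z
    have := key i z
    omega
  have tel : ∀ (n : ℕ) z, ∑ i ∈ Finset.range n, (-1 : ℤ) ^ i * (CohIII.dRank L (i : ℤ) z : ℤ) =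
      c 0 z - (-1) ^ n * c n z - ∑ i ∈ Finset.range n, (-1 : ℤ) ^ i * r (i + 1) z := by
    intro n z
    induction n with
    | zero => simp
    | succ n ih =>
      rw [Finset.sum_range_succ, Finset.sum_range_succ, ih, key, Nat.cast_succ, pow_succ]
      ring
  have hc0 : IsLocallyConstant (c 0) := by
    have hfl0 : Module.Flat l.A₀ (Coker L (-1 : ℤ) 0) := by
      have h := fun x => (l.freeC_neg (j := (-2 : ℤ)) (by norm_num) x).2
      haveI : Module.FinitePresentation l.A₀ (Coker L (-1 : ℤ) 0) := Module.finitePresentation_of_finite _ _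
      haveI : Module.Projective l.A₀ (Coker L (-1 : ℤ) 0) := Module.freeLocus_eq_univ_iff.1
        (Set.eq_univ_of_forall fun x => by
          have := h x
          norm_num [Crit.FreeC] at this
          exact this)
      exact Module.Flat.of_projective
    haveI : Module.Flat l.A₀ (Coker L (-1 : ℤ) 0) := hfl0
    haveI : Module.FinitePresentation l.A₀ (Coker L (-1 : ℤ) 0) := Module.finitePresentation_of_finite _ _
    have h := Groth.L01.FlatCx.isLocallyConstant_mu (A := l.A₀) (Coker L (-1 : ℤ) 0)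
    rw [show c 0 = mu (A := l.A₀) (Coker L (-1 : ℤ) 0) from
      congrArg (fun a => mu (A := l.A₀) (Coker L a 0)) (zero_sub (1 : ℤ))]
    exact h
  have hev : ∀ z₀, ∀ᶠ z in nhds z₀, ∑ i ∈ Finset.range N, (-1 : ℤ) ^ i * (CohIII.dRank L (i : ℤ) z : ℤ) =
      ∑ i ∈ Finset.range N, (-1 : ℤ) ^ i * (CohIII.dRank L (i : ℤ) z₀ : ℤ) := fun z₀ => by
    have hall := (Filter.eventually_all_finset (Finset.range N)).2 fun i _ =>
      (IsLocallyConstant.iff_eventually_eq _).1
        (Groth.L01.FlatCx.isLocallyConstant_mu (A := l.A₀) (L.X ((i : ℤ) + 1))) z₀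
    filter_upwards [hall, (IsLocallyConstant.iff_eventually_eq _).1 hc0 z₀] with z hz hcz
    rw [tel, tel, (hr0 (N : ℤ) (by omega) z).2, (hr0 (N : ℤ) (by omega) z₀).2, hcz]
    congr 1
    exact Finset.sum_congr rfl fun i hi => by rw [show r (i + 1) z = r (i + 1) z₀ from hz i hi]
  let x : PrimeSpectrum Γ(Y, V) := hV.primeIdealOf ⟨y, hyV⟩
  have hx : hV.fromSpec x = y := hV.fromSpec_primeIdealOf ⟨y, hyV⟩
  refine ⟨N, ?_⟩
  rw [← hx, ← hV.fromSpec.isOpenEmbedding.map_nhds_eq x, Filter.eventually_map]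
  have h := ((PrimeSpectrum.continuous_comap l.φ).tendsto x).eventually (hev _)
  filter_upwards [h] with w hw
  refine ⟨fun i hi => by rw [l.fiberRank_fromSpec]; exact hzero i hi _, ?_⟩
  simp only [l.fiberRank_fromSpec]
  exact hw

end Groth.L17.BC
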