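import Groth.Agent.L17.BC.Bc0
import Groth.Agent.S16463
import Groth.Agent.L17.PushQCoh

/-!
# Consequences for the degree zero base change map
-/

set_option autoImplicit false
set_option linter.style.haveILetI false
set_option linter.unusedSectionVars false
set_option backward.isDefEq.respectTransparency false

universe u

open CategoryTheory CategoryTheory.Limits AlgebraicGeometry TopologicalSpace Opposite

noncomputable section

namespace Groth.L17.BC.Classes

variable {X S : Scheme.{u}}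

theorem nonempty_derivedLES (f : X ⟶ S) [HasInjectiveResolutions X.Modules] :
    Nonempty (RDer.DerivedLES (Scheme.Modules.pushforward f)) := by
  haveI : EnoughInjectives X.Modules := ⟨fun M =>
    let I := Classical.choice (HasInjectiveResolution.out (Z := M))
    ⟨{ J := I.cocomplex.X 0, injective := I.injective 0, f := I.ι.f 0 }⟩⟩
  haveI := Groth.L17.PushQCoh.additive_push f
  exact Groth.Agent.S16463.result _

variable (f : X ⟶ S) [IsProper f] [LocallyOfFinitePresentation f] [HasInjectiveResolutions X.Modules]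
  (F : X.Modules) [Coh.IsQCoh F] (hfp : CohB1.IsFP F) (hfl : FlatMod.IsFlatOver f F)

include hfp hfl

theorem exists_freeBC0 (y : S) : ∃ (V : S.Opens) (_ : IsAffineOpen V) (_ : FreeBC0 f F V), y ∈ V := by
  obtain ⟨_, ⟨V, hV, rfl⟩, hyV, -⟩ :=
    S.isBasis_affineOpens.exists_subset_of_mem_open (Set.mem_univ y) isOpen_univ
  obtain ⟨l⟩ := nonempty_freeBC0 f F hV hfp hfl
  exact ⟨V, hV, l, hyV⟩

theorem forall_split0_of_vanishing (U : S.Opens) (hU : ∀ y ∈ U, Subsingleton (CohIII.fiberH f F y 1)) :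
    ∀ y ∈ U, ∃ (V : S.Opens) (hV : IsAffineOpen V) (l : FreeBC0 f F V),
      y ∈ V ∧ ∀ y' (hy' : y' ∈ V), y' ∈ U → l.free.Split hV 0 hy' := fun y _ => by
  obtain ⟨V, hV, l, hyV⟩ := exists_freeBC0 f F hfp hfl y
  exact ⟨V, hV, l, hyV, fun y' hy' h' => l.split_of_vanishing hV hy' (hU y' h')⟩

/-- Over an open of split points the direct image is finite locally free. -/
theorem isFinLocFree_push_restrict (U : S.Opens)
    (h : ∀ y ∈ U, ∃ (V : S.Opens) (hV : IsAffineOpen V) (l : FreeBC0 f F V),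
      y ∈ V ∧ ∀ y' (hy' : y' ∈ V), y' ∈ U → l.free.Split hV 0 hy') :
    FlatMod.IsFinLocFree (((Scheme.Modules.pushforward f).obj F).restrict U.ι) := by
  obtain ⟨Δ⟩ := nonempty_derivedLES f
  refine Groth.L17.BC.isFinLocFree_restrict_of_forall _ U fun y hy => ?_
  obtain ⟨V, hV, l, hyV, hl⟩ := h y hy
  obtain ⟨W, hyW, hW, -⟩ := l.exists_locFree hV Δ hyV (hl y hyV hy)
  exact hW y hyW

/-- An epimorphism at a fibre spreads to an open of split points. -/
theorem exists_nhd_of_epi_bc0 (s : S)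
    (hs : Epi (CohBC.bc0 f (S.fromSpecResidueField s) (f.fiberToSpecResidueField s) (f.fiberι s) (f.fiber_fac s) F)) :
    ∃ U : S.Opens, s ∈ U ∧ ∀ y ∈ U, ∃ (V : S.Opens) (hV : IsAffineOpen V) (l : FreeBC0 f F V),
      y ∈ V ∧ ∀ y' (hy' : y' ∈ V), y' ∈ U → l.free.Split hV 0 hy' := by
  obtain ⟨V, hV, l, hsV⟩ := exists_freeBC0 f F hfp hfl s
  obtain ⟨W, hsW, hWV, hl⟩ := l.free.split_nhd hV hsV 0 ((epi_bc0_iff_split hV l hsV).1 hs)
  exact ⟨W, hsW, fun y hy => ⟨V, hV, l, hWV hy, fun y' hy' h' => hl y' hy' h'⟩⟩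

end Groth.L17.BC.Classes
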