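import Groth.Agent.L16.CechEndo
import Groth.Agent.L18.Frame
import Groth.Agent.L28.HomElt
import Groth.Prelude.Def_Coh
import Mathlib.Algebra.Category.ModuleCat.Abelian
import Mathlib.Algebra.Homology.ShortComplex.Ab
import Mathlib.LinearAlgebra.Pi

/-!
# The Čech complex of a module as a complex of modules over a ring acting through global functions

Cochains in degree `i` are indexed by the nonempty lists of length `i + 1`.
-/

set_option autoImplicit false
set_option linter.style.haveILetI false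
set_option backward.isDefEq.respectTransparency false

universe u

open CategoryTheory CategoryTheory.Limits AlgebraicGeometry TopologicalSpace Opposite

noncomputable section

namespace Groth.L17.BC

open Groth.L18.Frame (rs ro rs_rs rs_self rs_smul ro_ro)

variable {X : Scheme.{u}} {A : Type u} [CommRing A] (ρ : A →+* Coh.Γtop X) (F : X.Modules)

/-- Sections, as a module over `A`. -/
def Sec (_ρ : A →+* Coh.Γtop X) (F : X.Modules) (V : X.Opens) : Type u := Γ(F, V)

instance (V : X.Opens) : AddCommGroup (Sec ρ F V) := inferInstanceAs (AddCommGroup Γ(F, V))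

/-- `A` acts on the functions on an open. -/
abbrev act (V : X.Opens) : A →+* Γ(X, V) := (X.presheaf.map (homOfLE le_top).op).hom.comp ρ

instance (V : X.Opens) : Module A (Sec ρ F V) := Module.compHom Γ(F, V) (act ρ V)

/-- Restriction of sections, linearly. -/
def resL {V W : X.Opens} (h : W ≤ V) : Sec ρ F V →ₗ[A] Sec ρ F W where
  toFun s := rs F h s
  map_add' a b := map_add (F.presheaf.map (homOfLE h).op).hom a b
  map_smul' a s := by
    show rs F h (act ρ V a • (show Γ(F, V) from s)) = act ρ W a • rs F h (show Γ(F, V) from s)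
    rw [rs_smul]
    congr 1
    exact ro_ro le_top h (ρ a)

variable {ι : Type u} (U : ι → X.Opens)

/-- The indices of cochains in degree `i`. -/
abbrev Idx (ι : Type u) (i : ℤ) : Type u := {a : List ι // (a.length : ℤ) = i + 1 ∧ a ≠ []}

/-- The intersection attached to a list. -/
def opn (a : List ι) : X.Opens := ⨅ k : Fin a.length, U a[k.1]

omit [CommRing A] in
theorem opn_le_opn {a b : List ι} (h : ∀ x ∈ b, x ∈ a) : opn U a ≤ opn U b := by
  refine le_iInf fun k => ?_
  obtain ⟨j, hj, e⟩ := List.mem_iff_getElem.1 (h _ (List.getElem_mem k.2))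
  exact (iInf_le (fun l : Fin a.length => U a[l.1]) ⟨j, hj⟩).trans_eq (congrArg U e)

omit [CommRing A] in
theorem opn_le_erase (a : List ι) (k : ℕ) : opn U a ≤ opn U (a.eraseIdx k) :=
  opn_le_opn U fun _ hx => List.eraseIdx_subset hx

theorem length_erase {i : ℤ} (hi : 0 ≤ i) (a : Idx ι (i + 1)) (k : Fin a.1.length) :
    ((a.1.eraseIdx k.1).length : ℤ) = i + 1 ∧ a.1.eraseIdx k.1 ≠ [] := by
  have h := List.length_eraseIdx_of_lt k.2
  have hl := a.2.1
  refine ⟨by omega, fun e => ?_⟩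
  rw [e] at h
  simp only [List.length_nil] at h
  omega

/-- Cochains. -/
abbrev C (i : ℤ) : Type u := ∀ a : Idx ι i, Sec ρ F (opn U a.1)

/-- The differential. -/
def dL (i : ℤ) : C ρ F U i →ₗ[A] C ρ F U (i + 1) :=
  if hi : 0 ≤ i then
    LinearMap.pi fun a => ∑ k : Fin a.1.length, ((-1 : ℤ) ^ k.1) •
      (resL ρ F (opn_le_erase U a.1 k.1)).comp
        (LinearMap.proj (φ := fun b : Idx ι i => Sec ρ F (opn U b.1)) ⟨a.1.eraseIdx k.1, length_erase hi a k⟩)
  else 0

theorem dL_apply {i : ℤ} (hi : 0 ≤ i) (x : C ρ F U i) (a : Idx ι (i + 1)) :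
    dL ρ F U i x a = ∑ k : Fin a.1.length, ((-1 : ℤ) ^ k.1) •
      resL ρ F (opn_le_erase U a.1 k.1) (x ⟨a.1.eraseIdx k.1, length_erase hi a k⟩) := by
  simp only [dL, dif_pos hi, LinearMap.pi_apply, LinearMap.coe_sum, Finset.sum_apply, LinearMap.smul_apply]
  rfl

theorem subsingleton_C {i : ℤ} (hi : i < 0) : Subsingleton (C ρ F U i) :=
  ⟨fun x y => funext fun a => absurd a.2 fun h => by
    have := List.length_pos_iff.2 h.2; omega⟩

/-! ### Comparison with the Čech complex of abelian groups -/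

section Compare

open Groth.L10 Groth.L10.Cech

/-- The intersection attached to a tuple. -/
abbrev T {n : ℕ} (b : Fin (n + 1) → ι) : X.Opens := tup (E := Opens X.toTopCat) U b

omit [CommRing A] in
theorem T_eq {n : ℕ} (b : Fin (n + 1) → ι) : T U b = ⨅ k, U (b k) :=
  tup_eq_iInf (X := X.toTopCat) U b

/-- The index of a tuple. -/
def idx {n : ℕ} (b : Fin (n + 1) → ι) : Idx ι (n : ℤ) :=
  ⟨List.ofFn b, by simp, by simp⟩

omit [CommRing A] in
theorem mem_idx {n : ℕ} (b : Fin (n + 1) → ι) (x : ι) : x ∈ (idx b).1 ↔ ∃ k, b k = x := by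
  simp only [idx, List.mem_ofFn]

omit [CommRing A] in
theorem opn_le_tup {n : ℕ} (b : Fin (n + 1) → ι) : opn U (idx b).1 ≤ T U b := by
  refine le_of_le_of_eq (le_iInf fun k => ?_) (T_eq U b).symm
  obtain ⟨j, hj, e⟩ := List.mem_iff_getElem.1 ((mem_idx b (b k)).2 ⟨k, rfl⟩)
  exact (iInf_le (fun l : Fin (idx b).1.length => U (idx b).1[l.1]) ⟨j, hj⟩).trans_eq (congrArg U e)

omit [CommRing A] in
theorem tup_le_opn {n : ℕ} (b : Fin (n + 1) → ι) : T U b ≤ opn U (idx b).1 := by
  refine le_iInf fun k => ?_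
  obtain ⟨j, e⟩ := (mem_idx b _).1 (List.getElem_mem k.2)
  exact ((T_eq U b).le.trans (iInf_le _ j)).trans_eq (congrArg U e)

/-- The tuple of an index. -/
def tupOf {n : ℕ} (a : Idx ι (n : ℤ)) : Fin (n + 1) → ι := fun k =>
  a.1[k.1]'(by have := a.2.1; omega)

theorem idx_tupOf {n : ℕ} (a : Idx ι (n : ℤ)) : idx (tupOf a) = a := by
  apply Subtype.ext
  refine List.ext_getElem ?_ fun k h₁ h₂ => ?_
  · have := a.2.1
    simp [idx]
    omega
  · simp only [idx, tupOf, List.getElem_ofFn]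

theorem tupOf_idx {n : ℕ} (b : Fin (n + 1) → ι) : tupOf (idx b) = b := by
  funext k
  simp only [idx, tupOf, List.getElem_ofFn]

omit [CommRing A] in
theorem le_tupOf {n : ℕ} (a : Idx ι (n : ℤ)) : opn U a.1 ≤ T U (tupOf a) :=
  le_of_eq_of_le (congrArg (fun c : Idx ι (n : ℤ) => opn U c.1) (idx_tupOf a).symm) (opn_le_tup U _)

omit [CommRing A] in
theorem tupOf_le {n : ℕ} (a : Idx ι (n : ℤ)) : T U (tupOf a) ≤ opn U a.1 :=
  (tup_le_opn U _).trans_eq (congrArg (fun c : Idx ι (n : ℤ) => opn U c.1) (idx_tupOf a))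

theorem rs_congr {n : ℕ} (x : C ρ F U (n : ℤ)) {a a' : Idx ι (n : ℤ)} (h : a = a') {W : X.Opens}
    (hW : W ≤ opn U a.1) (hW' : W ≤ opn U a'.1) :
    rs F hW (x a) = rs F hW' (x a') := by
  subst h; rfl

/-- The abelian Čech complex. -/
abbrev cxAb : CochainComplex AddCommGrpCat.{u} ℕ := cx (𝟭 (Opens X.toTopCat)) U F.presheaf

/-- The coordinate at a tuple. -/
def coT {n : ℕ} (b : Fin (n + 1) → ι) (x : (cxAb F U).X n) : Γ(F, T U b) :=
  co (π := 𝟭 (Opens X.toTopCat)) b x

/-- A cochain with given coordinates. -/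
def mkT {n : ℕ} (y : ∀ b : Fin (n + 1) → ι, Γ(F, T U b)) : (cxAb F U).X n :=
  mk (π := 𝟭 (Opens X.toTopCat)) y

omit [CommRing A] in
theorem coT_mkT {n : ℕ} (y : ∀ b : Fin (n + 1) → ι, Γ(F, T U b)) (b : Fin (n + 1) → ι) :
    coT F U b (mkT F U y) = y b := co_mk (P := F.presheaf) (π := 𝟭 (Opens X.toTopCat)) y b

omit [CommRing A] in
theorem coT_ext {n : ℕ} {x y : (cxAb F U).X n} (h : ∀ b, coT F U b x = coT F U b y) : x = y := co_ext h

omit [CommRing A] in
theorem coT_add {n : ℕ} (b : Fin (n + 1) → ι) (x y : (cxAb F U).X n) :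
    coT F U b (x + y) = coT F U b x + coT F U b y := map_add (co (π := 𝟭 (Opens X.toTopCat)) b) x y

omit [CommRing A] in
theorem rs_coT {n : ℕ} (x : (cxAb F U).X n) {c c' : Fin (n + 1) → ι} (h : c = c') {W : X.Opens}
    (hc : W ≤ T U c) (hc' : W ≤ T U c') : rs F hc (coT F U c x) = rs F hc' (coT F U c' x) := by
  subst h; rfl

omit [CommRing A] in
theorem coT_d {n : ℕ} (b : Fin (n + 2) → ι) (x : (cxAb F U).X n) :
    coT F U b ((cxAb F U).d n (n + 1) x) = ∑ k : Fin (n + 2), (-1 : ℤ) ^ (k : ℕ) •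
      rs F (leOfHom (face (E := Opens X.toTopCat) U k b) : T U b ≤ T U (b ∘ k.succAbove)) (coT F U (b ∘ k.succAbove) x) :=
  co_d b x

/-- The comparison of cochains, coordinatewise. -/
def toC (n : ℕ) (x : (cxAb F U).X n) : C ρ F U (n : ℤ) := fun a => rs F (le_tupOf U a) (coT F U (tupOf a) x)

/-- The inverse comparison. -/
def ofC (n : ℕ) (y : C ρ F U (n : ℤ)) : (cxAb F U).X n :=
  mkT F U fun b => rs F (tup_le_opn U b) (y (idx b))

theorem ofC_toC (n : ℕ) (x : (cxAb F U).X n) : ofC ρ F U n (toC ρ F U n x) = x :=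
  coT_ext F U fun b => by
    rw [ofC, coT_mkT]
    show rs F _ (rs F _ (coT F U (tupOf (idx b)) x)) = _
    rw [rs_rs]
    exact (rs_coT F U x (tupOf_idx b) _ le_rfl).trans (rs_self F _ _)

theorem toC_ofC (n : ℕ) (y : C ρ F U (n : ℤ)) : toC ρ F U n (ofC ρ F U n y) = y :=
  funext fun a => by
    show rs F _ (coT F U (tupOf a) (ofC ρ F U n y)) = y a
    rw [ofC, coT_mkT]
    show rs F _ (rs F _ (y (idx (tupOf a)))) = y a
    rw [rs_rs]
    exact (rs_congr ρ F U y (idx_tupOf a) _ le_rfl).trans (rs_self F _ _)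

theorem toC_add (n : ℕ) (x y : (cxAb F U).X n) : toC ρ F U n (x + y) = toC ρ F U n x + toC ρ F U n y :=
  funext fun a => by
    refine (congrArg (rs F (le_tupOf U a)) (coT_add F U _ x y)).trans ?_
    exact map_add (F.presheaf.map (homOfLE (le_tupOf U a)).op).hom _ _

/-- The comparison of cochains. -/
def eC (n : ℕ) : ((cxAb F U).X n : Type u) ≃+ C ρ F U (n : ℤ) where
  toFun := toC ρ F U n
  invFun := ofC ρ F U n
  left_inv := ofC_toC ρ F U n
  right_inv := toC_ofC ρ F U n
  map_add' := toC_add ρ F U n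

theorem eC_d (n : ℕ) (x : (cxAb F U).X n) :
    eC ρ F U (n + 1) ((cxAb F U).d n (n + 1) x) =
      (show C ρ F U ((n + 1 : ℕ) : ℤ) from dL ρ F U (n : ℤ) (eC ρ F U n x)) := by
  funext a
  show rs F _ (coT F U (tupOf a) ((cxAb F U).d n (n + 1) x)) = _
  rw [coT_d]
  refine (map_sum (F.presheaf.map (homOfLE (le_tupOf U a)).op).hom _ _).trans ?_
  refine Eq.trans ?_ (dL_apply ρ F U (Int.natCast_nonneg n) (eC ρ F U n x) a).symm
  have hl : a.1.length = n + 2 := by have := a.2.1; omega
  refine Fintype.sum_equiv (finCongr hl.symm) _ _ fun k => ?_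
  refine (map_zsmul (F.presheaf.map (homOfLE (le_tupOf U a)).op).hom _ _).trans ?_
  refine congrArg₂ (fun (s : ℤ) (t : Γ(F, opn U a.1)) => s • t) (by simp) ?_
  show rs F _ (rs F _ (coT F U (tupOf a ∘ k.succAbove) x)) = rs F _ (rs F _ (coT F U (tupOf _) x))
  rw [rs_rs, rs_rs]
  refine rs_coT F U x (funext fun j => ?_) _ _
  simp only [Function.comp_apply, tupOf, finCongr_apply, Fin.val_cast]
  rw [List.getElem_eraseIdx]
  rcases Nat.lt_or_ge j.1 k.1 with h | h
  · rw [dif_pos h]
    congr 1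
    exact (congrArg Fin.val (Fin.succAbove_of_castSucc_lt k j h)).trans rfl
  · rw [dif_neg (by omega)]
    congr 1
    exact (congrArg Fin.val (Fin.succAbove_of_le_castSucc k j h)).trans rfl

end Compare

theorem dL_dL (i : ℤ) (x : C ρ F U i) : dL ρ F U (i + 1) (dL ρ F U i x) = 0 := by
  by_cases hi : 0 ≤ i
  · obtain ⟨n, rfl⟩ : ∃ n : ℕ, i = n := ⟨i.toNat, (Int.toNat_of_nonneg hi).symm⟩
    obtain ⟨y, rfl⟩ := (eC ρ F U n).surjective x
    have h1 := eC_d ρ F U n y
    have h2 := eC_d ρ F U (n + 1) ((cxAb F U).d n (n + 1) y)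
    rw [h1] at h2
    refine (h2.symm.trans ?_)
    rw [← ConcreteCategory.comp_apply, (cxAb F U).d_comp_d]
    exact map_zero _
  · haveI := subsingleton_C ρ F U (i := i) (by omega)
    rw [Subsingleton.elim x 0, map_zero, map_zero]

/-- The Čech complex of `A`-modules. -/
def K : CochainComplex (ModuleCat.{u} A) ℤ :=
  CochainComplex.of (fun i => ModuleCat.of A (C ρ F U i)) (fun i => ModuleCat.ofHom (dL ρ F U i))
    fun i => ModuleCat.hom_ext (LinearMap.ext (dL_dL ρ F U i))

theorem K_d (i : ℤ) (x : C ρ F U i) : (K ρ F U).d i (i + 1) x = dL ρ F U i x := by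
  have h : (K ρ F U).d i (i + 1) = ModuleCat.ofHom (dL ρ F U i) :=
    CochainComplex.of_d (fun i => ModuleCat.of A (C ρ F U i)) (fun i => ModuleCat.ofHom (dL ρ F U i)) i
  rw [h]
  rfl

/-- Action of a global function on the abelian Čech complex. -/
abbrev smulCx (r : Coh.Γtop X) : cxAb F U ⟶ cxAb F U :=
  Groth.L10.Cech.cxMap (π := 𝟭 (Opens X.toTopCat)) (Y := U) (Coh.smulAb F r).hom

theorem eC_smul (n : ℕ) (a : A) (x : (cxAb F U).X n) :
    eC ρ F U n ((smulCx F U (ρ a)).f n x) = a • eC ρ F U n x := by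
  funext b
  show rs F _ (coT F U (tupOf b) ((smulCx F U (ρ a)).f n x)) = _
  rw [show coT F U (tupOf b) ((smulCx F U (ρ a)).f n x) =
      (show Γ(X, T U (tupOf b)) from X.presheaf.map (homOfLE le_top).op (ρ a)) • coT F U (tupOf b) x from
    (Groth.L10.Cech.co_map _ _ _).trans (Coh.smulAb_app F (ρ a) _ _)]
  refine (rs_smul F (le_tupOf U b) _ _).trans ?_
  exact congrArg (fun c : Γ(X, opn U b.1) => c • rs F (le_tupOf U b) (coT F U (tupOf b) x))
    (ro_ro le_top (le_tupOf U b) (ρ a))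

/-- Čech cohomology of `A`-modules is cohomology. -/
theorem exists_homology_equiv [Coh.IsQCoh F] (hU : ⨆ i, U i = ⊤)
    (haff : ∀ (n : ℕ) (a : Fin (n + 1) → ι), IsAffineOpen (⨅ k, U (a k))) (p : ℕ) :
    letI : Module A (Coh.HH X F p) := Module.compHom (Coh.HH X F p) ρ
    Nonempty (((K ρ F U).homology (p : ℤ) : Type u) ≃ₗ[A] Coh.HH X F p) := by
  letI : Module A (Coh.HH X F p) := Module.compHom (Coh.HH X F p) ρ
  obtain ⟨e, he⟩ := Groth.L16.CechEndo.exists_cechH_HH_endo U hU F haff p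
  let Kc := K ρ F U
  have hn : (ComplexShape.up ℤ).next (p : ℤ) = ((p : ℤ) + 1) := CochainComplex.next _ _
  have hi : ∀ z, (cxAb F U).d p (p + 1) ((cxAb F U).iCycles p z) = 0 := fun z => by
    rw [← ConcreteCategory.comp_apply, (cxAb F U).iCycles_d p (p + 1)]; rfl
  have hx : ∀ z, Kc.d (p : ℤ) ((p : ℤ) + 1) (eC ρ F U p ((cxAb F U).iCycles p z)) = 0 := fun z => by
    refine (K_d ρ F U _ _).trans ((eC_d ρ F U p _).symm.trans ?_)
    rw [hi]
    exact map_zero _
  choose w hw using fun z => Groth.L28.HomElt.exists_cycle (K := Kc) hn _ (hx z)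
  have hinj := Groth.L28.HomElt.iCycles_injective Kc (p : ℤ)
  let w' : (cxAb F U).cycles p →+ Kc.homology (p : ℤ) :=
    AddMonoidHom.mk' (fun z => Kc.homologyπ (p : ℤ) (w z)) fun z z' => by
      rw [← map_add]
      refine congrArg _ (hinj ?_)
      rw [map_add, hw, hw, hw, map_add]
      exact map_add (eC ρ F U p) _ _
  let q : (cxAb F U).cycles p →+ Coh.HH X F p := e.toAddMonoidHom.comp ((cxAb F U).homologyπ p).hom
  have hq : Function.Surjective q :=
    e.surjective.comp ((AddCommGrpCat.epi_iff_surjective _).1 inferInstance)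
  have hiA : Function.Injective ((cxAb F U).iCycles p) := (AddCommGrpCat.mono_iff_injective _).1 inferInstance
  have hex₁ : ∀ y : (cxAb F U).X p, (cxAb F U).d p (p + 1) y = 0 → ∃ z, (cxAb F U).iCycles p z = y := by
    intro y hy
    have h := ShortComplex.exact_of_f_is_kernel
      (ShortComplex.mk ((cxAb F U).iCycles p) ((cxAb F U).d p (p + 1)) ((cxAb F U).iCycles_d p _))
      ((cxAb F U).cyclesIsKernel p (p + 1) (by simp))
    exact (ShortComplex.ab_exact_iff _).1 h y hy
  have hsurj : Function.Surjective w' := fun h => by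
    obtain ⟨zK, rfl⟩ := Groth.L28.HomElt.homologyπ_surjective Kc (p : ℤ) h
    obtain ⟨y, hy⟩ := (eC ρ F U p).surjective (Kc.iCycles (p : ℤ) zK)
    have hy0 : (cxAb F U).d p (p + 1) y = 0 := by
      apply (eC ρ F U (p + 1)).injective
      rw [map_zero]
      refine (eC_d ρ F U p y).trans ?_
      rw [hy]
      exact (K_d ρ F U _ _).symm.trans (Groth.L28.HomElt.d_iCycles (K := Kc) _ _ zK)
    obtain ⟨z, hz⟩ := hex₁ y hy0
    refine ⟨z, ?_⟩
    show Kc.homologyπ (p : ℤ) (w z) = Kc.homologyπ (p : ℤ) zK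
    refine congrArg _ (hinj ?_)
    rw [hw, hz, hy]
  have hex₂ : ∀ z, (cxAb F U).homologyπ p z = 0 ↔ Kc.homologyπ (p : ℤ) (w z) = 0 := by
    intro z
    have hA := ShortComplex.exact_of_g_is_cokernel
      (ShortComplex.mk ((cxAb F U).toCycles ((ComplexShape.up ℕ).prev p) p) ((cxAb F U).homologyπ p)
        ((cxAb F U).toCycles_comp_homologyπ _ p))
      ((cxAb F U).homologyIsCokernel _ p rfl)
    rw [Groth.L28.HomElt.π_eq_zero_iff (K := Kc) (i := (p : ℤ) - 1) (CochainComplex.prev _ _)]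
    constructor
    · intro h
      obtain ⟨y, hy⟩ := (ShortComplex.ab_exact_iff _).1 hA z h
      cases p with
      | zero =>
        refine ⟨0, ?_⟩
        rw [map_zero, hw]
        have hd : (cxAb F U).d ((ComplexShape.up ℕ).prev 0) 0 = 0 := (cxAb F U).shape _ _ (by simp)
        have : (cxAb F U).iCycles 0 z = 0 := by
          rw [← hy]
          show ((cxAb F U).toCycles _ 0 ≫ (cxAb F U).iCycles 0) y = 0
          rw [(cxAb F U).toCycles_i, hd]; rfl
        rw [this]
        exact (map_zero _).symm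
      | succ n =>
        have hp : (ComplexShape.up ℕ).prev (n + 1) = n := CochainComplex.prev_nat_succ n
        revert y
        rw [hp]
        intro y hy
        have hcast : ((n + 1 : ℕ) : ℤ) - 1 = (n : ℤ) := by omega
        rw [hcast]
        refine ⟨eC ρ F U n y, ?_⟩
        rw [hw, ← hy]
        refine (K_d ρ F U _ _).trans ((eC_d ρ F U n y).symm.trans ?_)
        show eC ρ F U (n + 1) _ = eC ρ F U (n + 1) (((cxAb F U).toCycles n (n + 1) ≫ (cxAb F U).iCycles (n + 1)) y)
        rw [(cxAb F U).toCycles_i]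
    · rintro ⟨y, hy⟩
      cases p with
      | zero =>
        haveI : Subsingleton (Kc.X (((0 : ℕ) : ℤ) - 1)) := subsingleton_C ρ F U (i := ((0 : ℕ) : ℤ) - 1) (by omega)
        rw [Subsingleton.elim y 0, map_zero, hw] at hy
        have : (cxAb F U).iCycles 0 z = 0 := (eC ρ F U 0).injective (hy.symm.trans (map_zero _).symm)
        rw [hiA (this.trans (map_zero _).symm), map_zero]
      | succ n =>
        have hcast : ((n + 1 : ℕ) : ℤ) - 1 = (n : ℤ) := by omega
        revert y
        rw [hcast]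
        intro y hy
        obtain ⟨y', rfl⟩ := (eC ρ F U n).surjective y
        have hy' : (cxAb F U).d n (n + 1) y' = (cxAb F U).iCycles (n + 1) z := by
          apply (eC ρ F U (n + 1)).injective
          rw [eC_d, ← hw]
          exact (K_d ρ F U _ _).symm.trans hy
        have : (cxAb F U).toCycles n (n + 1) y' = z := hiA (by
          rw [← ConcreteCategory.comp_apply, (cxAb F U).toCycles_i]; exact hy')
        rw [← this, ← ConcreteCategory.comp_apply, (cxAb F U).toCycles_comp_homologyπ]; rfl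
  obtain ⟨E, hE⟩ := Groth.L16.CechEndo.exists_addEquiv_of_ker_eq w' q hsurj hq (by
    ext z
    rw [AddMonoidHom.mem_ker, AddMonoidHom.mem_ker]
    exact (hex₂ z).symm.trans e.map_eq_zero_iff.symm)
  refine ⟨{ E with map_smul' := fun a h => ?_ }⟩
  obtain ⟨z, rfl⟩ := hsurj h
  let z' := HomologicalComplex.cyclesMap (smulCx F U (ρ a)) p z
  have h1 : w' z' = a • w' z := by
    show Kc.homologyπ (p : ℤ) (w z') = a • Kc.homologyπ (p : ℤ) (w z)
    rw [← map_smul]
    refine congrArg _ (hinj ?_)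
    rw [map_smul, hw, hw]
    show eC ρ F U p ((HomologicalComplex.cyclesMap (smulCx F U (ρ a)) p ≫ (cxAb F U).iCycles p) z) = _
    rw [HomologicalComplex.cyclesMap_i]
    exact eC_smul ρ F U p a _
  show E (a • w' z) = a • E (w' z)
  rw [← h1, hE, hE]
  show e ((cxAb F U).homologyπ p z') = Sheaf.H.map (Coh.smulAb F (ρ a)) p (e ((cxAb F U).homologyπ p z))
  rw [← he (Coh.smulAb F (ρ a))]
  refine congrArg e ?_
  show (HomologicalComplex.cyclesMap (smulCx F U (ρ a)) p ≫ (cxAb F U).homologyπ p) z =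
    ((cxAb F U).homologyπ p ≫ HomologicalComplex.homologyMap (smulCx F U (ρ a)) p) z
  rw [HomologicalComplex.homologyπ_naturality]

end Groth.L17.BC
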