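import Groth.Agent.L17.BC.Split
import Groth.Agent.L01.FlatCx.Rank
import Groth.Agent.L13.Fitting.LocFree
import Groth.Agent.L13.Fitting.BaseChange
import Groth.Agent.L13.Fitting.Fibre

/-!
# Split differentials, projective cokernels and their Fitting ideals
-/

set_option autoImplicit false
set_option linter.style.haveILetI false
set_option linter.unusedSectionVars false
set_option backward.isDefEq.respectTransparency false

universe u

open scoped TensorProduct

noncomputable section

namespace Groth.L17.BC.SplitCoker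

open Groth.L01.FlatCx (mu mu_baseChange mu_eq_rankAtStalk)

variable {A : Type u} [CommRing A] {P₀ P P₂ : Type u} [AddCommGroup P₀] [Module A P₀] [AddCommGroup P] [Module A P]
  [AddCommGroup P₂] [Module A P₂]

/-- A map split at every point has projective cokernel, when the target is projective. -/
theorem projective_coker_of_splitAt (d : P →ₗ[A] P₂) [Module.Projective A P₂]
    (h : ∀ x : PrimeSpectrum A, SplitAt d x) : Module.Projective A (P₂ ⧸ LinearMap.range d) := by
  let q := (LinearMap.range d).mkQ
  let I : Ideal A :=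
    { carrier := {r | ∃ π : (P₂ ⧸ LinearMap.range d) →ₗ[A] P₂, q ∘ₗ π = r • LinearMap.id}
      add_mem' := by
        rintro a b ⟨π, hπ⟩ ⟨π', hπ'⟩
        exact ⟨π + π', by rw [LinearMap.comp_add, hπ, hπ', add_smul]⟩
      zero_mem' := ⟨0, by rw [LinearMap.comp_zero, zero_smul]⟩
      smul_mem' := by
        rintro c a ⟨π, hπ⟩
        exact ⟨c • π, by rw [LinearMap.comp_smul, hπ, smul_eq_mul, mul_smul]⟩ }
  have hI : I = ⊤ := by
    by_contra hne
    obtain ⟨m, hm, hle⟩ := I.exists_le_maximal hne
    obtain ⟨r, σ, hr, hσ⟩ := h ⟨m, hm.isPrime⟩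
    have hker : LinearMap.range d ≤ LinearMap.ker (r • LinearMap.id - d ∘ₗ σ : P₂ →ₗ[A] P₂) := by
      rintro _ ⟨v, rfl⟩
      simp [hσ v]
    refine hr (hle (show r ∈ I from ⟨(LinearMap.range d).liftQ _ hker, ?_⟩))
    ext w
    simp [q]
  obtain ⟨π, hπ⟩ : (1 : A) ∈ I := hI ▸ Submodule.mem_top
  rw [one_smul] at hπ
  exact Module.Projective.of_split π q hπ

/-- A map with projective cokernel is split at every point. -/
theorem splitAt_of_projective_coker (d : P →ₗ[A] P₂) [Module.Projective A P₂]
    [Module.Projective A (P₂ ⧸ LinearMap.range d)] (x : PrimeSpectrum A) : SplitAt d x := by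
  obtain ⟨s, hs⟩ := Module.projective_lifting_property (LinearMap.range d).mkQ LinearMap.id
    (Submodule.mkQ_surjective _)
  let e : P₂ →ₗ[A] LinearMap.range d :=
    LinearMap.codRestrict _ (LinearMap.id - s ∘ₗ (LinearMap.range d).mkQ) fun w => by
      rw [← Submodule.Quotient.mk_eq_zero, LinearMap.sub_apply, Submodule.Quotient.mk_sub, LinearMap.comp_apply,
        LinearMap.id_apply]
      exact sub_eq_zero.2 (LinearMap.congr_fun hs _).symm
  have he : ∀ v, (e (d v) : P₂) = d v := fun v => by
    show d v - s ((LinearMap.range d).mkQ (d v)) = d v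
    rw [show (LinearMap.range d).mkQ (d v) = 0 from (Submodule.Quotient.mk_eq_zero _).2 ⟨v, rfl⟩, map_zero, sub_zero]
  haveI : Module.Projective A (LinearMap.range d) := by
    refine Module.Projective.of_split (LinearMap.range d).subtype e ?_
    refine LinearMap.ext fun w => Subtype.ext ?_
    obtain ⟨v, hv⟩ := w.2
    show (e w.1 : P₂) = w.1
    rw [← hv, he]
  obtain ⟨t, ht⟩ := Module.projective_lifting_property d.rangeRestrict LinearMap.id d.surjective_rangeRestrict
  refine ⟨1, t ∘ₗ e, x.asIdeal.ne_top_iff_one.1 x.2.ne_top, fun v => ?_⟩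
  rw [one_smul, LinearMap.comp_apply]
  exact (congrArg Subtype.val (LinearMap.congr_fun ht (e (d v)))).trans (he v)

/-- Splitting is invariant under isomorphisms of source and target. -/
theorem splitAt_congr {Q Q₂ : Type u} [AddCommGroup Q] [Module A Q] [AddCommGroup Q₂] [Module A Q₂]
    (e : P ≃ₗ[A] Q) (e₂ : P₂ ≃ₗ[A] Q₂) {d : P →ₗ[A] P₂} {d₂ : Q →ₗ[A] Q₂} (h : ∀ v, d₂ (e v) = e₂ (d v))
    {x : PrimeSpectrum A} : SplitAt d x ↔ SplitAt d₂ x := by
  constructor
  · rintro ⟨r, σ, hr, hσ⟩
    refine ⟨r, e.toLinearMap ∘ₗ σ ∘ₗ e₂.symm.toLinearMap, hr, fun v => ?_⟩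
    obtain ⟨v, rfl⟩ := e.surjective v
    simp only [LinearMap.comp_apply, LinearEquiv.coe_coe, h, LinearEquiv.symm_apply_apply, hσ, map_smul]
  · rintro ⟨r, σ, hr, hσ⟩
    refine ⟨r, e.symm.toLinearMap ∘ₗ σ ∘ₗ e₂.toLinearMap, hr, fun v => e₂.injective ?_⟩
    simp only [LinearMap.comp_apply, LinearEquiv.coe_coe, ← h, LinearEquiv.apply_symm_apply, hσ, map_smul]

/-- The cokernel commutes with base change. -/
theorem nonempty_coker_baseChange (R : Type u) [CommRing R] [Algebra A R] (d : P →ₗ[A] P₂) :
    Nonempty ((R ⊗[A] (P₂ ⧸ LinearMap.range d)) ≃ₗ[R] ((R ⊗[A] P₂) ⧸ LinearMap.range (d.baseChange R))) := by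
  let q := (LinearMap.range d).mkQ.baseChange R
  have hq : Function.Surjective q := LinearMap.lTensor_surjective R (Submodule.mkQ_surjective _)
  have hex : ∀ z, q z = 0 ↔ z ∈ LinearMap.range (d.baseChange R) :=
    lTensor_exact R (f := d) (g := (LinearMap.range d).mkQ) (LinearMap.exact_map_mkQ_range d)
      (Submodule.mkQ_surjective _)
  exact ⟨((Submodule.quotEquivOfEq _ _ (Submodule.ext fun z => (hex z).symm)).trans
    (q.quotKerEquivOfSurjective hq)).symm⟩

variable (d' : P₀ →ₗ[A] P) (d : P →ₗ[A] P₂)

/-- The module detecting split differentials and the fibre dimension of the middle homology. -/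
abbrev Det : Type u := (P₂ ⧸ LinearMap.range d) × (P ⧸ LinearMap.range d')

/-- The dimension identity over a field. -/
theorem finrank_det [Module.Free A P₂] [Module.Finite A P] [Module.Finite A P₂] (K : Type u) [Field K] [Algebra A K] {H : Type u}
    [AddCommGroup H] [Module K H] (q : LinearMap.ker (d.baseChange K) →ₗ[K] H) (hq : Function.Surjective q)
    (hq0 : ∀ z, q z = 0 ↔ ∃ u, d'.baseChange K u = z.1) (hdd : d ∘ₗ d' = 0) :
    Module.finrank K H + Module.finrank A P₂ = Module.finrank K (K ⊗[A] Det d' d) := by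
  haveI : Module.Finite A (P₂ ⧸ LinearMap.range d) := inferInstance
  haveI : Nontrivial A := (algebraMap A K).domain_nontrivial
  obtain ⟨e₁⟩ := nonempty_coker_baseChange K d
  obtain ⟨e₀⟩ := nonempty_coker_baseChange K d'
  rw [(TensorProduct.prodRight A K K (P₂ ⧸ LinearMap.range d) (P ⧸ LinearMap.range d')).finrank_eq,
    Module.finrank_prod, e₁.finrank_eq, e₀.finrank_eq, ← Module.finrank_baseChange (R := K) (S := A) (M' := P₂)]
  have h1 := (LinearMap.range (d.baseChange K)).finrank_quotient_add_finrank
  have h2 := (LinearMap.range (d'.baseChange K)).finrank_quotient_add_finrank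
  have h3 := (d.baseChange K).finrank_range_add_finrank_ker
  have h4 := Submodule.finrank_quotient_add_finrank (R := K) (M := ↥(LinearMap.ker (d.baseChange K))) (LinearMap.ker q)
  have hle : LinearMap.range (d'.baseChange K) ≤ LinearMap.ker (d.baseChange K) := by
    rw [LinearMap.range_le_ker_iff, ← LinearMap.baseChange_comp, hdd, LinearMap.baseChange_zero]
  have hk : LinearMap.ker q = Submodule.comap (LinearMap.ker (d.baseChange K)).subtype
      (LinearMap.range (d'.baseChange K)) := Submodule.ext fun z => hq0 z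
  have h5 : Module.finrank K (LinearMap.ker q) = Module.finrank K (LinearMap.range (d'.baseChange K)) := by
    rw [hk]
    exact (Submodule.comapSubtypeEquivOfLe hle).finrank_eq
  have h6 := (LinearMap.quotKerEquivOfSurjective (R := K) (M := ↥(LinearMap.ker (d.baseChange K))) q hq).finrank_eq
  omega

variable {d' d}

theorem finitePresentation_coker [Module.FinitePresentation A P₂] [Module.Finite A P] :
    Module.FinitePresentation A (P₂ ⧸ LinearMap.range d) :=
  Module.finitePresentation_of_surjective _ (Submodule.mkQ_surjective _)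
    (by rw [Submodule.ker_mkQ]; exact Module.Finite.iff_fg.1 inferInstance)

variable {N : Type u} [AddCommGroup N] [Module A N]

/-- The base change of `N` is projective of rank `n`. -/
def Cond {R : Type u} [CommRing R] (φ : A →+* R) (N : Type u) [AddCommGroup N] [Module A N] (n : ℕ) : Prop :=
  (∀ k, k < n → (Fitt.ideal A N k).map φ = ⊥) ∧ (Fitt.ideal A N n).map φ = ⊤

theorem Cond.comp {R : Type u} [CommRing R] {φ : A →+* R} {n : ℕ} (h : Cond φ N n) {R' : Type u} [CommRing R'] (ψ : R →+* R') :
    Cond (ψ.comp φ) N n :=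
  ⟨fun k hk => by rw [← Ideal.map_map, h.1 k hk, Ideal.map_bot], by rw [← Ideal.map_map, h.2, Ideal.map_top]⟩

variable {R : Type u} [CommRing R] [Algebra A R]

/-- With the preceding differential split, projectivity of the detecting module is splitting of the differential. -/
theorem projective_det_iff [Module.Projective A P] [Module.Projective A P₂]
    (hneg : ∀ x, SplitAt d' x) :
    Module.Projective R (R ⊗[A] Det d' d) ↔ ∀ x : PrimeSpectrum R, SplitAt (d.baseChange R) x := by
  haveI := projective_coker_of_splitAt d' hneg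
  let e := TensorProduct.prodRight A R R (P₂ ⧸ LinearMap.range d) (P ⧸ LinearMap.range d')
  obtain ⟨e₁⟩ := nonempty_coker_baseChange R d
  constructor
  · intro h x
    haveI : Module.Projective R ((R ⊗[A] (P₂ ⧸ LinearMap.range d)) × (R ⊗[A] (P ⧸ LinearMap.range d'))) :=
      Module.Projective.of_equiv e
    haveI : Module.Projective R (R ⊗[A] (P₂ ⧸ LinearMap.range d)) :=
      Module.Projective.of_split (LinearMap.inl R _ (R ⊗[A] (P ⧸ LinearMap.range d')))
        (LinearMap.fst R _ (R ⊗[A] (P ⧸ LinearMap.range d'))) (LinearMap.fst_comp_inl ..)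
    haveI : Module.Projective R ((R ⊗[A] P₂) ⧸ LinearMap.range (d.baseChange R)) :=
      Module.Projective.of_equiv e₁
    exact splitAt_of_projective_coker _ x
  · intro h
    haveI := projective_coker_of_splitAt (d.baseChange R) h
    haveI : Module.Projective R (R ⊗[A] (P₂ ⧸ LinearMap.range d)) := Module.Projective.of_equiv e₁.symm
    exact Module.Projective.of_equiv e.symm


theorem cond_iff [Module.FinitePresentation A N] (n : ℕ) :
    Cond (algebraMap A R) N n ↔
      Module.Projective R (R ⊗[A] N) ∧ ∀ x : PrimeSpectrum R, mu N (PrimeSpectrum.comap (algebraMap A R) x) = n := by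
  unfold Cond
  simp only [← Groth.L13.Fitting.ideal_baseChange]
  rw [← Groth.L13.Fitting.projective_rank_iff]
  refine and_congr_right fun hP => forall_congr' fun x => ?_
  haveI : Module.Flat R (R ⊗[A] N) := Module.Flat.of_projective
  rw [← mu_eq_rankAtStalk, mu_baseChange]

theorem ideal_eq_top_of_mu_le [Module.Finite A N] {n : ℕ} (h : ∀ x : PrimeSpectrum A, mu N x ≤ n) :
    Fitt.ideal A N n = ⊤ := by
  by_contra hne
  obtain ⟨m, hm, hle⟩ := Ideal.exists_le_maximal _ hne
  haveI := hm.isPrime
  exact (Groth.L13.Fitting.not_le_iff_finrank m n).2 (h ⟨m, hm.isPrime⟩) hle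

theorem cond_iff_le_ker [Module.Finite A N] (n : ℕ) (hle : ∀ x : PrimeSpectrum A, mu N x ≤ n) {R : Type u} [CommRing R]
    (φ : A →+* R) :
    Cond φ N n ↔ (Finset.range n).sup (Fitt.ideal A N) ≤ RingHom.ker φ := by
  rw [Finset.sup_le_iff, Cond, ideal_eq_top_of_mu_le hle, Ideal.map_top]
  simp only [Finset.mem_range, and_true, Ideal.map_eq_bot_iff_le_ker]

theorem fg_sup [Module.FinitePresentation A N] (n : ℕ) : ((Finset.range n).sup (Fitt.ideal A N)).FG :=
  Finset.sup_induction Submodule.fg_bot (fun _ ha _ hb => Submodule.FG.sup ha hb)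
    fun k _ => Groth.L13.Fitting.ideal_fg_of_finitePresentation k

theorem setOf_mu_le [Module.Finite A N] (n : ℕ) :
    {x : PrimeSpectrum A | mu N x ≤ n} = (PrimeSpectrum.zeroLocus (Fitt.ideal A N n : Set A))ᶜ := by
  ext x
  exact (Groth.L13.Fitting.not_le_iff_finrank x.asIdeal n).symm

end Groth.L17.BC.SplitCoker
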