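import Groth.Agent.L17.BC.Bc0Apply
import Groth.Agent.L17.BC.SplitCoker
import Groth.Agent.L29.DCoh.RelBC

/-!
# The stratum where a direct image is locally free of given rank, universally
-/

set_option autoImplicit false
set_option linter.style.haveILetI false
set_option linter.unusedSectionVars false
set_option backward.isDefEq.respectTransparency false

universe u

open CategoryTheory CategoryTheory.Limits AlgebraicGeometry TopologicalSpace Opposite
open scoped TensorProduct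

noncomputable section

namespace Groth.L17.BC.Classes

open Groth.L01.FlatCx (mu)
open SplitCoker (Det Cond)

/-- On an affine open inside a trivialising open the fibre dimension of the sections is the rank. -/
theorem mu_eq_of_restrict {Y : Scheme.{u}} (M : Y.Modules) [Coh.IsQCoh M] {W U : Y.Opens} (hW : IsAffineOpen W)
    (hWU : W ≤ U) {n : ℕ} (i : M.restrict U.ι ≅ FlatMod.freeMod (U : Scheme.{u}) n)
    (x : PrimeSpectrum Γ(Y, W)) : mu (A := Γ(Y, W)) Γ(M, W) x = n := by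
  obtain ⟨N, e, ⟨ε⟩⟩ := exists_chart M hW
  let l : Spec Γ(Y, W) ⟶ (U : Scheme.{u}) := IsOpenImmersion.lift U.ι hW.fromSpec (by
    rw [Scheme.Opens.range_ι, hW.range_fromSpec]; exact hWU)
  have hl : l ≫ U.ι = hW.fromSpec := IsOpenImmersion.lift_fac _ _ _
  let e' : tilde N ≅ FlatMod.freeMod (Spec Γ(Y, W)) n := e.symm ≪≫
    (Scheme.Modules.restrictFunctorIsoPullback hW.fromSpec).app M ≪≫
    (Scheme.Modules.pullbackCongr hl.symm).app M ≪≫ ((Scheme.Modules.pullbackComp l U.ι).app M).symm ≪≫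
    (Scheme.Modules.pullback l).mapIso
      (((Scheme.Modules.restrictFunctorIsoPullback U.ι).app M).symm ≪≫ i) ≪≫
    Groth.L29.LocFree.pullbackFreeIso _ n
  let e'' : N ≅ ModuleCat.of Γ(Y, W) (ULift.{u} (Fin n) →₀ Γ(Y, W)) :=
    (tilde.functor Γ(Y, W)).preimageIso (e' ≪≫ (Groth.L19.PullChart.freeTildeIso Γ(Y, W) n).symm)
  let E := ε.symm.trans e''.toLinearEquiv
  haveI : Nontrivial Γ(Y, W) := (algebraMap Γ(Y, W) x.asIdeal.ResidueField).domain_nontrivial
  refine (E.baseChange Γ(Y, W) x.asIdeal.ResidueField).finrank_eq.trans ?_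
  show Module.finrank x.asIdeal.ResidueField (x.asIdeal.ResidueField ⊗[Γ(Y, W)] (ULift.{u} (Fin n) →₀ Γ(Y, W))) = n
  rw [Module.finrank_baseChange, Module.finrank_finsupp_self]
  simp

theorem exists_primeIdealOf {Y : Scheme.{u}} {V : Y.Opens} (hV : IsAffineOpen V) (x : PrimeSpectrum Γ(Y, V)) :
    ∃ (y : Y) (hy : y ∈ V), hV.primeIdealOf ⟨y, hy⟩ = x := by
  have hm : hV.fromSpec x ∈ V := hV.opensRange_fromSpec.le ⟨x, rfl⟩
  exact ⟨_, hm, hV.fromSpec.isOpenEmbedding.injective (hV.fromSpec_primeIdealOf _)⟩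

section GLocal

variable {X S X' S' : Scheme.{u}} {f : X ⟶ S} {g : S' ⟶ S} {f' : X' ⟶ S'} {g' : X' ⟶ X} {F : X.Modules}

theorem isPullback_ι_fV (f : X ⟶ S) {V : S.Opens} (hV : IsAffineOpen V) :
    IsPullback (f ⁻¹ᵁ V).ι (fV f hV) f hV.fromSpec :=
  (isPullback_morphismRestrict f V).flip.of_iso (Iso.refl _) (Iso.refl _) hV.isoSpec (Iso.refl _) (by simp)
    (by simp [fV]) (by simp) (by simp [IsAffineOpen.isoSpec_hom_fromSpec])

/-- A complex over an affine open of the base gives one over an affine open of a base change. -/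
theorem _root_.Groth.L17.BC.GLocal.exists_pull {V : S.Opens} {hV : IsAffineOpen V} (l : GLocal f hV F) (pb : IsPullback g' f' f g)
    {V' : S'.Opens} (hV' : IsAffineOpen V') (le : V' ≤ g ⁻¹ᵁ V) :
    ∃ l' : GLocal f' hV' ((Scheme.Modules.pullback g').obj F), ∀ y (hy : y ∈ V'),
      CohIII.bcCx l'.φ l'.m.L = CohIII.bcCx ((g.appLE V V' le).hom.comp l.φ) l.m.L ∧
        CohIII.dRank l'.m.L ((0 : ℕ) : ℤ) (l'.pt hy) = CohIII.dRank l.m.L ((0 : ℕ) : ℤ) (l.pt (le hy)) := by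
  let ψ := g.appLE V V' le
  have hle : f' ⁻¹ᵁ V' ≤ g' ⁻¹ᵁ (f ⁻¹ᵁ V) := (f'.preimage_mono le).trans (CohCmp.sqLE f g f' g' pb.w V)
  let g₁ : (↑(f' ⁻¹ᵁ V') : Scheme.{u}) ⟶ ↑(f ⁻¹ᵁ V) := g'.resLE (f ⁻¹ᵁ V) (f' ⁻¹ᵁ V') hle
  have hg₁ : g₁ ≫ (f ⁻¹ᵁ V).ι = (f' ⁻¹ᵁ V').ι ≫ g' := Scheme.Hom.resLE_comp_ι _ _
  have hb : Spec.map ψ ≫ hV.fromSpec = hV'.fromSpec ≫ g := IsAffineOpen.SpecMap_appLE_fromSpec g hV hV' le
  have big : IsPullback (g₁ ≫ (f ⁻¹ᵁ V).ι) (fV f' hV') f (Spec.map ψ ≫ hV.fromSpec) := by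
    rw [hg₁, hb]
    exact (isPullback_ι_fV f' hV').paste_horiz pb
  have w : g₁ ≫ fV f hV = fV f' hV' ≫ Spec.map ψ := by
    rw [← cancel_mono hV.fromSpec, Category.assoc, fV_fromSpec, Category.assoc, ← big.w, Category.assoc]
  have sq : IsPullback g₁ (fV f' hV') (fV f hV) (Spec.map ψ) :=
    IsPullback.of_right big w (isPullback_ι_fV f hV)
  let iso : (Scheme.Modules.pullback (g₁ ≫ l.g)).obj l.F₀ ≅ FV f' (V := V') ((Scheme.Modules.pullback g').obj F) :=
    ((Scheme.Modules.pullbackComp g₁ l.g).app l.F₀).symm ≪≫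
      (Scheme.Modules.pullback g₁).mapIso (l.iso ≪≫ (Scheme.Modules.restrictFunctorIsoPullback _).app F) ≪≫
      (Scheme.Modules.pullbackComp g₁ (f ⁻¹ᵁ V).ι).app F ≪≫ (Scheme.Modules.pullbackCongr hg₁).app F ≪≫
      ((Scheme.Modules.pullbackComp (f' ⁻¹ᵁ V').ι g').app F).symm ≪≫
      ((Scheme.Modules.restrictFunctorIsoPullback _).app _).symm
  refine ⟨{ A₀ := l.A₀
            φ := ψ.hom.comp l.φ
            X₀ := l.X₀
            f₀ := l.f₀
            F₀ := l.F₀
            coh := l.coh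
            g := g₁ ≫ l.g
            sq := by
              rw [show CommRingCat.ofHom (ψ.hom.comp l.φ) = CommRingCat.ofHom l.φ ≫ ψ from rfl, Spec.map_comp]
              exact sq.paste_horiz l.sq
            iso := iso
            m := l.m }, fun y hy => ⟨rfl, ?_⟩⟩
  refine congrArg _ ?_
  show PrimeSpectrum.comap (ψ.hom.comp l.φ) _ = _
  rw [PrimeSpectrum.comap_comp_apply, IsAffineOpen.comap_primeIdealOf_appLE V hV V' hV' le hy]
  rfl

end GLocal

variable {X S : Scheme.{u}} {f : X ⟶ S} {F : X.Modules} {V : S.Opens}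

section Det

variable [IsProper f] [LocallyOfFinitePresentation f] [HasInjectiveResolutions X.Modules]
  (l : FreeBC0 f F V)

/-- The differential out of degree zero. -/
abbrev FreeBC0.d₀ : (l.free.L.X ((0 : ℕ) : ℤ)) →ₗ[Γ(S, V)] (l.free.L.X (((0 : ℕ) : ℤ) + 1)) :=
  (l.free.L.d ((0 : ℕ) : ℤ) (((0 : ℕ) : ℤ) + 1)).hom

/-- The differential into degree zero. -/
abbrev FreeBC0.d₁ : (l.free.L.X (((0 : ℕ) : ℤ) - 1)) →ₗ[Γ(S, V)] (l.free.L.X ((0 : ℕ) : ℤ)) :=
  (l.free.L.d (((0 : ℕ) : ℤ) - 1) ((0 : ℕ) : ℤ)).hom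

/-- The module detecting the stratum. -/
abbrev FreeBC0.N : Type u := Det l.d₁ l.d₀

/-- The rank of the degree one term. -/
abbrev FreeBC0.n₁ : ℕ := Module.finrank Γ(S, V) (l.free.L.X (((0 : ℕ) : ℤ) + 1))

theorem FreeBC0.finitePresentation_N : Module.FinitePresentation Γ(S, V) l.N := by
  haveI := l.free.finite; haveI := l.free.free
  haveI : Module.FinitePresentation Γ(S, V) (l.free.L.X ((0 : ℕ) : ℤ)) := Module.finitePresentation_of_projective _ _
  haveI : Module.FinitePresentation Γ(S, V) (l.free.L.X (((0 : ℕ) : ℤ) + 1)) :=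
    Module.finitePresentation_of_projective _ _
  haveI := SplitCoker.finitePresentation_coker (d := l.d₀)
  haveI := SplitCoker.finitePresentation_coker (d := l.d₁)
  infer_instance

theorem FreeBC0.splitAt_d₁ (hV : IsAffineOpen V) (x : PrimeSpectrum Γ(S, V)) : SplitAt l.d₁ x := by
  obtain ⟨y, hy, rfl⟩ := exists_primeIdealOf hV x
  have tr : ∀ i j : ℤ, i = -1 → j = 0 → SplitAt (l.free.L.d i j).hom (hV.primeIdealOf ⟨y, hy⟩) := by
    rintro _ _ rfl rfl; exact l.neg hV y hy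
  exact tr _ _ (by norm_num) (by norm_num)

theorem FreeBC0.mu_N (hV : IsAffineOpen V) {y : S} (hy : y ∈ V) :
    mu l.N (hV.primeIdealOf ⟨y, hy⟩) = CohIII.fiberRank f F 0 y + l.n₁ := by
  haveI := l.free.finite; haveI := l.free.free
  letI : Algebra Γ(S, V) (S.residueField y) := (S.evaluation V y hy).hom.toAlgebra
  obtain ⟨q, hq, hq0⟩ := l.free.fiber_cls y hy 0
  have h := SplitCoker.finrank_det l.d₁ l.d₀ (S.residueField y) q hq hq0
    (LinearMap.ext fun x => Transfer.dd_zero l.free.L _ _ _ x)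
  rw [← comap_evaluation hV hy]
  refine Eq.trans ?_ h.symm
  refine (Groth.L01.FlatCx.mu_baseChange (A := Γ(S, V)) l.N (S.residueField y)
    (⊥ : PrimeSpectrum (S.residueField y))).symm.trans ?_
  exact Module.finrank_baseChange

variable [Coh.IsQCoh F]

/-- Where the differential is split and the direct image is free, its rank is the fibre dimension. -/
theorem FreeBC0.fiberRank_eq_of_restrict (hV : IsAffineOpen V) {U : S.Opens} (hVU : V ≤ U) {n : ℕ}
    (i : ((Scheme.Modules.pushforward f).obj F).restrict U.ι ≅ FlatMod.freeMod (U : Scheme.{u}) n)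
    {y : S} (hy : y ∈ V) (h : l.free.Split hV 0 hy) : CohIII.fiberRank f F 0 y = n := by
  obtain ⟨Δ⟩ := nonempty_derivedLES f
  obtain ⟨e₀⟩ := nonempty_Rpush_zero_iso f F
  haveI := PushQCoh.isQCoh_Rpush f F 0
  haveI : Coh.IsQCoh ((Scheme.Modules.pushforward f).obj F) := Groth.L29.DC.isQCoh_of_iso' e₀ inferInstance
  rw [l.free.fiberRank_eq hV Δ hy 0 h]
  exact ((toZero f F V).baseChange _ (hV.primeIdealOf ⟨y, hy⟩).asIdeal.ResidueField).finrank_eq.symm.trans
    (mu_eq_of_restrict _ hV hVU i _)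

end Det

section Good

variable (f F)

/-- The fibre base change map at a point of a base change is epi and the fibre dimension is `r`. -/
def GoodSq {T XT : Scheme.{u}} (v : T ⟶ S) (fT : XT ⟶ T) (gT : XT ⟶ X) (r : ℕ) (t : T) : Prop :=
  Epi (CohBC.bc0 fT (T.fromSpecResidueField t) (fT.fiberToSpecResidueField t)
    (fT.fiberι t) (fT.fiber_fac t) ((Scheme.Modules.pullback gT).obj F)) ∧
  CohIII.fiberRank f F 0 (v t) = r

/-- The same for the chosen base change. -/
abbrev Good {T : Scheme.{u}} (v : T ⟶ S) (r : ℕ) (t : T) : Prop :=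
  GoodSq f F v (pullback.snd f v) (pullback.fst f v) r t

variable [IsProper f] [LocallyOfFinitePresentation f] [HasInjectiveResolutions X.Modules] [Coh.IsQCoh F]
  (hfp : CohB1.IsFP F) (hfl : FlatMod.IsFlatOver f F)

include hfp hfl

theorem exists_det (hV : IsAffineOpen V) :
    ∃ (g : GLocal f hV F) (l : FreeBC0 f F V), l.free.L = CohIII.bcCx g.φ g.m.L := by
  obtain ⟨g⟩ := nonempty_glocal f hV F hfp hfl
  exact ⟨g, exists_freeBC0_of_glocal f F hV hfl g⟩

omit hfp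

variable {f F} (hV : IsAffineOpen V) (g : GLocal f hV F) (l : FreeBC0 f F V)
  (hl : l.free.L = CohIII.bcCx g.φ g.m.L) {T : Scheme.{u}} (v : T ⟶ S) {XT : Scheme.{u}} {fT : XT ⟶ T}
  {gT : XT ⟶ X} (pb : IsPullback gT fT f v) [IsProper fT] [LocallyOfFinitePresentation fT]

include hl pb

theorem exists_freeBC0_pullback {W : T.Opens} (hW : IsAffineOpen W) (le : W ≤ v ⁻¹ᵁ V)
    [HasInjectiveResolutions XT.Modules] :
    letI : Algebra Γ(S, V) Γ(T, W) := (v.appLE V W le).hom.toAlgebra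
    ∃ l' : FreeBC0 fT ((Scheme.Modules.pullback gT).obj F) W,
      (∀ t (ht : t ∈ W), (l'.free.Split hW 0 ht ↔ SplitAt (l.d₀.baseChange Γ(T, W)) (hW.primeIdealOf ⟨t, ht⟩)) ∧
        CohIII.fiberRank fT ((Scheme.Modules.pullback gT).obj F) 0 t =
          CohIII.fiberRank f F 0 (v t)) := by
  letI : Algebra Γ(S, V) Γ(T, W) := (v.appLE V W le).hom.toAlgebra
  haveI : Coh.IsQCoh ((Scheme.Modules.pullback gT).obj F) :=
    Groth.L16.AffineBC.isQCoh_pullback _ _
  obtain ⟨g', hg'⟩ := g.exists_pull pb hW le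
  obtain ⟨l', hl'⟩ := exists_freeBC0_of_glocal fT _ hW
    (Groth.L29.DC.RelBC.isFlatOver_pullback pb hfl) g'
  refine ⟨l', fun t ht => ⟨?_, ?_⟩⟩
  · rw [(hg' t ht).1] at hl'
    obtain ⟨ε, hε⟩ := exists_bcEquiv (K := Γ(T, W)) g.φ g.m.L
    unfold FreeBC.Split
    rw [hl']
    unfold FreeBC0.d₀
    rw [hl]
    exact (SplitCoker.splitAt_congr (ε _) (ε _) fun x => hε _ _ x).symm
  · rw [g'.fiberRank_eq ht 0, g.fiberRank_eq (le ht) 0]
    exact (hg' t ht).2

/-- Goodness over an affine open is a condition on the detecting module. -/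
theorem forall_good_iff_cond (r : ℕ) {W : T.Opens} (hW : IsAffineOpen W) (le : W ≤ v ⁻¹ᵁ V) :
    (∀ t ∈ W, GoodSq f F v fT gT r t) ↔ Cond (v.appLE V W le).hom l.N (r + l.n₁) := by
  haveI := PushQCoh.hasInjectiveResolutions XT
  haveI : Coh.IsQCoh ((Scheme.Modules.pullback gT).obj F) :=
    Groth.L16.AffineBC.isQCoh_pullback _ _
  haveI := l.free.finite; haveI := l.free.free
  haveI := l.finitePresentation_N
  letI : Algebra Γ(S, V) Γ(T, W) := (v.appLE V W le).hom.toAlgebra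
  obtain ⟨l', hl'⟩ := exists_freeBC0_pullback hfl hV g l hl v pb hW le
  show _ ↔ Cond (algebraMap Γ(S, V) Γ(T, W)) l.N (r + l.n₁)
  rw [SplitCoker.cond_iff, SplitCoker.projective_det_iff (l.splitAt_d₁ hV)]
  have hmu : ∀ t (ht : t ∈ W), mu l.N (PrimeSpectrum.comap (algebraMap Γ(S, V) Γ(T, W)) (hW.primeIdealOf ⟨t, ht⟩)) =
      CohIII.fiberRank f F 0 (v t) + l.n₁ := fun t ht => by
    rw [show PrimeSpectrum.comap (algebraMap Γ(S, V) Γ(T, W)) (hW.primeIdealOf ⟨t, ht⟩) =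
      hV.primeIdealOf ⟨v t, le ht⟩ from IsAffineOpen.comap_primeIdealOf_appLE V hV W hW le ht, l.mu_N hV]
  constructor
  · refine fun h => ⟨fun x => ?_, fun x => ?_⟩
    · obtain ⟨t, ht, rfl⟩ := exists_primeIdealOf hW x
      exact (hl' t ht).1.1 ((epi_bc0_iff_split hW l' ht).1 (h t ht).1)
    · obtain ⟨t, ht, rfl⟩ := exists_primeIdealOf hW x
      rw [hmu, (h t ht).2]
  · rintro ⟨h1, h2⟩ t ht
    refine ⟨(epi_bc0_iff_split hW l' ht).2 ((hl' t ht).1.2 (h1 _)), ?_⟩
    have := h2 (hW.primeIdealOf ⟨t, ht⟩)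
    rw [hmu] at this
    omega

end Good

end Groth.L17.BC.Classes
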