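import Groth.Agent.L17.BC.Sheaf
import Groth.Agent.L17.BC.GenApply

/-!
# Base change maps near vanishing fibre cohomology
-/

set_option autoImplicit false
set_option linter.style.haveILetI false
set_option linter.unusedSectionVars false
set_option backward.isDefEq.respectTransparency false

universe u

open CategoryTheory CategoryTheory.Limits AlgebraicGeometry TopologicalSpace Opposite
open scoped TensorProduct

noncomputable section

namespace Groth.L17.BC.Classes

variable {X S : Scheme.{u}} (f : X ⟶ S) [IsProper f] [LocallyOfFinitePresentation f]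
  [HasInjectiveResolutions X.Modules] (F : X.Modules) [Coh.IsQCoh F]
  (hfp : CohB1.IsFP F) (hfl : FlatMod.IsFlatOver f F)

include hfp hfl in
theorem exists_freeBC (y : S) :
    ∃ (V : S.Opens) (_ : IsAffineOpen V) (_ : FreeBC f (V := V) F), y ∈ V := by
  obtain ⟨_, ⟨V, hV, rfl⟩, hyV, -⟩ :=
    S.isBasis_affineOpens.exists_subset_of_mem_open (Set.mem_univ y) isOpen_univ
  obtain ⟨l⟩ := nonempty_freeBC f F hV hfp hfl
  exact ⟨V, hV, l, hyV⟩

variable {f F} {V : S.Opens} (hV : IsAffineOpen V) (l : FreeBC f (V := V) F)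

/-- Vanishing fibre cohomology splits the differential. -/
theorem FreeBC.split_of_vanishing {y : S} (hy : y ∈ V) (p : ℕ) (h : Subsingleton (CohIII.fiberH f F y p)) :
    l.Split hV p hy := by
  letI : Algebra Γ(S, V) (S.residueField y) := (S.evaluation V y hy).hom.toAlgebra
  haveI := l.finite (p : ℤ)
  haveI := l.finite ((p : ℤ) + 1)
  haveI := l.free ((p : ℤ) + 1)
  unfold FreeBC.Split
  rw [← show PrimeSpectrum.comap (algebraMap Γ(S, V) (S.residueField y)) ⊥ = hV.primeIdealOf ⟨y, hy⟩ from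
    comap_evaluation hV hy]
  refine splitAt_of_cycles_le _ ((l.ker_le_range hy p h).trans ?_)
  let e : l.L.X ((p : ℤ) - 1) →ₗ[Γ(S, V)] LinearMap.ker (l.L.d (p : ℤ) (p + 1)).hom :=
    LinearMap.codRestrict _ (l.L.d ((p : ℤ) - 1) p).hom fun v => Transfer.dd_zero l.L _ _ _ v
  rintro _ ⟨u, rfl⟩
  exact ⟨e.baseChange _ u, by
    rw [← LinearMap.comp_apply, ← LinearMap.baseChange_comp]
    rfl⟩

variable (f F)

include hfp hfl in
theorem forall_split_of_vanishing (U : S.Opens) (p : ℕ)
    (hU : ∀ y ∈ U, Subsingleton (CohIII.fiberH f F y p)) :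
    ∀ y ∈ U, ∃ (V : S.Opens) (hV : IsAffineOpen V) (l : FreeBC f (V := V) F),
      y ∈ V ∧ ∀ y' (hy' : y' ∈ V), y' ∈ U → l.Split hV p hy' := fun y _ => by
  obtain ⟨V, hV, l, hyV⟩ := exists_freeBC f F hfp hfl y
  exact ⟨V, hV, l, hyV, fun y' hy' hyU => l.split_of_vanishing hV hy' p (hU y' hyU)⟩

include hfp hfl in
theorem forall_split_below_vanishing (U : S.Opens) (p q : ℕ) (hpq : q + 1 = p)
    (hU : ∀ y ∈ U, Subsingleton (CohIII.fiberH f F y p)) :
    ∀ y ∈ U, ∃ (V : S.Opens) (hV : IsAffineOpen V) (l : FreeBC f (V := V) F),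
      y ∈ V ∧ ∀ y' (hy' : y' ∈ V), y' ∈ U → l.Split hV q hy' := fun y _ => by
  obtain ⟨V, hV, l, hyV⟩ := exists_freeBC f F hfp hfl y
  exact ⟨V, hV, l, hyV, fun y' hy' hyU => l.split_prev hV hy' p q hpq (hU y' hyU)
    (l.split_of_vanishing hV hy' p (hU y' hyU))⟩

include hfp hfl in
/-- Vanishing of the fibre cohomology in a degree over an open set makes the higher direct image vanish there. -/
theorem isZero_restrict_of_vanishing (U : S.Opens) (p : ℕ)
    (hU : ∀ y ∈ U, Subsingleton (CohIII.fiberH f F y p)) : IsZero (((Coh.Rpush f p).obj F).restrict U.ι) :=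
  isZero_restrict_of_forall _ U fun y hy => exists_isZero_of_vanishing f F hfp hfl y p (hU y hy)

end Groth.L17.BC.Classes
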