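import Groth.Agent.L17.BC.Split
import Mathlib.RingTheory.Finiteness.Basic
import Mathlib.Algebra.Module.Projective

/-!
# Retracts of finite free modules up to a denominator
-/

set_option autoImplicit false
set_option linter.unusedSectionVars false
set_option linter.style.haveILetI false

universe u

open scoped TensorProduct

namespace Groth.L17.BC

variable {A : Type u} [CommRing A]

/-- `T` is a retract of a finite free module up to the factor `r`. -/
def Retr (A : Type u) [CommRing A] (T : Type u) [AddCommGroup T] [Module A T] (r : A) : Prop :=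
  ∃ (n : ℕ) (p : (Fin n → A) →ₗ[A] T) (s : T →ₗ[A] (Fin n → A)), ∀ t, p (s t) = r • t

theorem retr_of_retract {T P : Type u} [AddCommGroup T] [Module A T] [AddCommGroup P] [Module A P]
    [Module.Finite A P] [Module.Free A P] (r : A) (p : P →ₗ[A] T) (s : T →ₗ[A] P) (h : ∀ t, p (s t) = r • t) :
    Retr A T r := by
  rcases subsingleton_or_nontrivial A with hA | hA
  · haveI : Subsingleton T := Module.subsingleton A T
    exact ⟨0, 0, 0, fun t => Subsingleton.elim _ _⟩
  let b := Module.Free.chooseBasis A P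
  haveI : Fintype (Module.Free.ChooseBasisIndex A P) :=
    @Fintype.ofFinite _ (Module.Finite.finite_basis b)
  let e : P ≃ₗ[A] (Fin (Fintype.card (Module.Free.ChooseBasisIndex A P)) → A) :=
    (b.reindex (Fintype.equivFin _)).equivFun
  exact ⟨_, p ∘ₗ e.symm.toLinearMap, e.toLinearMap ∘ₗ s, fun t => by simp [h]⟩

theorem Retr.smul {T : Type u} [AddCommGroup T] [Module A T] {r : A} (h : Retr A T r) (c : A) :
    Retr A T (c * r) := by
  obtain ⟨n, p, s, h⟩ := h
  exact ⟨n, c • p, s, fun t => by simp [h, mul_smul]⟩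

/-- Where the denominator is a unit the module becomes finite projective. -/
theorem Retr.finite_projective {T : Type u} [AddCommGroup T] [Module A T] {r : A} (h : Retr A T r)
    (B : Type u) [CommRing B] [Algebra A B] (hr : IsUnit (algebraMap A B r)) :
    Module.Finite B (B ⊗[A] T) ∧ Module.Projective B (B ⊗[A] T) := by
  obtain ⟨n, p, s, h⟩ := h
  obtain ⟨c, hc⟩ := hr.exists_left_inv
  let p' : B ⊗[A] (Fin n → A) →ₗ[B] B ⊗[A] T := c • p.baseChange B
  have h' : ∀ t, p' (s.baseChange B t) = t := fun t => by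
    show c • p.baseChange B (s.baseChange B t) = t
    rw [← LinearMap.comp_apply (p.baseChange B), ← LinearMap.baseChange_comp,
      show p ∘ₗ s = r • LinearMap.id from LinearMap.ext h, LinearMap.baseChange_smul, LinearMap.baseChange_id,
      LinearMap.smul_apply, LinearMap.id_apply, ← algebraMap_smul B r t, smul_smul, hc, one_smul]
  exact ⟨Module.Finite.of_surjective p' fun t => ⟨_, h' t⟩,
    Module.Projective.of_split (s.baseChange B) p' (LinearMap.ext h')⟩

variable {P₀ P P₂ T : Type u} [AddCommGroup P₀] [Module A P₀] [AddCommGroup P] [Module A P]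
  [AddCommGroup P₂] [Module A P₂] [AddCommGroup T] [Module A T] {d' : P₀ →ₗ[A] P} {d : P →ₗ[A] P₂}
  {x : PrimeSpectrum A}

/-- Split neighbouring differentials make the homology a retract up to a denominator. -/
theorem retr_of_split [Module.Finite A P] [Module.Free A P] (θ : LinearMap.ker d →ₗ[A] T)
    (hs : Function.Surjective θ) (hk : ∀ z, θ z = 0 ↔ ∃ u, d' u = z.1)
    (hdd : d ∘ₗ d' = 0) (h₀ : SplitAt d' x) (h₁ : SplitAt d x) : ∃ r, r ∉ x.asIdeal ∧ Retr A T r := by
  obtain ⟨r₀, σ₀, hr₀, hσ₀⟩ := h₀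
  obtain ⟨r₁, σ₁, hr₁, hσ₁⟩ := h₁
  let π : P →ₗ[A] LinearMap.ker d := LinearMap.codRestrict _ (r₁ • LinearMap.id - σ₁ ∘ₗ d) fun v => by
    simp [hσ₁ v]
  have hπ : ∀ v : LinearMap.ker d, π v.1 = r₁ • v := fun v => Subtype.ext (by simp [π])
  let e : LinearMap.ker d →ₗ[A] P := (r₀ • LinearMap.id - d' ∘ₗ σ₀) ∘ₗ (LinearMap.ker d).subtype
  have he : ∀ z, θ z = 0 → e z = 0 := fun z hz => by
    obtain ⟨u, hu⟩ := (hk z).1 hz
    simp [e, ← hu, hσ₀]
  obtain ⟨s, hse⟩ : ∃ s : T →ₗ[A] P, ∀ z, s (θ z) = e z := by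
    refine ⟨(LinearMap.ker θ).liftQ e (fun z hz => he z hz) ∘ₗ
      (θ.quotKerEquivOfSurjective hs).symm.toLinearMap, fun z => ?_⟩
    rw [LinearMap.comp_apply, LinearEquiv.coe_coe,
      show θ z = θ.quotKerEquivOfSurjective hs (Submodule.Quotient.mk z) from rfl,
      LinearEquiv.symm_apply_apply, Submodule.liftQ_apply]
  refine ⟨r₁ * r₀, fun h => (x.2.mem_or_mem h).elim hr₁ hr₀,
    retr_of_retract _ (θ ∘ₗ π) s fun t => ?_⟩
  obtain ⟨z, rfl⟩ := hs t
  rw [hse, LinearMap.comp_apply]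
  have hd' : θ (π (d' (σ₀ z.1))) = 0 := (hk _).2 ⟨r₁ • σ₀ z.1, by
    simp [π, show d (d' (σ₀ z.1)) = 0 from LinearMap.congr_fun hdd _]⟩
  simp [e, map_sub, hd', hπ z, mul_smul, smul_comm r₁ r₀]

/-- A homology which is a retract up to a denominator moves a splitting one step down. -/
theorem split_of_retr [Module.Free A P] (θ : LinearMap.ker d →ₗ[A] T) (hs : Function.Surjective θ)
    (hk : ∀ z, θ z = 0 ↔ ∃ u, d' u = z.1) (hdd : d ∘ₗ d' = 0) (h₁ : SplitAt d x) {r : A} (hr : r ∉ x.asIdeal)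
    (hT : Retr A T r) : SplitAt d' x := by
  obtain ⟨r₁, σ₁, hr₁, hσ₁⟩ := h₁
  obtain ⟨n, p, s, hps⟩ := hT
  obtain ⟨q, hq⟩ := Module.projective_lifting_property θ p hs
  let π : P →ₗ[A] LinearMap.ker d := LinearMap.codRestrict _ (r₁ • LinearMap.id - σ₁ ∘ₗ d) fun v => by
    simp [hσ₁ v]
  let e : P →ₗ[A] P := (LinearMap.ker d).subtype ∘ₗ (r • π - (q ∘ₗ s) ∘ₗ (θ ∘ₗ π))
  have he : ∀ v, e v ∈ LinearMap.range d' := fun v => by
    refine (hk (r • π v - q (s (θ (π v))))).1 ?_
    rw [map_sub, map_smul, show θ (q (s (θ (π v)))) = p (s (θ (π v))) from LinearMap.congr_fun hq _, hps, sub_self]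
  obtain ⟨σ, hσ⟩ := Module.projective_lifting_property (d'.rangeRestrict) (LinearMap.codRestrict _ e he)
    d'.surjective_rangeRestrict
  refine ⟨r * r₁, σ, fun h => (x.2.mem_or_mem h).elim hr hr₁, fun v => ?_⟩
  have h1 : d' (σ (d' v)) = e (d' v) := congrArg Subtype.val (LinearMap.congr_fun hσ (d' v))
  have h0 : d (d' v) = 0 := LinearMap.congr_fun hdd v
  have h2 : θ (π (d' v)) = 0 := (hk _).2 ⟨r₁ • v, by simp [π, h0]⟩
  rw [h1]
  simp [e, h2, π, h0, mul_smul]

end Groth.L17.BC
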