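import Groth.Agent.L17.BC.BCStatements
import Groth.Agent.L17.BC.Retract
import Groth.Agent.L19.LocFreeDescent

/-!
# Local freeness of higher direct images and split differentials
-/

set_option autoImplicit false
set_option linter.style.haveILetI false
set_option linter.unusedSectionVars false
set_option backward.isDefEq.respectTransparency false

universe u

open CategoryTheory CategoryTheory.Limits AlgebraicGeometry TopologicalSpace Opposite
open scoped TensorProduct

noncomputable section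

namespace Groth.L17.BC.Classes

open Groth.L01.FlatCx (mu)
open Groth.L18.Frame (rs rs_rs rs_self)

theorem exists_chart {Y : Scheme.{u}} (M : Y.Modules) {V : Y.Opens} [Coh.IsQCoh M] (hV : IsAffineOpen V) :
    ∃ (N : ModuleCat.{u} Γ(Y, V)) (_ : M.restrict hV.fromSpec ≅ tilde N),
      Nonempty ((N : Type u) ≃ₗ[Γ(Y, V)] Γ(M, V)) := by
  let j := hV.fromSpec
  have h1 : j ''ᵁ ⊤ ≤ V := by rw [Scheme.Hom.image_top_eq_opensRange, hV.opensRange_fromSpec]
  have h2 : V ≤ j ''ᵁ ⊤ := by rw [Scheme.Hom.image_top_eq_opensRange, hV.opensRange_fromSpec]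
  haveI hq : (M.restrict j).IsQuasicoherent := Scheme.Modules.isQuasicoherent_restrictFunctor j M
  let N := (moduleSpecΓFunctor (R := Γ(Y, V))).obj (M.restrict j)
  have key : ∀ a : Γ(Y, V), (j.appIso ⊤).inv ((Scheme.ΓSpecIso Γ(Y, V)).inv a) = Groth.L18.Frame.ro h1 a := by
    intro a
    have h : (Scheme.ΓSpecIso Γ(Y, V)).inv ≫ (j.appIso ⊤).inv = Y.presheaf.map (homOfLE h1).op := by
      rw [Iso.comp_inv_eq, Scheme.Hom.appIso_hom', Scheme.Hom.map_appLE, Scheme.Hom.appLE, hV.fromSpec_app_self,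
        Category.assoc, ← Functor.map_comp]
      exact ((congrArg ((Scheme.ΓSpecIso Γ(Y, V)).inv ≫ ·) ((Spec Γ(Y, V)).presheaf.map_id _)).trans
        (Category.comp_id _)).symm
    exact congr($h a)
  refine ⟨N, (Groth.L18.TildeF.counitIso (M.restrict j)).symm, ⟨
    { toFun := fun x => rs M h2 (show Γ(M, j ''ᵁ ⊤) from x)
      invFun := fun t => (show N from rs M h1 t)
      left_inv := fun x => ((rs_rs M h2 h1 _).trans (rs_self M _ _))
      right_inv := fun t => (rs_rs M h1 h2 t).trans (rs_self M _ t)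
      map_add' := fun a b => map_add (M.presheaf.map (homOfLE h2).op).hom _ _
      map_smul' := fun a x => ?_ }⟩⟩
  show rs M h2 ((j.appIso ⊤).inv ((Scheme.ΓSpecIso Γ(Y, V)).inv a) • (show Γ(M, j ''ᵁ ⊤) from x)) = _
  rw [key, Groth.L18.Frame.rs_smul, Groth.L18.Frame.ro_ro, Groth.L18.Frame.ro_self]
  rfl

variable {X S : Scheme.{u}} {f : X ⟶ S} [IsProper f] [LocallyOfFinitePresentation f]
  [HasInjectiveResolutions X.Modules] {F : X.Modules} [Coh.IsQCoh F]
  {V : S.Opens} (hV : IsAffineOpen V) (l : FreeBC f (V := V) F)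

/-- Split neighbouring differentials make the higher direct image a retract of a free module near the point. -/
theorem FreeBC.exists_retr (Δ : RDer.DerivedLES (Scheme.Modules.pushforward f)) {s : S} (hs : s ∈ V) (p : ℕ)
    (h₁ : l.Split hV p hs) (h₀ : SplitAt (l.L.d ((p : ℤ) - 1) p).hom (hV.primeIdealOf ⟨s, hs⟩)) :
    ∃ r, r ∉ (hV.primeIdealOf ⟨s, hs⟩).asIdeal ∧ Retr Γ(S, V) Γ((Coh.Rpush f p).obj F, V) r := by
  haveI := l.finite (p : ℤ)
  haveI := l.free (p : ℤ)
  obtain ⟨θ, hθ, hk⟩ := l.cls Δ p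
  exact retr_of_split θ hθ hk (LinearMap.ext fun x => Transfer.dd_zero l.L _ _ _ x) h₀ h₁

/-- A higher direct image free near a point moves splitting one step down. -/
theorem FreeBC.split_prev_of_retr (Δ : RDer.DerivedLES (Scheme.Modules.pushforward f)) {s : S} (hs : s ∈ V)
    (p : ℕ) (h₁ : l.Split hV p hs) {r : Γ(S, V)} (hr : r ∉ (hV.primeIdealOf ⟨s, hs⟩).asIdeal)
    (hT : Retr Γ(S, V) Γ((Coh.Rpush f p).obj F, V) r) :
    SplitAt (l.L.d ((p : ℤ) - 1) p).hom (hV.primeIdealOf ⟨s, hs⟩) := by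
  haveI := l.free (p : ℤ)
  obtain ⟨θ, hθ, hk⟩ := l.cls Δ p
  exact split_of_retr θ hθ hk (LinearMap.ext fun x => Transfer.dd_zero l.L _ _ _ x) h₁ hr hT

include hV in
/-- Sections on an affine open of a module free there are free. -/
theorem retr_one_of_free (M : S.Modules) [Coh.IsQCoh M] {U : S.Opens} (hVU : V ≤ U) {n : ℕ}
    (i : M.restrict U.ι ≅ FlatMod.freeMod (U : Scheme.{u}) n) : Retr Γ(S, V) Γ(M, V) 1 := by
  obtain ⟨N, e, ⟨ε⟩⟩ := exists_chart M hV
  obtain ⟨hfree, hfin⟩ := Groth.L19.PullChart.free_of_restrict M i hV.fromSpec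
    (by rw [hV.opensRange_fromSpec]; exact hVU) N e
  haveI : Module.Free Γ(S, V) Γ(M, V) := Module.Free.of_equiv ε
  haveI : Module.Finite Γ(S, V) Γ(M, V) := Module.Finite.equiv ε
  exact retr_of_retract (1 : Γ(S, V)) LinearMap.id LinearMap.id fun t => (one_smul _ _).symm

/-- At a point with split neighbouring differentials the fibre dimension is that of the higher direct image. -/
theorem FreeBC.fiberRank_eq (Δ : RDer.DerivedLES (Scheme.Modules.pushforward f)) {y : S} (hy : y ∈ V) (p : ℕ)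
    (h₁ : l.Split hV p hy) :
    CohIII.fiberRank f F p y = mu (A := Γ(S, V)) Γ((Coh.Rpush f p).obj F, V) (hV.primeIdealOf ⟨y, hy⟩) := by
  letI : Algebra Γ(S, V) (S.residueField y) := (S.evaluation V y hy).hom.toAlgebra
  letI : Module Γ(S, V) (CohIII.fiberH f F y p) := Module.compHom _ (algebraMap Γ(S, V) (S.residueField y))
  haveI : IsScalarTower Γ(S, V) (S.residueField y) (CohIII.fiberH f F y p) :=
    IsScalarTower.of_algebraMap_smul fun _ _ => rfl
  obtain ⟨θ, hθ, hk⟩ := l.cls Δ p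
  obtain ⟨q, hq, hq0⟩ := l.fiber_cls y hy p
  have mem : ∀ z : LinearMap.ker (l.L.d (p : ℤ) (p + 1)).hom,
      (1 : S.residueField y) ⊗ₜ[Γ(S, V)] z.1 ∈ LinearMap.ker ((l.L.d (p : ℤ) (p + 1)).hom.baseChange (S.residueField y)) := fun z => by
    rw [LinearMap.mem_ker, LinearMap.baseChange_tmul, z.2, TensorProduct.tmul_zero]
  let q₁ : LinearMap.ker (l.L.d (p : ℤ) (p + 1)).hom →ₗ[Γ(S, V)] CohIII.fiberH f F y p :=
    (q.restrictScalars Γ(S, V)).comp (LinearMap.codRestrict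
      ((LinearMap.ker ((l.L.d (p : ℤ) (p + 1)).hom.baseChange (S.residueField y))).restrictScalars Γ(S, V))
      ((TensorProduct.mk Γ(S, V) (S.residueField y) (l.L.X (p : ℤ)) 1).comp (Submodule.subtype _)) mem)
  have hker : LinearMap.ker θ ≤ LinearMap.ker q₁ := fun z hz => by
    obtain ⟨u, hu⟩ := (hk z).1 hz
    exact (hq0 ⟨_, mem z⟩).2 ⟨1 ⊗ₜ u, by rw [LinearMap.baseChange_tmul, hu]⟩
  let ψ : Γ((Coh.Rpush f p).obj F, V) →ₗ[Γ(S, V)] CohIII.fiberH f F y p :=
    (LinearMap.ker θ).liftQ q₁ hker ∘ₗ (θ.quotKerEquivOfSurjective hθ).symm.toLinearMap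
  have hψ : ∀ z, ψ (θ z) = q₁ z := fun z => by
    show (LinearMap.ker θ).liftQ q₁ hker ((θ.quotKerEquivOfSurjective hθ).symm (θ z)) = _
    rw [show θ z = θ.quotKerEquivOfSurjective hθ (Submodule.Quotient.mk z) from rfl,
      LinearEquiv.symm_apply_apply, Submodule.liftQ_apply]
  let D : BCData (l.L.d ((p : ℤ) - 1) p).hom (l.L.d (p : ℤ) (p + 1)).hom (S.residueField y) ψ :=
    { θ := θ
      θ_surj := hθ
      θ_ker := hk
      θ' := q
      θ'_surj := hq
      θ'_ker := hq0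
      compat := fun z hz _ => hψ ⟨z, hz⟩ }
  have hbc : IsBaseChange (S.residueField y) ψ :=
    D.isBaseChange (LinearMap.ext fun x => Transfer.dd_zero l.L _ _ _ x) fun P => by
      rw [Subsingleton.elim P ⊥]
      rw [show PrimeSpectrum.comap (algebraMap Γ(S, V) (S.residueField y)) ⊥ = hV.primeIdealOf ⟨y, hy⟩ from
        comap_evaluation hV hy]
      exact h₁
  show Module.finrank (S.residueField y) (CohIII.fiberH f F y p) = _
  rw [← hbc.equiv.finrank_eq, ← comap_evaluation hV hy]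
  refine Eq.trans ?_ (Groth.L01.FlatCx.mu_baseChange (A := Γ(S, V)) Γ((Coh.Rpush f p).obj F, V) (S.residueField y)
    (⊥ : PrimeSpectrum (S.residueField y)))
  exact Module.finrank_baseChange.symm

/-- Split neighbouring differentials give local freeness of the higher direct image and local constancy of its rank. -/
theorem FreeBC.exists_locFree (Δ : RDer.DerivedLES (Scheme.Modules.pushforward f)) {s : S} (hs : s ∈ V) (p : ℕ)
    (h₁ : l.Split hV p hs) (h₀ : SplitAt (l.L.d ((p : ℤ) - 1) p).hom (hV.primeIdealOf ⟨s, hs⟩)) :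
    ∃ W : S.Opens, s ∈ W ∧ (∀ y ∈ W, ∃ (U : S.Opens) (n : ℕ),
        y ∈ U ∧ Nonempty (((Coh.Rpush f p).obj F).restrict U.ι ≅ FlatMod.freeMod (↑U) n)) ∧
      ∀ᶠ y in nhds s, CohIII.fiberRank f F p y = CohIII.fiberRank f F p s := by
  obtain ⟨r₀, hr₀, hT⟩ := l.exists_retr hV Δ hs p h₁ h₀
  obtain ⟨r₁, σ, hr₁, hσ⟩ := h₁
  set x := hV.primeIdealOf ⟨s, hs⟩
  let r := r₁ * r₀
  have hr : r ∉ x.asIdeal := fun h => (x.2.mem_or_mem h).elim hr₁ hr₀
  let R : CommRingCat.{u} := Γ(S, V)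
  let B : CommRingCat.{u} := CommRingCat.of (Localization.Away (M := R) r)
  let φ : R ⟶ B := CommRingCat.ofHom (algebraMap R (Localization.Away (M := R) r))
  haveI : IsOpenImmersion (Spec.map φ) := IsOpenImmersion.of_isLocalization (R := R) r
  haveI := PushQCoh.isQCoh_Rpush f F p
  obtain ⟨N, e, ⟨ε⟩⟩ := exists_chart ((Coh.Rpush f p).obj F) hV
  obtain ⟨hfin, hproj⟩ := (hT.smul r₁).finite_projective (Localization.Away (M := R) r)
    (IsLocalization.Away.algebraMap_isUnit r)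
  let k : Spec B ⟶ S := Spec.map φ ≫ hV.fromSpec
  obtain ⟨e₁⟩ := Groth.L19.PullChart.nonempty_chart_pullback (𝟙 S) ((Coh.Rpush f p).obj F) φ hV.fromSpec k
    (Category.comp_id _) N e
  obtain ⟨e₂⟩ := Groth.L18.TildeF.extendScalars_equiv (S := Localization.Away (M := R) r) N
  let e₃ := e₂.trans (ε.baseChange R (Localization.Away (M := R) r))
  let P := (ModuleCat.extendScalars φ.hom).obj N
  haveI : Module.Finite B P := Module.Finite.equiv e₃.symm
  haveI : Module.Projective B P := Module.Projective.of_equiv e₃.symm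
  have ek : ((Coh.Rpush f p).obj F).restrict k ≅ tilde P :=
    ((Scheme.Modules.restrictFunctor _).mapIso ((Scheme.Modules.pullbackId S).app _)).symm ≪≫ e₁
  obtain ⟨q, hq⟩ : (x : PrimeSpectrum R) ∈
      Set.range (PrimeSpectrum.comap (algebraMap R (Localization.Away (M := R) r))) := by
    rw [PrimeSpectrum.localization_away_comap_range _ r]
    exact hr
  have hkq : k q = s := by
    rw [Scheme.Hom.comp_apply]
    exact (congrArg hV.fromSpec hq).trans (hV.fromSpec_primeIdealOf ⟨s, hs⟩)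
  refine ⟨k.opensRange, ⟨q, hkq⟩, fun y hy => ?_, ?_⟩
  · obtain ⟨q', rfl⟩ := hy
    obtain ⟨U, hU, hi⟩ := exists_free_of_projective_chart ((Coh.Rpush f p).obj F) k P ek q'
    exact ⟨U, _, hU, hi⟩
  · haveI : Module.Flat B P := Module.Flat.of_projective
    haveI : Module.FinitePresentation B P := Module.finitePresentation_of_projective B P
    have hrank : ∀ q' : PrimeSpectrum B, CohIII.fiberRank f F p (k q') = mu (A := B) (P : Type u) q' := by
      intro q'
      have hx' : r ∉ (PrimeSpectrum.comap φ.hom q').asIdeal := by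
        have : PrimeSpectrum.comap φ.hom q' ∈ Set.range (PrimeSpectrum.comap φ.hom) := ⟨q', rfl⟩
        rw [show φ.hom = algebraMap R (Localization.Away (M := R) r) from rfl,
          PrimeSpectrum.localization_away_comap_range _ r] at this
        exact this
      have hm : k q' ∈ V := hV.opensRange_fromSpec.le ⟨Spec.map φ q', by rw [← Scheme.Hom.comp_apply]⟩
      have hpi : hV.primeIdealOf ⟨k q', hm⟩ = PrimeSpectrum.comap φ.hom q' :=
        hV.fromSpec.isOpenEmbedding.injective ((hV.fromSpec_primeIdealOf _).trans (Scheme.Hom.comp_apply _ _ _))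
      rw [l.fiberRank_eq hV Δ hm p ⟨r₁, σ, fun h => hx' (by rw [← hpi]; exact Ideal.mul_mem_right _ _ h), hσ⟩, hpi]
      refine Eq.trans ?_ (e₃.baseChange B q'.asIdeal.ResidueField).finrank_eq.symm
      show mu (A := R) Γ((Coh.Rpush f p).obj F, V) _ = mu (A := B) (Localization.Away (M := R) r ⊗[R] _) q'
      exact (Groth.L01.FlatCx.mu_baseChange (A := R) Γ((Coh.Rpush f p).obj F, V)
        (Localization.Away (M := R) r) q').symm
    have hloc : IsLocallyConstant (mu (A := B) (P : Type u)) := Groth.L01.FlatCx.isLocallyConstant_mu _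
    have hev := (IsLocallyConstant.iff_eventually_eq _).1 hloc q
    rw [← hkq, ← k.isOpenEmbedding.map_nhds_eq]
    refine Filter.eventually_map.2 (hev.mono fun q' h => ?_)
    rw [hrank, hrank, h]

theorem exists_free_of_restrict {Y : Scheme.{u}} {M : Y.Modules} {W : Y.Opens}
    (h : FlatMod.IsFinLocFree (M.restrict W.ι)) {y : Y} (hy : y ∈ W) :
    ∃ (U : Y.Opens) (n : ℕ), y ∈ U ∧ Nonempty (M.restrict U.ι ≅ FlatMod.freeMod (↑U) n) := by
  obtain ⟨U, n, hU, ⟨i⟩⟩ := h ⟨y, hy⟩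
  let i' : M.restrict (U.ι ≫ W.ι) ≅ FlatMod.freeMod (U : Scheme.{u}) n :=
    (Scheme.Modules.restrictFunctorComp U.ι W.ι).app M ≪≫ i
  obtain ⟨i''⟩ := Groth.L19.PullChart.exists_free_of_chart M (U.ι ≫ W.ι) i'
  exact ⟨(U.ι ≫ W.ι).opensRange, n, ⟨⟨⟨y, hy⟩, hU⟩, rfl⟩, ⟨i''⟩⟩

section Epi

variable (f F) (hfp : CohB1.IsFP F) (hfl : FlatMod.IsFlatOver f F) {s : S}
  [HasInjectiveResolutions (f.fiber s).Modules]
  {Δ : RDer.DerivedLES (Scheme.Modules.pushforward f)}
  {Δs : RDer.DerivedLES (Scheme.Modules.pushforward (f.fiberToSpecResidueField s))}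
  {E : CohCmp.SectCmp f Δ} {Es : CohCmp.SectCmp (f.fiberToSpecResidueField s) Δs}
  (Bs : CohCmp.GenBC f (S.fromSpecResidueField s) (f.fiberToSpecResidueField s) (f.fiberι s) (f.fiber_fac s) E Es)

include hfp hfl in
/-- Surjectivity in two neighbouring degrees gives local freeness near the point. -/
theorem exists_locFree_of_epi (p : ℕ) (h₀ : Epi (Bs.bc p F)) (h₁ : Epi (Bs.bc (p + 1) F)) :
    ∃ W : S.Opens, s ∈ W ∧ (∀ y ∈ W, ∃ (U : S.Opens) (n : ℕ),
        y ∈ U ∧ Nonempty (((Coh.Rpush f (p + 1)).obj F).restrict U.ι ≅ FlatMod.freeMod (↑U) n)) ∧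
      ∀ y ∈ W, ∀ᶠ z in nhds y, CohIII.fiberRank f F (p + 1) z = CohIII.fiberRank f F (p + 1) y := by
  obtain ⟨V, hV, l, hsV⟩ := exists_freeBC f F hfp hfl s
  obtain ⟨W₀, hs₀, hW₀V, hl₀⟩ := l.split_nhd hV hsV p ((epi_bc_iff_split hV l Bs hsV p).1 h₀)
  obtain ⟨W₁, hs₁, hW₁V, hl₁⟩ := l.split_nhd hV hsV (p + 1) ((epi_bc_iff_split hV l Bs hsV (p + 1)).1 h₁)
  have key : ∀ y (hy : y ∈ W₀ ⊓ W₁), ∃ W : S.Opens, y ∈ W ∧ (∀ y' ∈ W, ∃ (U : S.Opens) (n : ℕ),
        y' ∈ U ∧ Nonempty (((Coh.Rpush f (p + 1)).obj F).restrict U.ι ≅ FlatMod.freeMod (↑U) n)) ∧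
      ∀ᶠ z in nhds y, CohIII.fiberRank f F (p + 1) z = CohIII.fiberRank f F (p + 1) y := fun y hy => by
    have hyV := hW₀V hy.1
    have tr : ∀ (i j : ℤ), i = (p : ℤ) → j = (p : ℤ) + 1 → SplitAt (l.L.d i j).hom (hV.primeIdealOf ⟨y, hyV⟩) := by
      rintro _ _ rfl rfl
      exact hl₀ y hyV hy.1
    exact l.exists_locFree hV Δ hyV (p + 1) (hl₁ y hyV hy.2) (tr _ _ (by push_cast; ring) (by push_cast; ring))
  refine ⟨W₀ ⊓ W₁, ⟨hs₀, hs₁⟩, fun y hy => ?_, fun y hy => ?_⟩
  · obtain ⟨W, hyW, hW, -⟩ := key y hy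
    exact hW y hyW
  · obtain ⟨W, -, -, hc⟩ := key y hy
    exact hc

include hfp hfl in
/-- A higher direct image free near the point moves surjectivity one degree down. -/
theorem epi_of_free (p : ℕ) (h₁ : Epi (Bs.bc (p + 1) F)) {U : S.Opens} (hs : s ∈ U) {n : ℕ}
    (i : ((Coh.Rpush f (p + 1)).obj F).restrict U.ι ≅ FlatMod.freeMod (U : Scheme.{u}) n) :
    Epi (Bs.bc p F) := by
  obtain ⟨_, ⟨V, hV, rfl⟩, hsV, hVU⟩ := S.isBasis_affineOpens.exists_subset_of_mem_open (a := s) hs U.2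
  obtain ⟨l⟩ := nonempty_freeBC f F hV hfp hfl
  haveI := PushQCoh.isQCoh_Rpush f F (p + 1)
  have h := l.split_prev_of_retr hV Δ hsV (p + 1) ((epi_bc_iff_split hV l Bs hsV (p + 1)).1 h₁)
    (r := 1) (fun h => (hV.primeIdealOf ⟨s, hsV⟩).2.ne_top ((Ideal.eq_top_iff_one _).2 h))
    (retr_one_of_free hV _ hVU i)
  refine (epi_bc_iff_split hV l Bs hsV p).2 ?_
  have tr : ∀ (i j : ℤ), i = ((p + 1 : ℕ) : ℤ) - 1 → j = ((p + 1 : ℕ) : ℤ) →
      SplitAt (l.L.d i j).hom (hV.primeIdealOf ⟨s, hsV⟩) := by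
    rintro _ _ rfl rfl
    exact h
  exact tr _ _ (by push_cast; ring) (by push_cast; ring)

include hfp hfl in
/-- In high degrees the fibre base change maps are surjective. -/
theorem exists_forall_epi : ∃ N : ℕ, ∀ i, N ≤ i → Epi (Bs.bc i F) := by
  obtain ⟨V, hV, l, hsV⟩ := exists_freeBC f F hfp hfl s
  exact ⟨l.top.toNat, fun i hi => (epi_bc_iff_split hV l Bs hsV i).2 (l.split_of_top hV hsV i (by omega))⟩

end Epi

end Groth.L17.BC.Classes
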