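import Groth.Agent.L17.BC.Sheaf
import Groth.Agent.L17.BC.BCStatements
import Groth.Agent.L17.BC.LocFree

/-!
# The degree zero base change map of direct images through Čech cycles
-/

set_option autoImplicit false
set_option linter.style.haveILetI false
set_option linter.unusedSectionVars false
set_option backward.isDefEq.respectTransparency false

universe u

open CategoryTheory CategoryTheory.Limits AlgebraicGeometry TopologicalSpace Opposite
open scoped TensorProduct

noncomputable section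

namespace Groth.L17.BC.Classes

open Effaced (Cov)
open Groth.L18.Frame (rs pull rs_rs rs_smul)

section Zero

variable {X Y : Scheme.{u}} (f : X ⟶ Y) [HasInjectiveResolutions X.Modules]

/-- Sections of the direct image and of the zeroth higher direct image. -/
def toZero (F : X.Modules) (V : Y.Opens) :
    Γ((Scheme.Modules.pushforward f).obj F, V) ≃ₗ[Γ(Y, V)] Γ((Coh.Rpush f 0).obj F, V) :=
  LinearEquiv.ofBijective
    { toFun := ((Scheme.Modules.pushforward f).toRightDerivedZero.app F).app V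
      map_add' := fun a b => map_add (((Scheme.Modules.pushforward f).toRightDerivedZero.app F).app V).hom a b
      map_smul' := fun r a => ((Scheme.Modules.pushforward f).toRightDerivedZero.app F).app_smul r a }
    ⟨Delta.injective_toRightDerivedZero f F V,
      fun t => Delta.exists_toRightDerivedZero f F V t⟩

theorem toZero_apply (F : X.Modules) (V : Y.Opens) (s : Γ((Scheme.Modules.pushforward f).obj F, V)) :
    toZero f F V s = ((Scheme.Modules.pushforward f).toRightDerivedZero.app F).app V s := rfl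

/-- The direct image is the zeroth higher direct image. -/
theorem nonempty_Rpush_zero_iso (F : X.Modules) :
    Nonempty ((Coh.Rpush f 0).obj F ≅ (Scheme.Modules.pushforward f).obj F) := by
  haveI := Delta.isIso_toRightDerivedZero f F
  exact ⟨(asIso ((Scheme.Modules.pushforward f).toRightDerivedZero.app F)).symm⟩

end Zero

variable {X S X' S' : Scheme.{u}} {f : X ⟶ S} {g : S' ⟶ S} {f' : X' ⟶ S'} {g' : X' ⟶ X} {V : S.Opens}
  {V' : S'.Opens}

theorem bc0Adj_app (w : g' ≫ f = f' ≫ g) (F : X.Modules) (W : S.Opens)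
    (h : f' ⁻¹ᵁ (g ⁻¹ᵁ W) ≤ g' ⁻¹ᵁ (f ⁻¹ᵁ W)) (s : Γ(F, f ⁻¹ᵁ W)) :
    (CohBC.bc0Adj f g f' g' w F).app W s =
      rs ((Scheme.Modules.pullback g').obj F) h (pull g' F (f ⁻¹ᵁ W) s) := by
  simp only [CohBC.bc0Adj, Scheme.Modules.Hom.comp_app]
  rfl

theorem bc0_app_pull (w : g' ≫ f = f' ≫ g) (F : X.Modules) (U : S.Opens)
    (t : Γ((Scheme.Modules.pushforward f).obj F, U)) :
    (CohBC.bc0 f g f' g' w F).app (g ⁻¹ᵁ U) (pull g ((Scheme.Modules.pushforward f).obj F) U t) =
      (CohBC.bc0Adj f g f' g' w F).app U t :=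
  congr($(congrArg (fun k => Scheme.Modules.Hom.app k U)
    (((Scheme.Modules.pullbackPushforwardAdjunction g).homEquiv_unit _ _ (CohBC.bc0 f g f' g' w F)).symm.trans
      (((Scheme.Modules.pullbackPushforwardAdjunction g).homEquiv _ _).apply_symm_apply _))) t)

variable (q : Sq f g f' g' V V')

/-- The degree zero base change map on sections. -/
def Sq.ψ0 (q : Sq f g f' g' V V') (F : X.Modules) (s : Γ((Scheme.Modules.pushforward f).obj F, V)) :
    Γ((Scheme.Modules.pushforward f').obj ((Scheme.Modules.pullback g').obj F), V') :=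
  rs ((Scheme.Modules.pushforward f').obj ((Scheme.Modules.pullback g').obj F)) q.le
    ((CohBC.bc0Adj f g f' g' q.pb.w F).app V s)

theorem Sq.ψ0_eq (F : X.Modules) (s : Γ(F, f ⁻¹ᵁ V)) :
    q.ψ0 F s = rs ((Scheme.Modules.pullback g').obj F) q.preimage_le (pull g' F (f ⁻¹ᵁ V) s) := by
  unfold Sq.ψ0
  rw [bc0Adj_app q.pb.w F V (CohCmp.sqLE f g f' g' q.pb.w V) s]
  exact rs_rs ((Scheme.Modules.pullback g').obj F) (CohCmp.sqLE f g f' g' q.pb.w V) (f'.preimage_mono q.le) _

theorem bc0_app_pullRes (F : X.Modules) [Coh.IsQCoh ((Scheme.Modules.pushforward f).obj F)]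
    (t : Γ((Scheme.Modules.pushforward f).obj F, V)) :
    (CohBC.bc0 f g f' g' q.pb.w F).app V'
        (Groth.L16.AffineBC.pullRes g ((Scheme.Modules.pushforward f).obj F) q.le t) = q.ψ0 F t := by
  show (CohBC.bc0 f g f' g' q.pb.w F).app V' (rs _ q.le (pull g ((Scheme.Modules.pushforward f).obj F) V t)) = _
  rw [Cochains.app_rs, bc0_app_pull]
  rfl

variable [HasInjectiveResolutions X.Modules] [HasInjectiveResolutions X'.Modules]
  [alg : Algebra Γ(S, V) Γ(S', V')] (halg : algebraMap Γ(S, V) Γ(S', V') = q.φ.hom)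

include halg in
theorem Sq.ψ0_smul (F : X.Modules) (r : Γ(S, V)) (t : Γ((Scheme.Modules.pushforward f).obj F, V)) :
    q.ψ0 F (r • t) = algebraMap Γ(S, V) Γ(S', V') r • q.ψ0 F t := by
  rw [halg]
  unfold Sq.ψ0
  rw [(CohBC.bc0Adj f g f' g' q.pb.w F).app_smul r t]
  exact rs_smul ((Scheme.Modules.pushforward f').obj ((Scheme.Modules.pullback g').obj F)) q.le (g.app V r) _

variable [IsSeparated f] [QuasiCompact f] (c : Cov f (V := V)) (G : X.Modules)

include halg in
/-- Degree zero base change of cycles. -/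
theorem Sq.exists_bcData0 [Coh.IsQCoh (G.restrict (f ⁻¹ᵁ V).ι)] :
    letI : Module Γ(S, V) Γ((Scheme.Modules.pushforward f').obj ((Scheme.Modules.pullback g').obj G), V') :=
      Module.compHom _ (algebraMap Γ(S, V) Γ(S', V'))
    ∃ ψl : Γ((Scheme.Modules.pushforward f).obj G, V) →ₗ[Γ(S, V)]
        Γ((Scheme.Modules.pushforward f').obj ((Scheme.Modules.pullback g').obj G), V'),
      (∀ t, ψl t = q.ψ0 G t) ∧
        Nonempty (BCData (dF f q.hV c G (((0 : ℕ) : ℤ) - 1) ((0 : ℕ) : ℤ))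
          (dF f q.hV c G ((0 : ℕ) : ℤ) (((0 : ℕ) : ℤ) + 1)) Γ(S', V') ψl) := by
  letI : Module Γ(S, V) Γ((Scheme.Modules.pushforward f').obj ((Scheme.Modules.pullback g').obj G), V') :=
    Module.compHom _ (algebraMap Γ(S, V) Γ(S', V'))
  haveI : IsSeparated f' := MorphismProperty.of_isPullback q.pb inferInstance
  haveI : QuasiCompact f' := MorphismProperty.of_isPullback q.pb inferInstance
  let G' := (Scheme.Modules.pullback g').obj G
  let ψl : Γ((Scheme.Modules.pushforward f).obj G, V) →ₗ[Γ(S, V)] Γ((Scheme.Modules.pushforward f').obj G', V') :=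
    { toFun := q.ψ0 G
      map_add' := fun a b => (congrArg (rs ((Scheme.Modules.pushforward f').obj G') q.le)
        (map_add ((CohBC.bc0Adj f g f' g' q.pb.w G).app V).hom a b)).trans
        (map_add (((Scheme.Modules.pushforward f').obj G').presheaf.map (homOfLE q.le).op).hom _ _)
      map_smul' := fun r t => q.ψ0_smul halg G r t }
  obtain ⟨θ₀, h1, h1e⟩ := isCls_θ0 f q.hV c G
  obtain ⟨θ₀', h2, h2e⟩ := isCls_θ0 f' q.hV' (q.cov c) G'
  let θ := (toZero f G V).symm.toLinearMap.comp θ₀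
  let θ' := (toZero f' G' V').symm.toLinearMap.comp θ₀'
  obtain ⟨e0, he0⟩ := q.exists_ΦE halg c G (((0 : ℕ) : ℤ) - 1)
  obtain ⟨e1, he1⟩ := q.exists_ΦE halg c G ((0 : ℕ) : ℤ)
  obtain ⟨e2, he2⟩ := q.exists_ΦE halg c G (((0 : ℕ) : ℤ) + 1)
  have hcomm : ∀ (i j : ℤ) (ei : (Γ(S', V') ⊗[Γ(S, V)] CF f q.hV c G i) ≃ₗ[Γ(S', V')] CF f' q.hV' (q.cov c) G' i)
      (ej : (Γ(S', V') ⊗[Γ(S, V)] CF f q.hV c G j) ≃ₗ[Γ(S', V')] CF f' q.hV' (q.cov c) G' j),
      (∀ b x, ei (b ⊗ₜ x) = b • q.Φ₀ halg c G i x) → (∀ b x, ej (b ⊗ₜ x) = b • q.Φ₀ halg c G j x) →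
      ∀ t, ej ((dF f q.hV c G i j).baseChange Γ(S', V') t) = dF f' q.hV' (q.cov c) G' i j (ei t) := by
    intro i j ei ej hi hj t
    induction t using TensorProduct.induction_on with
    | zero => simp only [map_zero]
    | add a b ha hb => simp only [map_add, ha, hb]
    | tmul b x => rw [LinearMap.baseChange_tmul, hj, hi, map_smul, ← q.Φ₀_dF halg]
  have mem : ∀ t : LinearMap.ker ((dF f q.hV c G ((0 : ℕ) : ℤ) (((0 : ℕ) : ℤ) + 1)).baseChange Γ(S', V')),
      e1 t.1 ∈ ZF f' q.hV' (q.cov c) G' ((0 : ℕ) : ℤ) := fun t => by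
    rw [LinearMap.mem_ker, ← hcomm _ _ e1 e2 he1 he2, t.2, map_zero]
  let e1' : LinearMap.ker ((dF f q.hV c G ((0 : ℕ) : ℤ) (((0 : ℕ) : ℤ) + 1)).baseChange Γ(S', V')) →ₗ[Γ(S', V')]
      ZF f' q.hV' (q.cov c) G' ((0 : ℕ) : ℤ) := LinearMap.codRestrict _ (e1.toLinearMap.comp (Submodule.subtype _)) mem
  refine ⟨ψl, fun t => rfl, ⟨
    { θ := θ
      θ_surj := (toZero f G V).symm.surjective.comp h1.surj
      θ_ker := fun z => (map_eq_zero_iff _ (toZero f G V).symm.injective).trans (h1.ker z)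
      θ' := θ'.comp e1'
      θ'_surj := fun y => ?_
      θ'_ker := fun t => ?_
      compat := fun z hz hw => ?_ }⟩⟩
  · obtain ⟨z, hz0⟩ := h2.surj (toZero f' G' V' y)
    have hz : e1.symm z.1 ∈ LinearMap.ker ((dF f q.hV c G ((0 : ℕ) : ℤ) (((0 : ℕ) : ℤ) + 1)).baseChange Γ(S', V')) := by
      rw [LinearMap.mem_ker]
      refine e2.injective ?_
      rw [hcomm _ _ e1 e2 he1 he2, e1.apply_symm_apply, map_zero]
      exact z.2
    refine ⟨⟨_, hz⟩, ?_⟩
    show (toZero f' G' V').symm (θ₀' (e1' ⟨_, hz⟩)) = y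
    rw [show e1' ⟨_, hz⟩ = z from Subtype.ext (e1.apply_symm_apply z.1), hz0, LinearEquiv.symm_apply_apply]
  · rw [LinearMap.comp_apply]
    refine (map_eq_zero_iff _ (toZero f' G' V').symm.injective).trans ((h2.ker _).trans ?_)
    constructor
    · rintro ⟨v, hv⟩
      refine ⟨e0.symm v, e1.injective ?_⟩
      rw [hcomm _ _ e0 e1 he0 he1, e0.apply_symm_apply]
      exact hv
    · rintro ⟨v, hv⟩
      refine ⟨e0 v, ?_⟩
      exact (hcomm _ _ e0 e1 he0 he1 v).symm.trans (congrArg e1 hv)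
  · have hz0 : z ∈ LinearMap.ker (dL (ρV f q.hV) (FV f (V := V) G) c.U 0) := (K_d _ _ c.U 0 z).symm.trans hz
    obtain ⟨s, hs⟩ := exists_glues f q.hV c G hz0
    have hθ : θ₀ ⟨z, hz⟩ = toZero f G V (show Γ((Scheme.Modules.pushforward f).obj G, V) from s) :=
      (h1e ⟨z, hz⟩ hz0).trans (θ0_eq f q.hV c G ⟨z, hz0⟩ s hs)
    show q.ψ0 G ((toZero f G V).symm (θ₀ ⟨z, hz⟩)) = (toZero f' G' V').symm (θ₀' (e1' ⟨1 ⊗ₜ z, hw⟩))
    rw [hθ, LinearEquiv.symm_apply_apply, q.ψ0_eq G s]
    apply (toZero f' G' V').injective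
    rw [LinearEquiv.apply_symm_apply]
    have hz' : (q.Φ₀ halg c G 0 z) ∈
        LinearMap.ker (dL (ρV f' q.hV') (FV f' (V := V') G') (q.cov c).U 0) :=
      (K_d _ _ (q.cov c).U 0 _).symm.trans (q.mem_ZF_Φ₀ halg c G 0 ⟨z, hz⟩)
    rw [show e1' ⟨1 ⊗ₜ z, hw⟩ = ⟨q.Φ₀ halg c G 0 z, q.mem_ZF_Φ₀ halg c G 0 ⟨z, hz⟩⟩ from
      Subtype.ext ((he1 1 z).trans (one_smul _ _))]
    exact ((h2e _ hz').trans (θ0_eq f' q.hV' (q.cov c) G' ⟨_, hz'⟩ _ (q.glues_pull halg c hs))).symm

end Groth.L17.BC.Classes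

namespace Groth.L17.BC.Classes

open Effaced (Cov)
open Groth.L18.Frame (rs pull rs_rs)

variable {X S : Scheme.{u}} (f : X ⟶ S) [IsProper f] [LocallyOfFinitePresentation f]
  [HasInjectiveResolutions X.Modules] (F : X.Modules)

/-- A complex over an affine open that also computes the degree zero base change maps. -/
structure FreeBC0 (V : S.Opens) where
  /-- the complex -/
  free : FreeBC f (V := V) F
  neg : ∀ (hV : IsAffineOpen V) (y : S) (hy : y ∈ V),
    SplitAt (free.L.d (-1) 0).hom (hV.primeIdealOf ⟨y, hy⟩)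
  data : ∀ {X' S' : Scheme.{u}} {g : S' ⟶ S} {f' : X' ⟶ S'} {g' : X' ⟶ X} {V' : S'.Opens}
    (q : Sq f g f' g' V V') [Algebra Γ(S, V) Γ(S', V')], algebraMap Γ(S, V) Γ(S', V') = q.φ.hom →
      letI : Module Γ(S, V) Γ((Scheme.Modules.pushforward f').obj ((Scheme.Modules.pullback g').obj F), V') :=
        Module.compHom _ (algebraMap Γ(S, V) Γ(S', V'))
      ∃ ψl : Γ((Scheme.Modules.pushforward f).obj F, V) →ₗ[Γ(S, V)]
          Γ((Scheme.Modules.pushforward f').obj ((Scheme.Modules.pullback g').obj F), V'),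
        (∀ t, ψl t = q.ψ0 F t) ∧
          Nonempty (BCData (free.L.d (((0 : ℕ) : ℤ) - 1) ((0 : ℕ) : ℤ)).hom
            (free.L.d ((0 : ℕ) : ℤ) (((0 : ℕ) : ℤ) + 1)).hom Γ(S', V') ψl)

theorem exists_freeBC0_of_glocal [Coh.IsQCoh F] {V : S.Opens} (hV : IsAffineOpen V)
    (hfl : FlatMod.IsFlatOver f F) (l : GLocal f hV F) :
    ∃ l' : FreeBC0 f F V, l'.free.L = CohIII.bcCx l.φ l.m.L := by
  obtain ⟨c, N, χ, hfin, hfree, hz, hχ, hB⟩ := exists_quasiIso f hV F hfl l
  let fr : FreeBC f (V := V) F :=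
    { L := CohIII.bcCx l.φ l.m.L
      finite := hfin
      free := hfree
      top := N
      zero_above := hz
      fiber_cls := fun y hy p => by
        letI : Algebra Γ(S, V) (S.residueField y) := (S.evaluation V y hy).hom.toAlgebra
        obtain ⟨e⟩ := l.exists_fibre_equiv hy p
        obtain ⟨q, hq, hq0⟩ := exists_homology_cls (K := S.residueField y) l.φ l.m.L (p : ℤ)
        exact ⟨e.toLinearMap.comp q, e.surjective.comp hq,
          fun z => (map_eq_zero_iff e e.injective).trans (hq0 z)⟩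
      rank_eq := fun hV y hy p => by
        letI : Algebra l.A₀ Γ(S, V) := l.φ.toAlgebra
        rw [l.fiberRank_eq hy p]
        exact (Groth.L01.FlatCx.dRank_baseChange (A' := Γ(S, V)) l.m.L (p : ℤ) (hV.primeIdealOf ⟨y, hy⟩)).symm
      cls := fun Δ p => by
        obtain ⟨θ, hθ⟩ := exists_isCls f hV c Δ p F
        exact Transfer.exists_cls χ (p : ℤ) θ hθ.surj hθ.ker
      bcData := fun {X' S' g f' g' V'} q _ halg _ {w Δ Δ' E E'} B p => by
        haveI : IsSeparated f' := MorphismProperty.of_isPullback q.pb inferInstance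
        haveI : QuasiCompact f' := MorphismProperty.of_isPullback q.pb inferInstance
        haveI : Coh.IsQCoh (F.restrict (f ⁻¹ᵁ V).ι) := Scheme.Modules.isQuasicoherent_restrictFunctor _ F
        letI : Module Γ(S, V) Γ((Coh.Rpush f' p).obj ((Scheme.Modules.pullback g').obj F), V') :=
          Module.compHom _ (algebraMap Γ(S, V) Γ(S', V'))
        obtain ⟨ψl, hψ, ⟨D⟩⟩ := q.exists_bcData halg c B p F
        exact ⟨ψl, hψ, Transfer.nonempty_bcData χ Γ(S', V') (hB _) (p : ℤ) D⟩ }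
  refine ⟨⟨fr, fun hV y hy => ?_, fun {X' S' g f' g' V'} q _ halg => ?_⟩, rfl⟩
  · letI : Algebra Γ(S, V) (S.residueField y) := (S.evaluation V y hy).hom.toAlgebra
    haveI := hfin (-1)
    haveI := hfin 0
    haveI := hfree 0
    rw [← comap_evaluation hV hy]
    refine splitAt_of_cycles_le _ ?_
    obtain ⟨h, hs, hk⟩ := exists_homology_cls (K := S.residueField y) l.φ l.m.L (-1)
    haveI : Subsingleton ((CohIII.bcCx ((algebraMap Γ(S, V) (S.residueField y)).comp l.φ) l.m.L).homology (-1) :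
        Type u) := by
      letI : Algebra l.A₀ (S.residueField y) := ((algebraMap Γ(S, V) (S.residueField y)).comp l.φ).toAlgebra
      haveI := quasiIso_bc (S.residueField y) l.m.φ (l.m.quasiIso _)
      refine ModuleCat.subsingleton_of_isZero (IsZero.of_iso ?_ (isoOfQuasiIsoAt
        (((ModuleCat.extendScalars (algebraMap l.A₀ (S.residueField y))).mapHomologicalComplex
          (ComplexShape.up ℤ)).map l.m.φ) (-1)))
      exact (HomologicalComplex.exactAt_iff_isZero_homology _ _).1 (ShortComplex.exact_of_isZero_X₂ _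
        ((ModuleCat.extendScalars _).map_isZero (isZero_K l.m.U _ l.F₀ (by norm_num))))
    intro z hz'
    obtain ⟨v, hv⟩ := (hk ⟨z, hz'⟩).1 (Subsingleton.elim (α :=
      ((CohIII.bcCx ((algebraMap Γ(S, V) (S.residueField y)).comp l.φ) l.m.L).homology (-1) : Type u)) _ _)
    let L := CohIII.bcCx l.φ l.m.L
    let e : (L.X ((-1 : ℤ) - 1)) →ₗ[Γ(S, V)] LinearMap.ker (L.d (-1) 0).hom :=
      LinearMap.codRestrict _ (L.d ((-1 : ℤ) - 1) (-1)).hom fun v => Transfer.dd_zero L _ _ _ v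
    refine ⟨e.baseChange _ v, ?_⟩
    change (LinearMap.ker (L.d (-1) 0).hom).subtype.baseChange _ (e.baseChange _ v) = _
    rw [← LinearMap.comp_apply, ← LinearMap.baseChange_comp]
    exact hv
  · haveI : IsSeparated f' := MorphismProperty.of_isPullback q.pb inferInstance
    haveI : QuasiCompact f' := MorphismProperty.of_isPullback q.pb inferInstance
    haveI := PushQCoh.hasInjectiveResolutions X'
    haveI : Coh.IsQCoh (F.restrict (f ⁻¹ᵁ V).ι) := Scheme.Modules.isQuasicoherent_restrictFunctor _ F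
    letI : Module Γ(S, V) Γ((Scheme.Modules.pushforward f').obj ((Scheme.Modules.pullback g').obj F), V') :=
      Module.compHom _ (algebraMap Γ(S, V) Γ(S', V'))
    obtain ⟨ψl, hψ, ⟨D⟩⟩ := q.exists_bcData0 halg c F
    exact ⟨ψl, hψ, Transfer.nonempty_bcData χ Γ(S', V') (hB _) ((0 : ℕ) : ℤ) D⟩

theorem nonempty_freeBC0 [Coh.IsQCoh F] {V : S.Opens} (hV : IsAffineOpen V) (hfp : CohB1.IsFP F)
    (hfl : FlatMod.IsFlatOver f F) : Nonempty (FreeBC0 f F V) := by
  obtain ⟨l⟩ := nonempty_glocal f hV F hfp hfl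
  exact (exists_freeBC0_of_glocal f F hV hfl l).nonempty

variable {f F} [Coh.IsQCoh F] {V : S.Opens} (hV : IsAffineOpen V) (l : FreeBC0 f F V)

section Square

variable {X' S' : Scheme.{u}} {g : S' ⟶ S} {f' : X' ⟶ S'} {g' : X' ⟶ X} {V' : S'.Opens}

/-- The degree zero base change map over an affine open with split differential is bijective. -/
theorem bijective_bc0_app (q : Sq f g f' g' V V')
    (h : ∀ (z : S') (hz : z ∈ V'), l.free.Split q.hV 0 (q.le hz)) :
    Function.Bijective ((CohBC.bc0 f g f' g' q.pb.w F).app V') := by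
  letI : Algebra Γ(S, V) Γ(S', V') := q.φ.hom.toAlgebra
  letI : Module Γ(S, V) Γ((Scheme.Modules.pushforward f').obj ((Scheme.Modules.pullback g').obj F), V') :=
    Module.compHom _ (algebraMap Γ(S, V) Γ(S', V'))
  haveI : IsScalarTower Γ(S, V) Γ(S', V')
      Γ((Scheme.Modules.pushforward f').obj ((Scheme.Modules.pullback g').obj F), V') :=
    IsScalarTower.of_algebraMap_smul fun _ _ => rfl
  obtain ⟨ψl, hψ, ⟨D⟩⟩ := l.data q rfl
  have hbc : IsBaseChange Γ(S', V') ψl := by
    refine D.isBaseChange (LinearMap.ext fun x => Transfer.dd_zero l.free.L _ _ _ x) fun x => ?_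
    obtain ⟨z, hz, rfl⟩ : ∃ (z : S') (hz : z ∈ V'), q.hV'.primeIdealOf ⟨z, hz⟩ = x := by
      have hm : q.hV'.fromSpec x ∈ V' := q.hV'.opensRange_fromSpec.le ⟨x, rfl⟩
      exact ⟨_, hm, q.hV'.fromSpec.isOpenEmbedding.injective (q.hV'.fromSpec_primeIdealOf _)⟩
    rw [show PrimeSpectrum.comap (algebraMap Γ(S, V) Γ(S', V')) (q.hV'.primeIdealOf ⟨z, hz⟩) =
      q.hV.primeIdealOf ⟨g z, q.le hz⟩ from IsAffineOpen.comap_primeIdealOf_appLE V q.hV V' q.hV' q.le hz]
    exact h z hz
  obtain ⟨e₀⟩ := nonempty_Rpush_zero_iso f F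
  haveI := PushQCoh.isQCoh_Rpush f F 0
  haveI : Coh.IsQCoh ((Scheme.Modules.pushforward f).obj F) := Groth.L29.DC.isQCoh_of_iso' e₀ inferInstance
  letI : Module Γ(S, V) Γ((Scheme.Modules.pullback g).obj ((Scheme.Modules.pushforward f).obj F), V') :=
    Module.compHom _ (g.appLE V V' q.le).hom
  haveI : IsScalarTower Γ(S, V) Γ(S', V')
      Γ((Scheme.Modules.pullback g).obj ((Scheme.Modules.pushforward f).obj F), V') :=
    IsScalarTower.of_algebraMap_smul fun _ _ => rfl
  have hpr : IsBaseChange Γ(S', V') (Groth.L16.AffineBC.pullRes g ((Scheme.Modules.pushforward f).obj F) q.le) :=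
    Groth.L16.AffineBC.isBaseChange_pull g ((Scheme.Modules.pushforward f).obj F) q.hV q.hV' q.le
  have key : ∀ x, (CohBC.bc0 f g f' g' q.pb.w F).app V' (hpr.equiv x) = hbc.equiv x := by
    intro x
    induction x using TensorProduct.induction_on with
    | zero => rw [map_zero, map_zero, map_zero]
    | add a b ha hb => rw [map_add, map_add, map_add, ha, hb]
    | tmul b t =>
      rw [IsBaseChange.equiv_tmul, IsBaseChange.equiv_tmul, hψ, ← bc0_app_pullRes q F t]
      exact (CohBC.bc0 f g f' g' q.pb.w F).app_smul b _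
  have : Function.Bijective (fun x => (CohBC.bc0 f g f' g' q.pb.w F).app V' (hpr.equiv x)) := by
    rw [funext key]; exact hbc.equiv.bijective
  exact (Function.Bijective.of_comp_iff _ hpr.equiv.bijective).1 this

/-- The degree zero base change map into an open set of split points is an isomorphism. -/
theorem isIso_bc0 {U : S.Opens} (pb : IsPullback g' f' f g) (hU : ∀ z : S', g z ∈ U)
    (h : ∀ y ∈ U, ∃ (V : S.Opens) (hV : IsAffineOpen V) (l : FreeBC0 f F V),
      y ∈ V ∧ ∀ y' (hy' : y' ∈ V), y' ∈ U → l.free.Split hV 0 hy') :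
    IsIso (CohBC.bc0 f g f' g' pb.w F) := by
  refine isIso_of_affine _ fun z => ?_
  obtain ⟨V, hV, l, hzV, hl⟩ := h (g z) (hU z)
  obtain ⟨_, ⟨W, hW, rfl⟩, hzW, hWV⟩ :=
    S'.isBasis_affineOpens.exists_subset_of_mem_open (a := z) (show z ∈ g ⁻¹ᵁ V from hzV) (g ⁻¹ᵁ V).2
  exact ⟨W, hzW, fun V' hV'W hV' => bijective_bc0_app l (q := ⟨hV, hV', fun x hx => hWV (hV'W hx), pb⟩)
    fun z' hz' => hl _ _ (hU z')⟩

end Square

/-- Near a point with split differential the direct image is locally free. -/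
theorem FreeBC0.exists_locFree (Δ : RDer.DerivedLES (Scheme.Modules.pushforward f)) {s : S} (hs : s ∈ V)
    (h : l.free.Split hV 0 hs) :
    ∃ W : S.Opens, s ∈ W ∧ (∀ y ∈ W, ∃ (U : S.Opens) (n : ℕ),
        y ∈ U ∧ Nonempty (((Scheme.Modules.pushforward f).obj F).restrict U.ι ≅ FlatMod.freeMod (↑U) n)) ∧
      ∀ᶠ y in nhds s, CohIII.fiberRank f F 0 y = CohIII.fiberRank f F 0 s := by
  have tr : ∀ i j : ℤ, i = -1 → j = 0 → SplitAt (l.free.L.d i j).hom (hV.primeIdealOf ⟨s, hs⟩) := by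
    rintro _ _ rfl rfl; exact l.neg hV s hs
  obtain ⟨W, hsW, hW, hc⟩ := l.free.exists_locFree hV Δ hs 0 h (tr _ _ (by norm_num) (by norm_num))
  obtain ⟨e₀⟩ := nonempty_Rpush_zero_iso f F
  refine ⟨W, hsW, fun y hy => ?_, hc⟩
  obtain ⟨U, n, hyU, ⟨i⟩⟩ := hW y hy
  exact ⟨U, n, hyU, ⟨(Scheme.Modules.restrictFunctor U.ι).mapIso e₀.symm ≪≫ i⟩⟩

/-- Surjectivity of the fibre base change map in degree zero is splitting at the point. -/
theorem epi_bc0_iff_split {s : S} (hs : s ∈ V) :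
    Epi (CohBC.bc0 f (S.fromSpecResidueField s) (f.fiberToSpecResidueField s) (f.fiberι s) (f.fiber_fac s) F) ↔
      l.free.Split hV 0 hs := by
  let q := fibreSq (f := f) hV hs
  let g := S.fromSpecResidueField s
  let f' := f.fiberToSpecResidueField s
  haveI : IsProper f' := MorphismProperty.of_isPullback q.pb inferInstance
  haveI := PushQCoh.hasInjectiveResolutions (f.fiber s)
  letI : Algebra Γ(S, V) Γ(Spec (S.residueField s), ⊤) := q.φ.hom.toAlgebra
  letI : Field Γ(Spec (S.residueField s), ⊤) :=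
    ((Scheme.ΓSpecIso (S.residueField s)).commRingCatIsoToRingEquiv.toMulEquiv.isField
      (Field.toIsField (S.residueField s))).toField
  let R' := (Scheme.Modules.pushforward f').obj ((Scheme.Modules.pullback (f.fiberι s)).obj F)
  letI : Module Γ(S, V) Γ(R', ⊤) := Module.compHom _ (algebraMap Γ(S, V) Γ(Spec (S.residueField s), ⊤))
  haveI : IsScalarTower Γ(S, V) Γ(Spec (S.residueField s), ⊤) Γ(R', ⊤) :=
    IsScalarTower.of_algebraMap_smul fun _ _ => rfl
  obtain ⟨ψl, hψ, ⟨D⟩⟩ := l.data q rfl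
  have hdd : (l.free.L.d ((0 : ℕ) : ℤ) (((0 : ℕ) : ℤ) + 1)).hom ∘ₗ
      (l.free.L.d (((0 : ℕ) : ℤ) - 1) ((0 : ℕ) : ℤ)).hom = 0 :=
    LinearMap.ext fun x => Transfer.dd_zero l.free.L _ _ _ x
  obtain ⟨e₀⟩ := nonempty_Rpush_zero_iso f F
  haveI := PushQCoh.isQCoh_Rpush f F 0
  haveI : Coh.IsQCoh ((Scheme.Modules.pushforward f).obj F) := Groth.L29.DC.isQCoh_of_iso' e₀ inferInstance
  haveI : Coh.IsQCoh ((Scheme.Modules.pullback (f.fiberι s)).obj F) := Groth.L16.AffineBC.isQCoh_pullback _ _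
  obtain ⟨e₀'⟩ := nonempty_Rpush_zero_iso f' ((Scheme.Modules.pullback (f.fiberι s)).obj F)
  haveI := PushQCoh.isQCoh_Rpush f' ((Scheme.Modules.pullback (f.fiberι s)).obj F) 0
  haveI : Coh.IsQCoh R' := Groth.L29.DC.isQCoh_of_iso' e₀' inferInstance
  haveI : Coh.IsQCoh ((Scheme.Modules.pullback g).obj ((Scheme.Modules.pushforward f).obj F)) :=
    Groth.L16.AffineBC.isQCoh_pullback _ _
  letI : Module Γ(S, V) Γ((Scheme.Modules.pullback g).obj ((Scheme.Modules.pushforward f).obj F), ⊤) :=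
    Module.compHom _ (g.appLE V ⊤ q.le).hom
  haveI : IsScalarTower Γ(S, V) Γ(Spec (S.residueField s), ⊤)
      Γ((Scheme.Modules.pullback g).obj ((Scheme.Modules.pushforward f).obj F), ⊤) :=
    IsScalarTower.of_algebraMap_smul fun _ _ => rfl
  have hpr : IsBaseChange Γ(Spec (S.residueField s), ⊤)
      (Groth.L16.AffineBC.pullRes g ((Scheme.Modules.pushforward f).obj F) q.le) :=
    Groth.L16.AffineBC.isBaseChange_pull g ((Scheme.Modules.pushforward f).obj F) q.hV q.hV' q.le
  let bc := CohBC.bc0 f g f' (f.fiberι s) (f.fiber_fac s) F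
  have key : ∀ x, bc.app ⊤ (hpr.equiv x) = ψl.liftBaseChange Γ(Spec (S.residueField s), ⊤) x := by
    intro x
    induction x using TensorProduct.induction_on with
    | zero => rw [map_zero, map_zero, map_zero]
    | add a b ha hb => rw [map_add, map_add, map_add, ha, hb]
    | tmul b t =>
      rw [IsBaseChange.equiv_tmul, LinearMap.liftBaseChange_tmul, hψ, ← bc0_app_pullRes q F t]
      exact bc.app_smul b _
  have e : PrimeSpectrum.comap (algebraMap Γ(S, V) Γ(Spec (S.residueField s), ⊤)) ⊥ =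
      hV.primeIdealOf ⟨s, hs⟩ := by
    let z : Spec (S.residueField s) := (⊥ : PrimeSpectrum (S.residueField s))
    rw [Subsingleton.elim (⊥ : PrimeSpectrum Γ(Spec (S.residueField s), ⊤))
      (q.hV'.primeIdealOf ⟨z, trivial⟩)]
    refine (IsAffineOpen.comap_primeIdealOf_appLE V q.hV ⊤ q.hV' q.le trivial).trans ?_
    exact congrArg hV.primeIdealOf (Subtype.ext (Scheme.fromSpecResidueField_apply _ _))
  unfold FreeBC.Split
  rw [← e]
  haveI := l.free.finite ((0 : ℕ) : ℤ)
  haveI := l.free.finite (((0 : ℕ) : ℤ) + 1)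
  haveI := l.free.free (((0 : ℕ) : ℤ) + 1)
  constructor
  · intro h
    refine splitAt_of_cycles_le _ (D.cycles_le_of_span hdd fun y => ?_)
    obtain ⟨x, hx⟩ := Groth.L16.AffineBC.surjective_app_of_epi bc (isAffineOpen_top _) y
    exact ⟨hpr.equiv.symm x, by rw [← key, LinearEquiv.apply_symm_apply, hx]⟩
  · intro h
    have hsurj : Function.Surjective (bc.app ⊤) := fun y => by
      obtain ⟨x, hx⟩ := D.span_of_cycles_le h.cycles_le y
      exact ⟨hpr.equiv x, (key x).trans hx⟩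
    refine Groth.L17.Serre.epi_of_locally_surjective _ fun W x hx t => ?_
    obtain rfl : W = ⊤ := top_unique fun y _ =>
      (Subsingleton.elim (α := PrimeSpectrum (S.residueField s)) x y) ▸ hx
    obtain ⟨a, ha⟩ := hsurj t
    exact ⟨⊤, le_rfl, trivial, a, ha.trans (Groth.L18.Frame.rs_self _ le_rfl t).symm⟩

/-- Splitting holds where the first fibre cohomology vanishes. -/
theorem FreeBC0.split_of_vanishing {y : S} (hy : y ∈ V) (h : Subsingleton (CohIII.fiberH f F y 1)) :
    l.free.Split hV 0 hy :=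
  l.free.split_prev hV hy 1 0 rfl h (l.free.split_of_vanishing hV hy 1 h)

end Groth.L17.BC.Classes
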