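import Groth.Agent.L17.BC.ClassesStep
import Groth.Agent.L17.BC.Change

/-!
# Čech cochains and affine base change
-/

set_option autoImplicit false
set_option linter.style.haveILetI false
set_option linter.unusedSectionVars false
set_option backward.isDefEq.respectTransparency false

universe u

open CategoryTheory CategoryTheory.Limits AlgebraicGeometry TopologicalSpace Opposite
open scoped TensorProduct

noncomputable section

namespace Groth.L17.BC.Classes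

open Effaced (Cov Prim)
open Groth.L18.Frame (rs pull pull_rs rs_rs)

theorem isPullback_fV {X S : Scheme.{u}} (f : X ⟶ S) {V : S.Opens} (hV : IsAffineOpen V) :
    IsPullback (f ⁻¹ᵁ V).ι (fV f hV) f hV.fromSpec := by
  have h2 : IsPullback (f ⁻¹ᵁ V).ι (f ∣_ V) f V.ι := (isPullback_morphismRestrict f V).flip
  refine h2.of_iso (Iso.refl _) (Iso.refl _) hV.isoSpec (Iso.refl _) (by simp) (by simp [fV]) (by simp) ?_
  simp [IsAffineOpen.isoSpec_hom_fromSpec]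

/-- A cartesian square with affine opens of the bases. -/
structure Sq {X S X' S' : Scheme.{u}} (f : X ⟶ S) (g : S' ⟶ S) (f' : X' ⟶ S') (g' : X' ⟶ X) (V : S.Opens)
    (V' : S'.Opens) : Prop where
  hV : IsAffineOpen V
  hV' : IsAffineOpen V'
  le : V' ≤ g ⁻¹ᵁ V
  pb : IsPullback g' f' f g

variable {X S X' S' : Scheme.{u}} {f : X ⟶ S} {g : S' ⟶ S} {f' : X' ⟶ S'} {g' : X' ⟶ X} {V : S.Opens}
  {V' : S'.Opens} (q : Sq f g f' g' V V')

/-- The map on functions. -/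
def Sq.φ (q : Sq f g f' g' V V') : Γ(S, V) ⟶ Γ(S', V') := g.appLE V V' q.le

theorem Sq.preimage_le (q : Sq f g f' g' V V') : f' ⁻¹ᵁ V' ≤ g' ⁻¹ᵁ (f ⁻¹ᵁ V) := fun x hx => by
  show f (g' x) ∈ V
  rw [← Scheme.Hom.comp_apply, q.pb.w, Scheme.Hom.comp_apply]
  exact q.le hx

/-- The map of preimages. -/
def Sq.r (q : Sq f g f' g' V V') : (↑(f' ⁻¹ᵁ V') : Scheme.{u}) ⟶ (↑(f ⁻¹ᵁ V) : Scheme.{u}) :=
  g'.resLE (f ⁻¹ᵁ V) (f' ⁻¹ᵁ V') q.preimage_le

variable [alg : Algebra Γ(S, V) Γ(S', V')] (halg : algebraMap Γ(S, V) Γ(S', V') = q.φ.hom)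

include halg in
theorem Sq.isPullback :
    IsPullback q.r (fV f' q.hV') (fV f q.hV) (Spec.map (CommRingCat.ofHom (algebraMap Γ(S, V) Γ(S', V')))) := by
  rw [show CommRingCat.ofHom (algebraMap Γ(S, V) Γ(S', V')) = q.φ from CommRingCat.hom_ext halg]
  have hb : Spec.map q.φ ≫ q.hV.fromSpec = q.hV'.fromSpec ≫ g := q.hV.SpecMap_appLE_fromSpec g q.hV' q.le
  have hr : q.r ≫ (f ⁻¹ᵁ V).ι = (f' ⁻¹ᵁ V').ι ≫ g' := Scheme.Hom.resLE_comp_ι g' q.preimage_le
  have big : IsPullback (q.r ≫ (f ⁻¹ᵁ V).ι) (fV f' q.hV') f (Spec.map q.φ ≫ q.hV.fromSpec) := by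
    rw [hr, hb]
    exact (isPullback_fV f' q.hV').paste_horiz q.pb
  refine IsPullback.of_right big ?_ (isPullback_fV f q.hV)
  rw [← cancel_mono q.hV.fromSpec, Category.assoc, fV_fromSpec, Category.assoc, ← big.w, Category.assoc]

variable (c : Cov f (V := V))

/-- The cover pulled back. -/
abbrev Sq.cov : Cov f' (V := V') where
  ι := c.ι
  fin := c.fin
  U := Ub q.r c.U
  cover := top_unique fun x _ => by
    obtain ⟨i, hi⟩ := Opens.mem_iSup.1 (c.cover.ge (Opens.mem_top (q.r x)))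
    exact Opens.mem_iSup.2 ⟨i, hi⟩
  affine := by
    haveI := @isAffineHom_of_isPullback _ _ _ _ q.φ.hom.toAlgebra _ _ (fV f q.hV) (fV f' q.hV') q.r
      (@Sq.isPullback _ _ _ _ _ _ _ _ _ _ q q.φ.hom.toAlgebra rfl)
    exact isAffineOpen_iInf_preimage q.r c.U c.affine

include halg in
theorem Sq.compat : Compat q.r (ρV f q.hV) (ρV f' q.hV') :=
  compat_of_isPullback (fV f q.hV) (fV f' q.hV') q.r (q.isPullback halg)

/-- The comparison of the two ways to restrict and pull back. -/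
abbrev Sq.iso (G : X.Modules) :
    Fb q.r (FV f (V := V) G) ≅ FV f' (V := V') ((Scheme.Modules.pullback g').obj G) :=
  CohPull.pullOnIso g' (f ⁻¹ᵁ V) (f' ⁻¹ᵁ V') q.preimage_le G

/-- Pullback of cochains. -/
def Sq.Φ₀ (G : X.Modules) (i : ℤ) :
    CF f q.hV c G i →+ CF f' q.hV' (q.cov c) ((Scheme.Modules.pullback g').obj G) i :=
  (Cochains.mapC (ρV f' q.hV') (Ub q.r c.U) (q.iso G).hom i).toAddMonoidHom.comp
    (Φ q.r (ρV f q.hV) (ρV f' q.hV') (FV f (V := V) G) (q.compat halg) c.U i).toAddMonoidHom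

theorem Sq.Φ₀_apply (G : X.Modules) (i : ℤ) (x : CF f q.hV c G i) (a : Idx c.ι i)
    (e : (f' ⁻¹ᵁ V').ι ''ᵁ opn (Ub q.r c.U) a.1 ≤ g' ⁻¹ᵁ ((f ⁻¹ᵁ V).ι ''ᵁ opn c.U a.1)) :
    (show Γ((Scheme.Modules.pullback g').obj G, (f' ⁻¹ᵁ V').ι ''ᵁ opn (Ub q.r c.U) a.1) from
        q.Φ₀ halg c G i x a) =
      rs ((Scheme.Modules.pullback g').obj G) e
        (pull g' G ((f ⁻¹ᵁ V).ι ''ᵁ opn c.U a.1)
          (show Γ(G, (f ⁻¹ᵁ V).ι ''ᵁ opn c.U a.1) from x a)) :=
  PullSec.pullOnIso_app g' (f ⁻¹ᵁ V) (f' ⁻¹ᵁ V') q.preimage_le G (opn c.U a.1) (opn (Ub q.r c.U) a.1)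
    (preimage_opn q.r c.U a.1).ge e (show Γ(G, (f ⁻¹ᵁ V).ι ''ᵁ opn c.U a.1) from x a)

theorem Sq.image_opn_le (a : List c.ι) :
    (f' ⁻¹ᵁ V').ι ''ᵁ opn (Ub q.r c.U) a ≤ g' ⁻¹ᵁ ((f ⁻¹ᵁ V).ι ''ᵁ opn c.U a) := by
  rintro _ ⟨x, hx, rfl⟩
  have hx' : q.r x ∈ opn c.U a := (preimage_opn q.r c.U a).ge hx
  refine ⟨q.r x, hx', ?_⟩
  exact congr($(Scheme.Hom.resLE_comp_ι g' q.preimage_le) x)

theorem Sq.Φ₀_smul (G : X.Modules) (i : ℤ) (r : Γ(S, V)) (x : CF f q.hV c G i) :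
    q.Φ₀ halg c G i (r • x) = algebraMap Γ(S, V) Γ(S', V') r • q.Φ₀ halg c G i x :=
  (congrArg (Cochains.mapC (ρV f' q.hV') (Ub q.r c.U) (q.iso G).hom i)
    (map_smul (Φ q.r (ρV f q.hV) (ρV f' q.hV') (FV f (V := V) G) (q.compat halg) c.U i) r x)).trans
    ((Cochains.mapC (ρV f' q.hV') (Ub q.r c.U) (q.iso G).hom i).map_smul
      (algebraMap Γ(S, V) Γ(S', V') r) _)

theorem Sq.Φ₀_dF (G : X.Modules) (i j : ℤ) (x : CF f q.hV c G i) :
    q.Φ₀ halg c G j (dF f q.hV c G i j x) =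
      dF f' q.hV' (q.cov c) ((Scheme.Modules.pullback g').obj G) i j (q.Φ₀ halg c G i x) := by
  by_cases h : i + 1 = j
  · subst h
    have e1 : dF f q.hV c G i (i + 1) x = dL (ρV f q.hV) (FV f (V := V) G) c.U i x := K_d _ _ c.U i x
    have e2 : ∀ y, dF f' q.hV' (q.cov c) ((Scheme.Modules.pullback g').obj G) i (i + 1) y =
      dL (ρV f' q.hV') (FV f' (V := V') ((Scheme.Modules.pullback g').obj G)) (Ub q.r c.U) i y := fun y =>
        K_d _ _ (Ub q.r c.U) i y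
    rw [e1, e2]
    exact (congrArg (Cochains.mapC (ρV f' q.hV') (Ub q.r c.U) (q.iso G).hom (i + 1))
      (Φ_d q.r (ρV f q.hV) (ρV f' q.hV') (FV f (V := V) G) (q.compat halg) c.U i x)).trans
      (Cochains.mapC_dL (ρV f' q.hV') (Ub q.r c.U) (q.iso G).hom i _)
  · have e1 : dF f q.hV c G i j x = 0 := by
      show ((KF f q.hV c G).d i j).hom x = 0
      rw [(KF f q.hV c G).shape i j (by simpa using h)]; rfl
    have e2 : ∀ y, dF f' q.hV' (q.cov c) ((Scheme.Modules.pullback g').obj G) i j y = 0 := fun y => by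
      show ((KF f' q.hV' (q.cov c) ((Scheme.Modules.pullback g').obj G)).d i j).hom y = 0
      rw [(KF f' q.hV' (q.cov c) ((Scheme.Modules.pullback g').obj G)).shape i j (by simpa using h)]; rfl
    rw [e1, e2, map_zero]

theorem Sq.Φ₀_mF {G H : X.Modules} (ψ : G ⟶ H) (i : ℤ) (x : CF f q.hV c G i) :
    q.Φ₀ halg c H i (mF f q.hV c ψ i x) =
      mF f' q.hV' (q.cov c) ((Scheme.Modules.pullback g').map ψ) i (q.Φ₀ halg c G i x) := by
  funext a
  have e := q.image_opn_le c a.1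
  refine (q.Φ₀_apply halg c H i _ a e).trans ?_
  refine Eq.trans ?_ (congrArg (((Scheme.Modules.pullback g').map ψ).app ((f' ⁻¹ᵁ V').ι ''ᵁ opn (Ub q.r c.U) a.1))
    (q.Φ₀_apply halg c G i x a e)).symm
  rw [Cochains.app_rs]
  refine congrArg _ ?_
  exact (PullSec.map_pull g' ψ ((f ⁻¹ᵁ V).ι ''ᵁ opn c.U a.1) _).symm

/-- A compatible change of the degree zero gluing. -/
theorem Sq.glues_pull {G : X.Modules} {s : Γ(G, f ⁻¹ᵁ V)} {z : CF f q.hV c G 0}
    (hs : Glues f q.hV c G s z) :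
    Glues f' q.hV' (q.cov c) ((Scheme.Modules.pullback g').obj G)
      (rs ((Scheme.Modules.pullback g').obj G) q.preimage_le (pull g' G (f ⁻¹ᵁ V) s))
      (q.Φ₀ halg c G 0 z) := fun a => by
  refine Eq.trans ?_ (q.Φ₀_apply halg c G 0 z a (q.image_opn_le c a.1)).symm
  rw [← hs a, ← pull_rs g' G (image_le f _) s, rs_rs, rs_rs]

/-- Sections on an affine open after base change. -/
theorem Sq.exists_secEquiv (G : X.Modules) [Coh.IsQCoh (G.restrict (f ⁻¹ᵁ V).ι)]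
    (W : (↑(f ⁻¹ᵁ V) : Scheme.{u}).Opens) (hW : IsAffineOpen W) (W' : (↑(f' ⁻¹ᵁ V') : Scheme.{u}).Opens)
    (e : W' = q.r ⁻¹ᵁ W) :
    ∃ E : (Γ(S', V') ⊗[Γ(S, V)] Sec (ρV f q.hV) (FV f (V := V) G) W) ≃ₗ[Γ(S', V')]
        Sec (ρV f' q.hV') (FV f' (V := V') ((Scheme.Modules.pullback g').obj G)) W',
      ∀ b x, E (b ⊗ₜ x) = b • (Cochains.appL (ρV f' q.hV') (q.iso G).hom W')
        (pullL q.r (ρV f q.hV) (ρV f' q.hV') (FV f (V := V) G) (q.compat halg) e.le x) := by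
  haveI : Coh.IsQCoh (FV f (V := V) G) := ‹Coh.IsQCoh (G.restrict (f ⁻¹ᵁ V).ι)›
  have hbc := hasBC_of_isPullback (fV f q.hV) (fV f' q.hV') q.r (q.isPullback halg) (FV f (V := V) G) W hW W' e
  let m := Cochains.appL (ρV f' q.hV') (q.iso G).hom W'
  let mi := Cochains.appL (ρV f' q.hV') (q.iso G).inv W'
  let M : Sec (ρV f' q.hV') (Fb q.r (FV f (V := V) G)) W' ≃ₗ[Γ(S', V')]
      Sec (ρV f' q.hV') (FV f' (V := V') ((Scheme.Modules.pullback g').obj G)) W' :=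
    LinearEquiv.ofLinearMap m mi
      (LinearMap.ext fun y => congr($(congrArg (fun k => Scheme.Modules.Hom.app k W') (q.iso G).inv_hom_id) y))
      (LinearMap.ext fun y => congr($(congrArg (fun k => Scheme.Modules.Hom.app k W') (q.iso G).hom_inv_id) y))
  refine ⟨hbc.equiv.trans M, fun b x => ?_⟩
  rw [LinearEquiv.trans_apply, IsBaseChange.equiv_tmul, map_smul]
  rfl

include halg in
/-- Pulled back pieces keep bijective restrictions. -/
theorem Sq.bijective_resL (G : X.Modules) [Coh.IsQCoh (G.restrict (f ⁻¹ᵁ V).ι)] (j : c.ι) (l : List c.ι)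
    (hl : l ≠ []) (h : opn c.U (j :: l) ≤ opn c.U l)
    (hb : Function.Bijective (resL (ρV f q.hV) (FV f (V := V) G) h))
    (h' : opn (Ub q.r c.U) (j :: l) ≤ opn (Ub q.r c.U) l) :
    Function.Bijective (resL (ρV f' q.hV') (FV f' (V := V') ((Scheme.Modules.pullback g').obj G)) h') := by
  let mk : ∀ (l : List c.ι), l ≠ [] → Idx c.ι ((l.length : ℤ) - 1) := fun l hl => ⟨l, by omega, hl⟩
  obtain ⟨E, hE⟩ := q.exists_secEquiv halg G (opn c.U l) (isAffineOpen_opn c.U c.affine (mk l hl))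
    (opn (Ub q.r c.U) l) (preimage_opn q.r c.U l).symm
  obtain ⟨E', hE'⟩ := q.exists_secEquiv halg G (opn c.U (j :: l))
    (isAffineOpen_opn c.U c.affine (mk (j :: l) (List.cons_ne_nil _ _)))
    (opn (Ub q.r c.U) (j :: l)) (preimage_opn q.r c.U (j :: l)).symm
  let L := (LinearEquiv.ofBijective (resL (ρV f q.hV) (FV f (V := V) G) h) hb).baseChange Γ(S, V) Γ(S', V') _ _
  have key : ∀ t, resL (ρV f' q.hV') (FV f' (V := V') ((Scheme.Modules.pullback g').obj G)) h' (E t) = E' (L t) := by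
    intro t
    induction t using TensorProduct.induction_on with
    | zero => simp only [map_zero]
    | add a b ha hb' => simp only [map_add, ha, hb']
    | tmul b x =>
      rw [hE, map_smul, ← Cochains.appL_res, pullL_res q.r (ρV f q.hV) (ρV f' q.hV') _ (q.compat halg) _
        (preimage_opn q.r c.U (j :: l)).ge h h' x]
      exact (hE' b _).symm
  have : Function.Bijective (fun t => E' (L t)) := E'.bijective.comp L.bijective
  rw [← funext key] at this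
  exact (Function.Bijective.of_comp_iff _ E.bijective).1 this

end Groth.L17.BC.Classes
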