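import Groth.Agent.L17.BC.Model
import Mathlib.RingTheory.Spectrum.Prime.FreeLocus
import Mathlib.RingTheory.Ideal.Quotient.Operations

/-!
# Freeness of homology near a point, from fibre dimensions
-/

set_option autoImplicit false
set_option linter.style.haveILetI false
set_option linter.unusedSectionVars false
set_option backward.isDefEq.respectTransparency false

universe u

open CategoryTheory CategoryTheory.Limits MonoidalCategory
open scoped TensorProduct

noncomputable section

namespace Groth.L17.BC.Crit

open Groth.L01.FlatCx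

variable {A : Type u} [CommRing A] (L : CochainComplex (ModuleCat.{u} A) ℤ)

/-- The cokernel of the differential out of degree `j` is free at `x`. -/
def FreeC (j : ℤ) (x : PrimeSpectrum A) : Prop := x ∈ Module.freeLocus A (Coker L j (j + 1))

theorem next_eq (j : ℤ) : (ComplexShape.up ℤ).next j = j + 1 := CochainComplex.next _ _

theorem prev_eq (j : ℤ) : (ComplexShape.up ℤ).prev (j + 1) = j := by simp

theorem prev_eq' (j : ℤ) : (ComplexShape.up ℤ).prev j = j - 1 := CochainComplex.prev _ _

section Local

variable (hL : ∀ i, Module.Finite A (L.X i) ∧ Module.Flat A (L.X i)) (x : PrimeSpectrum A)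

/-- The complex at the local ring. -/
abbrev loc : CochainComplex (ModuleCat.{u} (Localization.AtPrime x.asIdeal)) ℤ :=
  bc (Localization.AtPrime x.asIdeal) L

include hL in
theorem flat_loc (i : ℤ) : Module.Flat (Localization.AtPrime x.asIdeal) ((loc L x).X i) :=
  flat_bc _ L (fun i => (hL i).2) i

include hL in
theorem finite_loc (i : ℤ) : Module.Finite (Localization.AtPrime x.asIdeal) ((loc L x).X i) :=
  haveI := (hL i).1
  finite_bc _ L i

include hL in
theorem freeC_iff [IsNoetherianRing A] (j : ℤ) :
    FreeC L j x ↔ Module.Flat (Localization.AtPrime x.asIdeal) (Coker (loc L x) j (j + 1)) := by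
  haveI := (hL (j + 1)).1
  rw [FreeC, Module.mem_freeLocus_iff_tensor x (Localization.AtPrime x.asIdeal)]
  obtain ⟨e⟩ := nonempty_coker_bc (Localization.AtPrime x.asIdeal) L j (j + 1)
  rw [Module.Flat.equiv_iff e]
  exact ⟨fun _ => inferInstance, fun _ => Module.free_of_flat_of_isLocalRing⟩

include hL in
theorem preservesEpi_of_freeC [IsNoetherianRing A] {j : ℤ} (h : FreeC L j x) :
    (CohIII.TFun (loc L x) j).PreservesEpimorphisms :=
  (preservesEpi_iff _ (next_eq j) (prev_eq j) (flat_loc L hL x)).2 ((freeC_iff L hL x j).1 h)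

include hL in
theorem preservesMono_of_freeC [IsNoetherianRing A] {j : ℤ} (h : FreeC L j x) :
    (CohIII.TFun (loc L x) (j + 1)).PreservesMonomorphisms :=
  (preservesMono_iff _ (prev_eq j) (flat_loc L hL x)).2 ((freeC_iff L hL x j).1 h)

theorem comap_closedPoint :
    PrimeSpectrum.comap (algebraMap A (Localization.AtPrime x.asIdeal))
      (IsLocalRing.closedPoint (Localization.AtPrime x.asIdeal)) = x :=
  PrimeSpectrum.ext (Localization.AtPrime.comap_maximalIdeal (I := x.asIdeal))

theorem dRank_loc (j : ℤ) :
    CohIII.dRank (loc L x) j (IsLocalRing.closedPoint (Localization.AtPrime x.asIdeal)) = CohIII.dRank L j x := by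
  rw [loc, dRank_baseChange]
  exact congrArg _ (comap_closedPoint x)

include hL in
/-- Vanishing of the fibre dimension makes both neighbouring cokernels free at the point. -/
theorem freeC_of_dRank_eq_zero [IsNoetherianRing A] {j : ℤ} (h : CohIII.dRank L (j + 1) x = 0) :
    FreeC L j x ∧ FreeC L (j + 1) x := by
  set T := Localization.AtPrime x.asIdeal
  let c := IsLocalRing.closedPoint T
  let k := c.asIdeal.ResidueField
  haveI := fun i => finite_loc L hL x i
  have hk0 : Subsingleton ((bc k (loc L x)).homology (j + 1) : Type u) := by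
    haveI : Module.Finite k ((bc k (loc L x)).homology (j + 1) : Type u) :=
      finite_homology_bc_field (loc L x) (finite_loc L hL x) k (j + 1)
    exact Module.finrank_zero_iff.mp ((dRank_loc L x (j + 1)).trans h)
  haveI : c.asIdeal.IsMaximal := IsLocalRing.maximalIdeal.isMaximal T
  let e : IsLocalRing.ResidueField T ≃ₗ[T] k :=
    (AlgEquiv.ofBijective (IsScalarTower.toAlgHom T (T ⧸ c.asIdeal) k)
      (Ideal.bijective_algebraMap_quotient_residueField c.asIdeal)).toLinearEquiv
  have hz : IsZero ((CohIII.TFun (loc L x) (j + 1)).obj (ModuleCat.of T (IsLocalRing.ResidueField T))) := by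
    refine IsZero.of_iso ?_ ((CohIII.TFun (loc L x) (j + 1)).mapIso e.toModuleIso)
    haveI : Subsingleton ((CohIII.TFun (loc L x) (j + 1)).obj (ModuleCat.of T k)) := by
      refine subsingleton_of_forall_eq 0 fun a => ?_
      obtain ⟨w, rfl⟩ := cls_surjective (loc L x) (j + 1) (ModuleCat.of T k) a
      have hw : (sw k (loc L x) (j + 1)).symm w.1 ∈ Cyc' (bc k (loc L x)) (j + 1) := by
        apply (sw k (loc L x) ((ComplexShape.up ℤ).next (j + 1))).injective
        rw [sw_dd, AddEquiv.apply_symm_apply, map_zero]
        exact w.2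
      obtain ⟨y, hy⟩ := (cls'_eq_zero_iff (bc k (loc L x)) (prev_eq j) ⟨_, hw⟩).1 (Subsingleton.elim _ _)
      rw [cls_eq_zero_iff (loc L x) (prev_eq j)]
      refine ⟨sw k (loc L x) j y, ?_⟩
      rw [← sw_dd, hy, AddEquiv.apply_symm_apply]
    exact ModuleCat.isZero_of_subsingleton _
  have hall := fun M => isZero_of_isZero_residue (loc L x) (next_eq (j + 1)) (prev_eq (j + 1)) (flat_loc L hL x) hz M
  have hsub : ∀ M, Subsingleton ((CohIII.TFun (loc L x) (j + 1)).obj M) := fun M =>
    ModuleCat.subsingleton_of_isZero (hall M)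
  constructor
  · rw [freeC_iff L hL, ← preservesMono_iff _ (prev_eq j) (flat_loc L hL x)]
    exact ⟨fun {M N} g _ => (ModuleCat.mono_iff_injective _).mpr fun a b _ => (hsub M).elim a b⟩
  · rw [freeC_iff L hL, ← preservesEpi_iff _ (next_eq (j + 1)) (prev_eq (j + 1)) (flat_loc L hL x)]
    exact ⟨fun {M N} g _ => (ModuleCat.epi_iff_surjective _).mpr fun b => ⟨0, (hsub N).elim _ _⟩⟩

include hL in
/-- Free neighbouring cokernels make the homology free at the point, of rank the fibre dimension. -/
theorem mem_freeLocus_homology [IsNoetherianRing A] {j : ℤ} (h₁ : FreeC L j x) (h₂ : FreeC L (j + 1) x) :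
    x ∈ Module.freeLocus A (L.homology (j + 1) : Type u) ∧
      CohIII.dRank L (j + 1) x = mu (L.homology (j + 1) : Type u) x := by
  set T := Localization.AtPrime x.asIdeal
  haveI := preservesEpi_of_freeC L hL x h₂
  haveI := preservesMono_of_freeC L hL x h₁
  haveI := fun i => finite_loc L hL x i
  haveI := finite_TFun_obj (loc L x) (j + 1) (ModuleCat.of T T)
  haveI := flat_homology_of_exact (loc L x) (j + 1) (flat_loc L hL x)
  haveI hfree : Module.Free T ((CohIII.TFun (loc L x) (j + 1)).obj (ModuleCat.of T T) : Type u) :=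
    Module.free_of_flat_of_isLocalRing
  haveI : Module.Flat A T := IsLocalization.flat T x.asIdeal.primeCompl
  obtain ⟨e₁⟩ := nonempty_homology_bc T L (j + 1) (bijective_tMap_of_flat L (j + 1) (ModuleCat.of A T))
  let e : ((CohIII.TFun (loc L x) (j + 1)).obj (ModuleCat.of T T) : Type u) ≃ₗ[T]
      T ⊗[A] (L.homology (j + 1) : Type u) :=
    (unitEquiv (loc L x) (j + 1)).trans (e₁.trans ((unitEquiv L (j + 1)).baseChange A T))
  refine ⟨(Module.mem_freeLocus_iff_tensor x T).2 (Module.Free.of_equiv e), ?_⟩
  rw [← dRank_loc L x (j + 1), dRank_eq_mu (loc L x) (j + 1) (flat_loc L hL x)]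
  refine ((e.baseChange T (IsLocalRing.closedPoint T).asIdeal.ResidueField).finrank_eq).trans ?_
  exact (mu_baseChange (L.homology (j + 1) : Type u) T _).trans
    (congrArg _ (comap_closedPoint x))

end Local

/-- Degrees in which the tensor products vanish give free cokernels on both sides. -/
theorem freeC_of_isZero_T [IsNoetherianRing A] (hL : ∀ i, Module.Finite A (L.X i) ∧ Module.Flat A (L.X i)) {j : ℤ}
    (h : ∀ M, IsZero (CohIII.T L (j + 1) M)) (x : PrimeSpectrum A) : FreeC L j x ∧ FreeC L (j + 1) x := by
  have hP := fun i => (hL i).2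
  haveI := fun i => (hL i).1
  have hs : ∀ M, Subsingleton ((CohIII.TFun L (j + 1)).obj M) := fun M => ModuleCat.subsingleton_of_isZero (h M)
  haveI h1 : Module.Flat A (Coker L j (j + 1)) := (preservesMono_iff L (prev_eq j) hP).1
    ⟨fun {M N} g _ => (ModuleCat.mono_iff_injective _).mpr fun a b _ => (hs M).elim a b⟩
  haveI h2 : Module.Flat A (Coker L (j + 1) (j + 1 + 1)) := (preservesEpi_iff L (next_eq _) (prev_eq _) hP).1
    ⟨fun {M N} g _ => (ModuleCat.epi_iff_surjective _).mpr fun b => ⟨0, (hs N).elim _ _⟩⟩
  exact ⟨(Module.freeLocus_eq_univ (R := A) (M := Coker L j (j + 1))).ge (Set.mem_univ x),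
    (Module.freeLocus_eq_univ (R := A) (M := Coker L (j + 1) (j + 1 + 1))).ge (Set.mem_univ x)⟩

/-- Over a reduced ring a locally constant fibre dimension gives free cokernels on both sides. -/
theorem freeC_of_isLocallyConstant [IsNoetherianRing A] [IsReduced A]
    (hL : ∀ i, Module.Finite A (L.X i) ∧ Module.Flat A (L.X i)) {j : ℤ}
    (hd : IsLocallyConstant (CohIII.dRank L (j + 1))) (x : PrimeSpectrum A) :
    FreeC L j x ∧ FreeC L (j + 1) x := by
  haveI := fun i => (hL i).1
  haveI := fun i => (hL i).2
  haveI : ∀ i, Module.FinitePresentation A (L.X i) := fun i => Module.finitePresentation_of_finite A _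
  have key := fun x => dRank_add_mu L (prev_eq j) (next_eq (j + 1)) x
  have hr : IsLocallyConstant (mu (A := A) (L.X (j + 1 + 1))) := isLocallyConstant_mu _
  have h : ∀ z, (∀ᶠ x in nhds z, mu (A := A) (Coker L j (j + 1)) x = mu (A := A) (Coker L j (j + 1)) z) ∧
      ∀ᶠ x in nhds z, mu (A := A) (Coker L (j + 1) (j + 1 + 1)) x = mu (A := A) (Coker L (j + 1) (j + 1 + 1)) z := by
    intro z
    rw [IsLocallyConstant.iff_eventually_eq] at hd hr
    refine eventually_eq_of_add (mu_eventually_le _ z) (mu_eventually_le _ z) ?_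
    filter_upwards [hd z, hr z] with x e1 e2
    have := key x; have := key z
    omega
  haveI := flat_of_isLocallyConstant (Coker L j (j + 1))
    ((IsLocallyConstant.iff_eventually_eq _).mpr fun z => (h z).1)
  haveI := flat_of_isLocallyConstant (Coker L (j + 1) (j + 1 + 1))
    ((IsLocallyConstant.iff_eventually_eq _).mpr fun z => (h z).2)
  exact ⟨(Module.freeLocus_eq_univ (R := A) (M := Coker L j (j + 1))).ge (Set.mem_univ x),
    (Module.freeLocus_eq_univ (R := A) (M := Coker L (j + 1) (j + 1 + 1))).ge (Set.mem_univ x)⟩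

/-- A bounded above complex of flat modules with flat homology has flat cokernels. -/
theorem flat_coker_of_flat_homology [IsNoetherianRing A] (hL : ∀ i, Module.Finite A (L.X i) ∧ Module.Flat A (L.X i))
    (b : ℤ) (hb : ∀ i, b < i → IsZero (L.X i)) (hH : ∀ i, Module.Flat A (L.homology i : Type u)) (j : ℤ) :
    Module.Flat A (Coker L (j - 1) j) := by
  haveI := fun i => (hL i).2
  suffices ∀ (k : ℕ) (i : ℤ), b < i + k → Module.Flat A (Coker L (i - 1) i) from
    this (b + 1 - j).toNat j (by omega)
  intro k
  induction k with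
  | zero =>
    intro i hi
    haveI := ModuleCat.subsingleton_of_isZero (hb i (by omega))
    infer_instance
  | succ k ih =>
    intro i hi
    have hnext : Module.Flat A (Coker L i (i + 1)) := by
      have h := ih (i + 1) (by omega)
      rwa [show i + 1 - 1 = i by omega] at h
    haveI : Module.Flat A (LinearMap.range (dd L i (i + 1))) :=
      flat_left (Submodule.injective_subtype _) (Submodule.mkQ_surjective _)
        (LinearMap.exact_iff.mpr ((Submodule.ker_mkQ _).trans (Submodule.range_subtype _).symm))
    rw [flat_coker_iff L (prev_eq' i) (next_eq i)]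
    haveI := hH i
    exact Module.Flat.of_linearEquiv (unitEquiv L i)

end Groth.L17.BC.Crit
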