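import Groth.Agent.L17.BC.Apply
import Groth.Agent.L29.DCoh.TildeAlg

/-!
# Vanishing higher direct images give a locally free direct image
-/

set_option autoImplicit false
set_option linter.style.haveILetI false
set_option linter.unusedSectionVars false
set_option backward.isDefEq.respectTransparency false

universe u

open CategoryTheory CategoryTheory.Limits AlgebraicGeometry TopologicalSpace Opposite

noncomputable section

namespace Groth.L17.BC

open Groth.L01.FlatCx

theorem Crit.flat_coker_of_flat_homology_above {A : Type u} [CommRing A] [IsNoetherianRing A]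
    (L : CochainComplex (ModuleCat.{u} A) ℤ) (hL : ∀ i, Module.Finite A (L.X i) ∧ Module.Flat A (L.X i))
    (b a : ℤ) (hb : ∀ i, b < i → IsZero (L.X i)) (hH : ∀ i, a ≤ i → Module.Flat A (L.homology i : Type u)) (j : ℤ)
    (hj : a ≤ j) : Module.Flat A (Coker L (j - 1) j) := by
  haveI := fun i => (hL i).2
  suffices ∀ (k : ℕ) (i : ℤ), a ≤ i → b < i + k → Module.Flat A (Coker L (i - 1) i) from
    this (b + 1 - j).toNat j hj (by omega)
  intro k
  induction k with
  | zero =>
    intro i _ hi
    haveI := ModuleCat.subsingleton_of_isZero (hb i (by omega))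
    infer_instance
  | succ k ih =>
    intro i hai hi
    have hnext : Module.Flat A (Coker L i (i + 1)) := by
      have h := ih (i + 1) (by omega) (by omega)
      rwa [show i + 1 - 1 = i by omega] at h
    haveI : Module.Flat A (LinearMap.range (dd L i (i + 1))) :=
      flat_left (Submodule.injective_subtype _) (Submodule.mkQ_surjective _)
        (LinearMap.exact_iff.mpr ((Submodule.ker_mkQ _).trans (Submodule.range_subtype _).symm))
    rw [flat_coker_iff L (Crit.prev_eq' i) (Crit.next_eq i)]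
    haveI := hH i hai
    exact Module.Flat.of_linearEquiv (unitEquiv L i)

variable {X Y : Scheme.{u}} (f : X ⟶ Y) [IsProper f] [IsLocallyNoetherian Y] {V : Y.Opens} {hV : IsAffineOpen V}
  {F : X.Modules} [HasInjectiveResolutions X.Modules] (m : Local f hV F)

theorem Local.subsingleton_homology_of_isZero (i : ℕ) (h : IsZero ((Coh.Rpush f i).obj F)) :
    Subsingleton (m.L.homology (i : ℤ) : Type u) := by
  obtain ⟨e⟩ := m.rpush i
  exact ModuleCat.subsingleton_of_isZero (Groth.L29.DC.TildeAlg.isZero_of_isZero_tilde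
    (IsZero.of_iso ((Scheme.Modules.restrictFunctor hV.fromSpec).map_isZero h) e.symm))

variable (hR : ∀ i : ℕ, 0 < i → IsZero ((Coh.Rpush f i).obj F))

include hR in
theorem Local.freeC_of_vanish (x : PrimeSpectrum Γ(Y, V)) (j : ℕ) : Crit.FreeC m.L ((j : ℤ) - 1) x := by
  haveI : IsNoetherianRing Γ(Y, V) := IsLocallyNoetherian.component_noetherian ⟨V, hV⟩
  rcases Nat.eq_zero_or_pos j with rfl | hj
  · have := (m.freeC_neg f (j := -2) (by norm_num) x).2
    simpa using this
  haveI := Crit.flat_coker_of_flat_homology_above m.L m.finiteFlat m.top 1 m.isZero_above (fun i hi => by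
    obtain ⟨k, rfl⟩ : ∃ k : ℕ, i = (k : ℤ) := ⟨i.toNat, by omega⟩
    haveI := m.subsingleton_homology_of_isZero f k (hR k (by omega))
    infer_instance) (j : ℤ) (by omega)
  haveI := (m.finiteFree (j : ℤ)).1
  haveI := (m.finiteFree (j : ℤ)).2
  haveI : Module.FinitePresentation Γ(Y, V) (Coker m.L ((j : ℤ) - 1) j) := Module.finitePresentation_of_finite _ _
  show x ∈ Module.freeLocus _ (Coker m.L ((j : ℤ) - 1) ((j : ℤ) - 1 + 1))
  rw [sub_add_cancel]
  exact Module.freeLocus_eq_univ.ge (Set.mem_univ x)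

include hR m in
theorem subsingleton_fiberH_of_vanish {y : Y} (hy : y ∈ V) (i : ℕ) (hi : 0 < i) :
    Subsingleton (CohIII.fiberH f F y i) := by
  haveI : IsNoetherianRing Γ(Y, V) := IsLocallyNoetherian.component_noetherian ⟨V, hV⟩
  have h₁ := m.freeC_of_vanish f hR (hV.primeIdealOf ⟨y, hy⟩) i
  have h₂ := m.freeC_of_vanish f hR (hV.primeIdealOf ⟨y, hy⟩) (i + 1)
  rw [show ((i + 1 : ℕ) : ℤ) - 1 = (i : ℤ) by push_cast; ring] at h₂
  have h := (Crit.mem_freeLocus_homology m.L m.finiteFlat (hV.primeIdealOf ⟨y, hy⟩) (j := (i : ℤ) - 1) h₁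
    (by rwa [sub_add_cancel])).2
  rw [sub_add_cancel] at h
  haveI := m.subsingleton_homology_of_isZero f i (hR i hi)
  haveI := m.finite_fiberH y hy i
  have h0 : CohIII.fiberRank f F i y = 0 := by
    rw [m.fiberRank_eq y hy i, h]
    exact Module.finrank_zero_of_subsingleton
  exact (Module.finrank_zero_iff (R := Y.residueField y)).1 h0

include hR in
theorem exists_free_push_of_vanish (hF : Coh.IsCoh F) (hfl : FlatMod.IsFlatOver f F) (y : Y) :
    ∃ U : Y.Opens, y ∈ U ∧
      Nonempty (((Coh.push f).obj F).restrict U.ι ≅ FlatMod.freeMod (↑U) (CohIII.fiberRank f F 0 y)) := by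
  obtain ⟨_, ⟨V, hV, rfl⟩, hyV, -⟩ := Y.isBasis_affineOpens.exists_subset_of_mem_open (Set.mem_univ y) isOpen_univ
  obtain ⟨m⟩ := nonempty_local f hV F hF hfl
  have h₂ : Crit.FreeC m.L ((0 : ℕ) : ℤ) (hV.primeIdealOf ⟨y, hyV⟩) := by
    simpa using m.freeC_of_vanish f hR (hV.primeIdealOf ⟨y, hyV⟩) 1
  obtain ⟨U, hyU, ⟨i⟩⟩ := m.exists_free f hyV 0 (m.freeC_of_vanish f hR _ 0) h₂
  exact ⟨U, hyU, ⟨(Scheme.Modules.restrictFunctor U.ι).mapIso
    ((Scheme.Modules.pushforward f).rightDerivedZeroIsoSelf.app F).symm ≪≫ i⟩⟩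

end Groth.L17.BC
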