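import Groth.Agent.L17.BC.FlatTwist
import Groth.Agent.L17.BC.AmpleFlat
import Groth.Agent.L03.Euler.Twist
import Groth.Agent.L16.Existence.AmpleVanish
import Groth.Agent.L29.DCoh.Flat
import Groth.Agent.L18.LocFreeTilde
import Groth.Agent.L18.AmpleOps
import Groth.Agent.L17.BC.Cochains

/-!
# Flatness and local freeness of the direct images of large twists
-/

set_option autoImplicit false
set_option linter.style.haveILetI false
set_option linter.unusedSectionVars false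
set_option backward.isDefEq.respectTransparency false

universe u

open CategoryTheory CategoryTheory.Limits AlgebraicGeometry TopologicalSpace Opposite

noncomputable section

namespace Groth.L17.BC.FlatCrit

open Groth.L18.Frame (rs ro rs_rs rs_self rs_smul ro_ro ro_self IsFrame)
open Groth.L18.GenLoc (tens tens_smul_left exists_affine_frame)
open Groth.L18.Ample (tw isInvertible_tensorPow)
open Groth.L00.Tensor (tensorIso tensorRestrict tensorPowRestrict tensorUnitRight tensorAssoc tensorPowMul tensorComm)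

variable {X Y : Scheme.{u}} (f : X ⟶ Y)

theorem nonempty_tw_iso (F M : X.Modules) : ∀ k, Nonempty (tw F M k ≅ CohB1.tensorMod F (CohB1.tensorPow M k))
  | 0 => ⟨(tensorUnitRight F).symm⟩
  | k + 1 => by
    obtain ⟨e⟩ := nonempty_tw_iso F M k
    exact ⟨tensorIso e (Iso.refl M) ≪≫ tensorAssoc F (CohB1.tensorPow M k) M⟩

/-- An isomorphism of modules, on sections. -/
def secIso {A : Type u} [CommRing A] (ρ : A →+* Coh.Γtop X) {M N : X.Modules} (e : M ≅ N) (W : X.Opens) :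
    Sec ρ M W ≃ₗ[A] Sec ρ N W :=
  { Cochains.appL ρ e.hom W with
    invFun := Cochains.appL ρ e.inv W
    left_inv := fun s => congr($(e.hom_inv_id).app W s)
    right_inv := fun s => congr($(e.inv_hom_id).app W s) }

/-- Tensoring with an invertible module keeps flatness over the base. -/
theorem isFlatOver_tensor [IsLocallyNoetherian X] (F M : X.Modules) (hF : Coh.IsCoh F) (hM : PicF.IsInvertible M)
    (hfl : FlatMod.IsFlatOver f F) : FlatMod.IsFlatOver f (CohB1.tensorMod F M) := by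
  haveI : Coh.IsQCoh F := hF.1
  haveI : Coh.IsQCoh (CohB1.tensorMod F M) := (Groth.L03.Euler.isCoh_tensor hM hF).1
  intro x
  obtain ⟨_, ⟨V, hV, rfl⟩, hxV, -⟩ := Y.isBasis_affineOpens.exists_subset_of_mem_open (Set.mem_univ (f x)) isOpen_univ
  obtain ⟨W₀, e, -, hxW₀, he⟩ := exists_affine_frame hM x
  obtain ⟨_, ⟨W, hW, rfl⟩, hxW, hsub⟩ := X.isBasis_affineOpens.exists_subset_of_mem_open (a := x)
    (show x ∈ W₀ ⊓ f ⁻¹ᵁ V from ⟨hxW₀, hxV⟩) (W₀ ⊓ f ⁻¹ᵁ V).2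
  have hWV : W ≤ f ⁻¹ᵁ V := fun z hz => (hsub hz).2
  have hWW₀ : W ≤ W₀ := fun z hz => (hsub hz).1
  rw [Groth.L20.ModStalk.isFlatOverAt_iff f _ hV hW hWV hxW]
  letI : Algebra Γ(Y, V) Γ(X, W) := (f.appLE V W hWV).hom.toAlgebra
  letI : Module Γ(Y, V) Γ(F, W) := Module.compHom Γ(F, W) (f.appLE V W hWV).hom
  letI : Module Γ(Y, V) Γ(CohB1.tensorMod F M, W) :=
    Module.compHom Γ(CohB1.tensorMod F M, W) (f.appLE V W hWV).hom
  haveI : IsScalarTower Γ(Y, V) Γ(X, W) Γ(CohB1.tensorMod F M, W) := IsScalarTower.of_algebraMap_smul fun _ _ => rfl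
  haveI : Module.Flat Γ(Y, V) Γ(F, W) := flat_appLE f F hfl hW hWV hV
  let τ : Γ(F, W) →ₗ[Γ(Y, V)] Γ(CohB1.tensorMod F M, W) :=
    { toFun := fun m => tens F M W m (rs M hWW₀ e)
      map_add' := fun a b => Groth.L00.Tensor.ev_add₁ _ _ _ _ _
      map_smul' := fun r m => tens_smul_left (f.appLE V W hWV r) m _ }
  haveI : Module.Flat Γ(Y, V) Γ(CohB1.tensorMod F M, W) :=
    Module.Flat.of_linearEquiv (LinearEquiv.ofBijective τ (TwistFrame.bijective_tens he W hWW₀)).symm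
  refine Groth.L20.flat_localizedModule_of_forall _ fun J z hz => ⟨1, one_mem _, ?_⟩
  rw [one_smul]
  exact (injective_iff_map_eq_zero _).1
    (Module.Flat.lTensor_preserves_injective_linearMap _ Subtype.val_injective) z hz

variable {V : Y.Opens} (hV : IsAffineOpen V)

theorem appLE_key {W' : (↑(f ⁻¹ᵁ V) : Scheme.{u}).Opens} (hWV : (f ⁻¹ᵁ V).ι ''ᵁ W' ≤ f ⁻¹ᵁ V) :
    (Scheme.ΓSpecIso Γ(Y, V)).inv ≫ (fV f hV).appLE ⊤ W' le_top ≫ ((f ⁻¹ᵁ V).ι.appIso W').inv =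
      f.appLE V ((f ⁻¹ᵁ V).ι ''ᵁ W') hWV := by
  rw [← Category.assoc, Iso.comp_inv_eq, Scheme.Hom.appIso_hom', Scheme.Hom.appLE_comp_appLE]
  have h1 : (Scheme.ΓSpecIso Γ(Y, V)).inv = hV.fromSpec.appLE V ⊤ hV.fromSpec_preimage_self.ge := by
    rw [Scheme.Hom.appLE, hV.fromSpec_app_self, Category.assoc, ← Functor.map_comp]
    exact ((congrArg ((Scheme.ΓSpecIso Γ(Y, V)).inv ≫ ·) ((Spec Γ(Y, V)).presheaf.map_id _)).trans
      (Category.comp_id _)).symm
  rw [h1, Scheme.Hom.appLE_comp_appLE]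
  congr 1
  exact fV_fromSpec f hV

theorem sec_smul (F : X.Modules) {W' : (↑(f ⁻¹ᵁ V) : Scheme.{u}).Opens} (hWV : (f ⁻¹ᵁ V).ι ''ᵁ W' ≤ f ⁻¹ᵁ V)
    (a : Γ(Y, V)) (s : Sec (Coh.toGlobal (A := Γ(Y, V)) (fV f hV)) (FV f (V := V) F) W') :
    (show Γ(F, (f ⁻¹ᵁ V).ι ''ᵁ W') from a • s) =
      f.appLE V ((f ⁻¹ᵁ V).ι ''ᵁ W') hWV a • (show Γ(F, (f ⁻¹ᵁ V).ι ''ᵁ W') from s) := by
  rw [← appLE_key f hV hWV]
  rfl

/-- Sections of a direct image on an affine open. -/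
theorem nonempty_push_equiv (F : X.Modules) :
    Nonempty (Sec (Coh.toGlobal (A := Γ(Y, V)) (fV f hV)) (FV f (V := V) F) ⊤ ≃ₗ[Γ(Y, V)]
      Γ((Coh.push f).obj F, V)) := by
  let j := (f ⁻¹ᵁ V).ι
  have h1 : f ⁻¹ᵁ V ≤ j ''ᵁ ⊤ := (f ⁻¹ᵁ V).ι_image_top.ge
  have h2 : j ''ᵁ ⊤ ≤ f ⁻¹ᵁ V := (f ⁻¹ᵁ V).ι_image_top.le
  exact ⟨{ toFun := fun s => (show Γ((Coh.push f).obj F, V) from rs F h1 s)
           map_add' := fun a b => map_add (F.presheaf.map (homOfLE h1).op).hom a b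
           map_smul' := fun a s => by
            show rs F h1 (show Γ(F, j ''ᵁ ⊤) from a • s) = f.app V a • rs F h1 s
            rw [sec_smul f hV F h2, rs_smul]
            congr 1
            show (f.appLE V _ h2 ≫ X.presheaf.map (homOfLE h1).op) a = f.app V a
            rw [Scheme.Hom.appLE_map, Scheme.Hom.appLE_eq_app]
           invFun := fun s => rs F h2 (show Γ(F, f ⁻¹ᵁ V) from s)
           left_inv := fun s => (rs_rs F h1 h2 _).trans (rs_self F _ _)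
           right_inv := fun s => (rs_rs F h2 h1 _).trans (rs_self F _ _) }⟩

/-- The sections of a twist, on the preimage of an affine open. -/
theorem nonempty_twistEquiv (F L : X.Modules) (d k : ℕ) :
    Nonempty (Sec (Coh.toGlobal (A := Γ(Y, V)) (fV f hV))
        (tw (FV f (V := V) F) (CohB1.tensorPow (L.restrict (f ⁻¹ᵁ V).ι) d) k) ⊤ ≃ₗ[Γ(Y, V)]
      Γ((Coh.push f).obj (CohB1.tensorMod F (CohB1.tensorPow L (d * k))), V)) := by
  obtain ⟨e⟩ := nonempty_tw_iso (FV f (V := V) F) (CohB1.tensorPow (L.restrict (f ⁻¹ᵁ V).ι) d) k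
  let e' := e ≪≫ tensorIso (Iso.refl _) (tensorPowMul _ d k ≪≫ tensorPowRestrict _ L (d * k)) ≪≫
    tensorRestrict (f ⁻¹ᵁ V).ι F (CohB1.tensorPow L (d * k))
  obtain ⟨e''⟩ := nonempty_push_equiv f hV (CohB1.tensorMod F (CohB1.tensorPow L (d * k)))
  exact ⟨(secIso _ e' ⊤).trans e''⟩

variable [IsProper f] [IsLocallyNoetherian Y]

/-- Locally free direct images of large twists force flatness. -/
theorem isFlatOver_of_locFree {F : X.Modules} (hF : Coh.IsCoh F) {L : X.Modules}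
    (hamp : RelAmple.IsRelAmple f L) (hL : PicF.IsInvertible L) (n₀ : ℕ)
    (h : ∀ n, n₀ ≤ n → FlatMod.IsFinLocFree ((Coh.push f).obj (CohB1.tensorMod F (CohB1.tensorPow L n)))) :
    FlatMod.IsFlatOver f F := by
  haveI : Coh.IsQCoh F := hF.1
  haveI : IsLocallyNoetherian X := LocallyOfFiniteType.isLocallyNoetherian f
  intro x
  obtain ⟨_, ⟨V, hV, rfl⟩, hxV, -⟩ := Y.isBasis_affineOpens.exists_subset_of_mem_open (Set.mem_univ (f x)) isOpen_univ
  obtain ⟨hL', hc, hs⟩ := hamp.2 ⟨V, hV⟩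
  haveI := hc
  haveI : (↑(f ⁻¹ᵁ V) : Scheme.{u}).IsSeparated := Groth.L18.Ample.isSeparated_of_isAmple (hamp.2 ⟨V, hV⟩)
  haveI : Coh.IsQCoh (FV f (V := V) F) := (isCoh_FV (V := V) f hF).1
  obtain ⟨m, s, hxs, haff⟩ := hs ⟨x, hxV⟩
  let ρ := Coh.toGlobal (A := Γ(Y, V)) (fV f hV)
  haveI : Module.Flat Γ(Y, V) (Sec ρ (FV f (V := V) F) (CohB1.genLocus _ s)) := by
    refine TwistFrame.flat_genLocus ρ (isInvertible_tensorPow hL' (m + 1)) s n₀ fun k hk => ?_
    obtain ⟨e⟩ := nonempty_twistEquiv f hV F L (m + 1) k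
    have hfree := h ((m + 1) * k) (hk.trans (Nat.le_mul_of_pos_left k (Nat.succ_pos m)))
    haveI := (Groth.L03.Euler.isCoh_tensor (isInvertible_tensorPow hL ((m + 1) * k)) hF).1
    haveI : Coh.IsQCoh ((Coh.push f).obj (CohB1.tensorMod F (CohB1.tensorPow L ((m + 1) * k)))) :=
      Groth.L16.QcqsPush.isQCoh_push _ f
    haveI := Groth.L18.LFP.flat_sections _ (Groth.L29.DC.isFlat_of_isFinLocFree hfree) hV
    exact Module.Flat.of_linearEquiv e
  let G := (f ⁻¹ᵁ V).ι ''ᵁ CohB1.genLocus _ s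
  have hG : IsAffineOpen G := haff.image_of_isOpenImmersion _
  have hGV : G ≤ f ⁻¹ᵁ V := (Scheme.Hom.image_le_opensRange _ _).trans_eq (f ⁻¹ᵁ V).opensRange_ι
  have hxG : x ∈ G := ⟨⟨x, hxV⟩, hxs, rfl⟩
  rw [Groth.L20.ModStalk.isFlatOverAt_iff f F hV hG hGV hxG]
  letI : Algebra Γ(Y, V) Γ(X, G) := (f.appLE V G hGV).hom.toAlgebra
  letI : Module Γ(Y, V) Γ(F, G) := Module.compHom Γ(F, G) (f.appLE V G hGV).hom
  haveI : IsScalarTower Γ(Y, V) Γ(X, G) Γ(F, G) := IsScalarTower.of_algebraMap_smul fun _ _ => rfl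
  let e : Sec ρ (FV f (V := V) F) (CohB1.genLocus _ s) ≃ₗ[Γ(Y, V)] Γ(F, G) :=
    { (AddEquiv.refl Γ(F, G)) with map_smul' := fun a t => sec_smul f hV F hGV a t }
  haveI : Module.Flat Γ(Y, V) Γ(F, G) := Module.Flat.of_linearEquiv e.symm
  refine Groth.L20.flat_localizedModule_of_forall _ fun J z hz => ⟨1, one_mem _, ?_⟩
  rw [one_smul]
  exact (injective_iff_map_eq_zero _).1
    (Module.Flat.lTensor_preserves_injective_linearMap _ Subtype.val_injective) z hz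

theorem exists_isZero_Rpush_chart [HasInjectiveResolutions X.Modules] {F : X.Modules} (hF : Coh.IsCoh F)
    {L : X.Modules} (hamp : RelAmple.IsRelAmple f L) (hL : PicF.IsInvertible L) :
    ∃ n₀ : ℕ, ∀ n, n₀ ≤ n → ∀ i : ℕ, 0 < i →
      IsZero (((Coh.Rpush f i).obj (CohB1.tensorMod F (CohB1.tensorPow L n))).restrict hV.fromSpec) := by
  haveI : IsNoetherianRing Γ(Y, V) := IsLocallyNoetherian.component_noetherian ⟨V, hV⟩
  haveI : IsLocallyNoetherian X := LocallyOfFiniteType.isLocallyNoetherian f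
  let XV : Scheme.{u} := ↑(f ⁻¹ᵁ V)
  letI : XV.Over (Spec (CommRingCat.of Γ(Y, V))) := ⟨fV f hV⟩
  haveI : IsProper (XV ↘ Spec (CommRingCat.of Γ(Y, V))) := inferInstanceAs (IsProper (fV f hV))
  haveI := PushQCoh.hasInjectiveResolutions XV
  obtain ⟨n₀, hn₀⟩ := Groth.L16.Existence.exists_vanishing_of_isAmple (A := Γ(Y, V)) (X := XV)
    (hamp.2 ⟨V, hV⟩) (M := FV f (V := V) F) (isCoh_FV (V := V) f hF)
  refine ⟨n₀, fun n hn i hi => ?_⟩
  let Fn := CohB1.tensorMod F (CohB1.tensorPow L n)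
  have hFn : Coh.IsCoh Fn := Groth.L03.Euler.isCoh_tensor (isInvertible_tensorPow hL n) hF
  haveI : Coh.IsQCoh (FV f (V := V) Fn) := (isCoh_FV (V := V) f hFn).1
  have hsub : Subsingleton (Coh.HH XV (FV f (V := V) Fn) i) :=
    Groth.L16.ProjSpace.subsingleton_of_iso ((tensorRestrict (f ⁻¹ᵁ V).ι F (CohB1.tensorPow L n)).symm ≪≫
      tensorIso (Iso.refl _) (tensorPowRestrict _ L n).symm ≪≫ tensorComm _ _) i (hn₀ n hn i hi)
  obtain ⟨e⟩ := PushQCoh.nonempty_Rpush_restrict_iso f hV.fromSpec (f ⁻¹ᵁ V).ι (fV f hV)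
    (by rw [hV.opensRange_fromSpec, Scheme.Opens.opensRange_ι]) (fV_fromSpec f hV) Fn i
  haveI := PushQCoh.isQCoh_Rpush (fV f hV) (FV f (V := V) Fn) i
  letI : Module Γ(Y, V) (Coh.HH XV (FV f (V := V) Fn) i) := Module.compHom _ (Coh.toGlobal (A := Γ(Y, V)) (fV f hV))
  obtain ⟨e''⟩ := Groth.L17.ProperCoh.nonempty_Γ_Rpush_equiv (fV f hV) (FV f (V := V) Fn) i
  refine IsZero.of_iso ?_ (e ≪≫ (Groth.L18.TildeF.counitIso _).symm)
  refine (tilde.functor _).map_isZero ?_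
  exact @ModuleCat.isZero_of_subsingleton _ _ _ e''.symm.toEquiv.subsingleton

/-- Direct images of large twists of a flat module are locally free. -/
theorem exists_locFree_of_isFlatOver [CompactSpace Y] {F : X.Modules} (hF : Coh.IsCoh F) {L : X.Modules}
    (hamp : RelAmple.IsRelAmple f L) (hL : PicF.IsInvertible L) (hfl : FlatMod.IsFlatOver f F) :
    ∃ n₀ : ℕ, ∀ n, n₀ ≤ n →
      FlatMod.IsFinLocFree ((Coh.push f).obj (CohB1.tensorMod F (CohB1.tensorPow L n))) := by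
  haveI := PushQCoh.hasInjectiveResolutions X
  haveI : IsLocallyNoetherian X := LocallyOfFiniteType.isLocallyNoetherian f
  choose W hW hxW using fun y : Y => show ∃ W : Y.Opens, IsAffineOpen W ∧ y ∈ W by
    obtain ⟨_, ⟨W, hW, rfl⟩, hxW, -⟩ := Y.isBasis_affineOpens.exists_subset_of_mem_open (Set.mem_univ y) isOpen_univ
    exact ⟨W, hW, hxW⟩
  obtain ⟨T, hT⟩ := isCompact_univ.elim_finite_subcover (fun y : Y => (W y : Set Y)) (fun y => (W y).2)
    (fun y _ => Set.mem_iUnion.2 ⟨y, hxW y⟩)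
  choose n hn using fun i : T => exists_isZero_Rpush_chart f (hW i.1) hF hamp hL
  obtain ⟨N, hN⟩ := (Set.finite_range n).bddAbove
  refine ⟨N, fun k hk y => ?_⟩
  have hFk := Groth.L03.Euler.isCoh_tensor (isInvertible_tensorPow hL k) hF
  obtain ⟨U, hyU, hi⟩ := exists_free_push_of_vanish f (F := CohB1.tensorMod F (CohB1.tensorPow L k))
    (fun i hi => Groth.L21.Mod.isZero_of_restrict (fun t : T => (hW t.1).fromSpec) (fun z => by
      obtain ⟨z', hz', hzz⟩ := Set.mem_iUnion₂.1 (hT (Set.mem_univ z))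
      exact ⟨⟨z', hz'⟩, (hW z').opensRange_fromSpec.ge hzz⟩) _ fun t => hn t k ((hN ⟨t, rfl⟩).trans hk) i hi)
    hFk (isFlatOver_tensor f F _ hF (isInvertible_tensorPow hL k) hfl) y
  exact ⟨U, _, hyU, hi⟩

end Groth.L17.BC.FlatCrit
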