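import Groth.Agent.L16.CechEndo

/-!
# The comparison of Čech and derived cohomology, natural in the sheaf
-/

universe u

open CategoryTheory CategoryTheory.Limits CategoryTheory.Abelian Opposite

set_option backward.defeqAttrib.useBackward true
set_option backward.isDefEq.respectTransparency false
set_option linter.style.haveILetI false

namespace Groth.L17.BC.CechNat

open Groth.L10 Groth.L10.SiteCoh Groth.L10.Cech Groth.L16.CechEndo

variable {E : Type u} [Category.{u} E] [HasFiniteProducts E] {C : Type u} [SmallCategory C]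
  {J : GrothendieckTopology C} {π : E ⥤ C} {ι : Type u} {Y : ι → E} {B : C} {b : ∀ i, π.obj (Y i) ⟶ B}

/-- Vanishing of higher cohomology on the members of the nerve. -/
def Acyc (π : E ⥤ C) (Y : ι → E) (F : Sheaf J AddCommGrpCat.{u}) : Prop :=
  ∀ (n : ℕ) (a : Fin (n+1) → ι) (q : ℕ), Subsingleton (Ext (fs J (π.obj (tup Y a))) F (q+1))

theorem acyc_X₃ {F : Sheaf J AddCommGrpCat.{u}} (hF : Acyc π Y F) : Acyc π Y (hull F).X₃ := fun n a q => by
  have := hF n a (q+1); exact subsingleton_ext_quot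

theorem shortExact_scx_hull {F : Sheaf J AddCommGrpCat.{u}} (hF : Acyc π Y F) :
    (scx π Y (hull F)).ShortExact :=
  scx_shortExact (hull_shortExact F) (show SurjTup π Y (hull F).g from fun n a => by
    have := hF n a 0
    exact surjective_sections_of_subsingleton (hull_shortExact F) _)

variable {F G : Sheaf J AddCommGrpCat.{u}}

/-- A morphism of sheaves extends to the hull sequences. -/
theorem exists_hull_hom (φ : F ⟶ G) : ∃ τ : hull F ⟶ hull G, τ.τ₁ = φ := by
  have hS := hull_shortExact F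
  have hT := hull_shortExact G
  haveI : Mono (hull F).f := hS.mono_f
  exact ⟨{ τ₁ := φ
           τ₂ := Injective.factorThru (φ ≫ (hull G).f) (hull F).f
           τ₃ := hS.gIsCokernel.desc (CokernelCofork.ofπ
            (Injective.factorThru (φ ≫ (hull G).f) (hull F).f ≫ (hull G).g) (by
              rw [Injective.comp_factorThru_assoc, Category.assoc, (hull G).zero, comp_zero]))
           comm₁₂ := (Injective.comp_factorThru _ _).symm
           comm₂₃ := (hS.gIsCokernel.fac (CokernelCofork.ofπ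
            (Injective.factorThru (φ ≫ (hull G).f) (hull F).f ≫ (hull G).g) (by
              rw [Injective.comp_factorThru_assoc, Category.assoc, (hull G).zero, comp_zero]))
            WalkingParallelPair.one).symm }, rfl⟩

theorem δ_nat (hC : (scx π Y (hull F)).ShortExact) (hC' : (scx π Y (hull G)).ShortExact) (τ : hull F ⟶ hull G)
    (p : ℕ) (x : (cx π Y (hull F).X₃.obj).homology p) :
    HomologicalComplex.homologyMap (cxMap (π := π) (Y := Y) τ.τ₁.hom) (p+1)
      (hC.δ p (p+1) (by simp) x) =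
      hC'.δ p (p+1) (by simp) (HomologicalComplex.homologyMap (cxMap (π := π) (Y := Y) τ.τ₃.hom) p x) :=
  let τc : scx π Y (hull F) ⟶ scx π Y (hull G) :=
    ShortComplex.homMk (cxMap τ.τ₁.hom) (cxMap τ.τ₂.hom) (cxMap τ.τ₃.hom)
      ((cxMap_comp _ _).trans ((congrArg (fun z : (hull F).X₁ ⟶ (hull G).X₂ => cxMap z.hom) τ.comm₁₂).trans
        (cxMap_comp _ _).symm))
      ((cxMap_comp _ _).trans ((congrArg (fun z : (hull F).X₂ ⟶ (hull G).X₃ => cxMap z.hom) τ.comm₂₃).trans
        (cxMap_comp _ _).symm))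
  congr($(HomologicalComplex.HomologySequence.δ_naturality τc hC hC' p (p+1) (by simp)) x)

variable (hN : IsNerve π Y b) (hcov : Sieve.ofArrows (fun i => π.obj (Y i)) b ∈ J B)

/-- A natural family of comparisons in degree `p`. -/
structure Comp (J : GrothendieckTopology C) (π : E ⥤ C) (Y : ι → E) (B : C) (p : ℕ) where
  /-- the comparison -/
  equiv : ∀ (F : Sheaf J AddCommGrpCat.{u}), Acyc π Y F → ((cx π Y F.obj).homology p ≃+ Ext (fs J B) F p)
  nat : ∀ {F G : Sheaf J AddCommGrpCat.{u}} (hF : Acyc π Y F) (hG : Acyc π Y G) (φ : F ⟶ G) x,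
    equiv G hG (HomologicalComplex.homologyMap (cxMap (π := π) (Y := Y) φ.hom) p x) =
      (equiv F hF x).comp (Ext.mk₀ φ) (add_zero p)

omit hN in
theorem acyc_X₂ (F : Sheaf J AddCommGrpCat.{u}) : Acyc π Y (hull F).X₂ := fun n a q => by
  have := injective_obj (hull F).X₂
  exact Ext.subsingleton_of_injective _ _ q

theorem δ_eq_zero_iff {p : ℕ} (c : Comp J π Y B p) {F : Sheaf J AddCommGrpCat.{u}} (hF : Acyc π Y F)
    (x : (cx π Y (hull F).X₃.obj).homology p) :
    (shortExact_scx_hull hF).δ p (p+1) (by simp) x = 0 ↔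
      (c.equiv _ (acyc_X₃ hF) x).comp (hull_shortExact F).extClass rfl = 0 := by
  have hS := hull_shortExact F
  have hC := shortExact_scx_hull (π := π) (Y := Y) hF
  constructor
  · intro h
    have h3 := hC.homology_exact₃ p (p+1) (by simp)
    rw [ShortComplex.ab_exact_iff] at h3
    obtain ⟨w, hw⟩ := h3 x h
    refine (congrArg (fun z => (c.equiv _ (acyc_X₃ hF) z).comp hS.extClass rfl) hw.symm).trans ?_
    refine (congrArg (fun z => Ext.comp z hS.extClass rfl)
      (c.nat (acyc_X₂ F) (acyc_X₃ hF) (hull F).g w)).trans ?_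
    rw [Ext.comp_assoc_of_second_deg_zero, hS.comp_extClass, Ext.comp_zero]
  · intro h
    obtain ⟨y, hy⟩ := Ext.covariant_sequence_exact₃ _ hS _ rfl h
    obtain ⟨w, rfl⟩ := (c.equiv _ (acyc_X₂ F)).surjective y
    rw [← (c.equiv _ (acyc_X₃ hF)).injective ((c.nat (acyc_X₂ F) (acyc_X₃ hF) (hull F).g w).trans hy)]
    exact congr($(hC.comp_δ p (p+1) (by simp)) w)

include hN hcov in
/-- Natural comparisons exist in every degree. -/
theorem nonempty_comp (p : ℕ) : Nonempty (Comp J π Y B p) := by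
  induction p with
  | zero => exact ⟨⟨fun F _ => equiv₀ hN hcov F, fun _ _ φ x => equiv₀_natural hN hcov φ x⟩⟩
  | succ p ih =>
    obtain ⟨c⟩ := ih
    have step : ∀ (F : Sheaf J AddCommGrpCat.{u}) (hF : Acyc π Y F),
        ∃ e : (cx π Y F.obj).homology (p+1) ≃+ Ext (fs J B) F (p+1), ∀ x,
          e ((shortExact_scx_hull hF).δ p (p+1) (by simp) x) =
            (c.equiv _ (acyc_X₃ hF) x).comp (hull_shortExact F).extClass rfl := by
      intro F hF
      have hS := hull_shortExact F
      have hsurj2 : Function.Surjective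
          ((hS.extClass.postcomp (fs J B) (rfl : p + 1 = p + 1)).comp (c.equiv _ (acyc_X₃ hF)).toAddMonoidHom) :=
        fun y => by
        have : Subsingleton (Ext (fs J B) (hull F).X₂ (p+1)) := Ext.subsingleton_of_injective _ _ p
        obtain ⟨z, hz⟩ := postcomp_extClass_surjective (fs J B) hS p y
        exact ⟨(c.equiv _ (acyc_X₃ hF)).symm z, (congrArg _ ((c.equiv _ (acyc_X₃ hF)).apply_symm_apply z)).trans hz⟩
      exact exists_addEquiv_of_ker_eq ((shortExact_scx_hull hF).δ p (p+1) (by simp)).hom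
        ((hS.extClass.postcomp (fs J B) (rfl : p + 1 = p + 1)).comp (c.equiv _ (acyc_X₃ hF)).toAddMonoidHom)
        (surjective_δ hN _ p) hsurj2 (by ext x; exact δ_eq_zero_iff c hF x)
    choose e he using step
    refine ⟨⟨e, fun {F G} hF hG φ y => ?_⟩⟩
    obtain ⟨x, rfl⟩ := surjective_δ hN (shortExact_scx_hull hF) p y
    obtain ⟨τ, rfl⟩ := exists_hull_hom φ
    refine (congrArg (e G hG) (δ_nat (shortExact_scx_hull hF) (shortExact_scx_hull hG) τ p x)).trans
      ((he G hG _).trans ?_)
    refine Eq.trans ?_ (congrArg (fun z => Ext.comp z (Ext.mk₀ τ.τ₁) (add_zero (p+1))) (he F hF x)).symm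
    rw [c.nat (acyc_X₃ hF) (acyc_X₃ hG), Ext.comp_assoc_of_second_deg_zero, Ext.comp_assoc_of_third_deg_zero]
    exact congrArg (fun r => Ext.comp (c.equiv _ (acyc_X₃ hF) x) r (rfl : p + 1 = p + 1))
      (ShortComplex.ShortExact.extClass_naturality (hull_shortExact F) (hull_shortExact G) τ).symm

end Groth.L17.BC.CechNat

namespace Groth.L17.BC.CechNat

open AlgebraicGeometry TopologicalSpace

/-- Čech cohomology of an affine cover is the cohomology, naturally in the module. -/
theorem exists_cechH_HH_natural {X : Scheme.{u}} {ι : Type u} (U : ι → X.Opens) (hU : ⨆ i, U i = ⊤)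
    (haff : ∀ (n : ℕ) (a : Fin (n + 1) → ι), IsAffineOpen (⨅ k, U (a k))) (p : ℕ) :
    ∃ e : ∀ (M : X.Modules), Coh.IsQCoh M → (↑(CohB1.cechH U M p) ≃+ Coh.HH X M p),
      ∀ {M N : X.Modules} (hM : Coh.IsQCoh M) (hN : Coh.IsQCoh N) (φ : Coh.toAb M ⟶ Coh.toAb N) x,
        e N hN (HomologicalComplex.homologyMap
          (Groth.L10.Cech.cxMap (π := 𝟭 _) (Y := U) φ.hom) p x) = Sheaf.H.map φ p (e M hM x) := by
  obtain ⟨c⟩ := nonempty_comp (Groth.L10.Cech.isNerve_opens (X := X.toTopCat) U)
    (Groth.L10.Cech.cover_opens (X := X.toTopCat) U) p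
  have hac : ∀ (M : X.Modules), Coh.IsQCoh M → Acyc (𝟭 (Opens X.toTopCat)) U (Coh.toAb M) :=
    fun M hM n a q => (Groth.L10.Cech.tup_eq_iInf (X := X.toTopCat) U a).symm ▸
      subsingleton_of_forall_eq 0 (haveI : Coh.IsQCoh M := hM; Groth.L17.hu_affine_eq_zero M (haff n a) q)
  have hnat : ∀ V, V = (⊤ : Opens X.toTopCat) → ∃ h : ∀ M : X.Modules,
      Groth.L17.HU (X := X.toTopCat) V (Coh.toAb M) p ≃+ Coh.HH X M p,
      ∀ (M N : X.Modules) (φ : Coh.toAb M ⟶ Coh.toAb N) x,
        h N (x.comp (Ext.mk₀ φ) (add_zero p)) = Sheaf.H.map φ p (h M x) := by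
    rintro V rfl
    refine ⟨fun M => (Groth.L17.hTopEquiv (X := X.toTopCat) (Coh.toAb M) p).symm, fun M N φ x => ?_⟩
    exact (Ext.comp_assoc_of_third_deg_zero _ _ _ (zero_add p)).symm
  obtain ⟨h, hh⟩ := hnat _ hU
  exact ⟨fun M hM => (c.equiv _ (hac M hM)).trans (h M),
    fun hM hN φ x => (congrArg (h _) (c.nat (hac _ hM) (hac _ hN) φ x)).trans (hh _ _ φ _)⟩

end Groth.L17.BC.CechNat
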