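import Groth.Agent.L17.BC.Cochains
import Groth.Agent.L17.BC.CechNat
import Groth.Prelude.Def_ega3

/-!
# Cohomology as homology of the Čech complex of `A`-modules, naturally in the sheaf
-/

set_option autoImplicit false
set_option linter.style.haveILetI false
set_option linter.unusedSectionVars false
set_option backward.isDefEq.respectTransparency false

universe u

open CategoryTheory CategoryTheory.Limits AlgebraicGeometry TopologicalSpace Opposite

noncomputable section

namespace Groth.L17.BC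

open Groth.L18.Frame (rs rs_rs rs_self)

variable {X : Scheme.{u}} {A : Type u} [CommRing A] (ρ : A →+* Coh.Γtop X) {ι : Type u} (U : ι → X.Opens)

/-- The map of Čech complexes induced by a morphism of modules. -/
def mapK {M N : X.Modules} (φ : M ⟶ N) : K ρ M U ⟶ K ρ N U where
  f i := ModuleCat.ofHom (Cochains.mapC ρ U φ i)
  comm' i j _ := ModuleCat.hom_ext (LinearMap.ext fun z => (Cochains.mapC_d ρ U φ i j z).symm)

theorem eC_natural {M N : X.Modules} (φ : M ⟶ N) (n : ℕ) (x : (cxAb M U).X n) :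
    eC ρ N U n ((Groth.L10.Cech.cxMap (π := 𝟭 _) (Y := U) ((SheafOfModules.toSheaf X.ringCatSheaf).map φ).hom).f n x) =
      Cochains.mapC ρ U φ (n : ℤ) (eC ρ M U n x) := by
  funext a
  rw [Cochains.mapC_apply]
  show rs N _ (coT N U (tupOf a) _) = φ.app _ (rs M _ (coT M U (tupOf a) x))
  rw [Cochains.app_rs φ]
  exact congrArg (rs N _) (Groth.L10.Cech.co_map _ _ _)

/-- The classes of the two Čech complexes agree. -/
theorem exists_cls_equiv (F : X.Modules) (p : ℕ) :
    ∃ E : ((cxAb F U).homology p : Type u) ≃+ ((K ρ F U).homology (p : ℤ) : Type u),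
      ∀ (z : (cxAb F U).cycles p) (w : (K ρ F U).cycles (p : ℤ)),
        (K ρ F U).iCycles (p : ℤ) w = eC ρ F U p ((cxAb F U).iCycles p z) →
          E ((cxAb F U).homologyπ p z) = (K ρ F U).homologyπ (p : ℤ) w := by
  let Kc := K ρ F U
  have hn : (ComplexShape.up ℤ).next (p : ℤ) = ((p : ℤ) + 1) := CochainComplex.next _ _
  have hi : ∀ z, (cxAb F U).d p (p + 1) ((cxAb F U).iCycles p z) = 0 := fun z => by
    rw [← ConcreteCategory.comp_apply, (cxAb F U).iCycles_d p (p + 1)]; rfl
  have hx : ∀ z, Kc.d (p : ℤ) ((p : ℤ) + 1) (eC ρ F U p ((cxAb F U).iCycles p z)) = 0 := fun z => by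
    refine (K_d ρ F U _ _).trans ((eC_d ρ F U p _).symm.trans ?_)
    rw [hi]
    exact map_zero _
  choose w hw using fun z => Groth.L28.HomElt.exists_cycle (K := Kc) hn _ (hx z)
  have hinj := Groth.L28.HomElt.iCycles_injective Kc (p : ℤ)
  let w' : (cxAb F U).cycles p →+ Kc.homology (p : ℤ) :=
    AddMonoidHom.mk' (fun z => Kc.homologyπ (p : ℤ) (w z)) fun z z' => by
      rw [← map_add]
      refine congrArg _ (hinj ?_)
      rw [map_add, hw, hw, hw, map_add]
      exact map_add (eC ρ F U p) _ _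
  have hq : Function.Surjective ((cxAb F U).homologyπ p).hom := (AddCommGrpCat.epi_iff_surjective _).1 inferInstance
  have hiA : Function.Injective ((cxAb F U).iCycles p) := (AddCommGrpCat.mono_iff_injective _).1 inferInstance
  have hex₁ : ∀ y : (cxAb F U).X p, (cxAb F U).d p (p + 1) y = 0 → ∃ z, (cxAb F U).iCycles p z = y := by
    intro y hy
    have h := ShortComplex.exact_of_f_is_kernel
      (ShortComplex.mk ((cxAb F U).iCycles p) ((cxAb F U).d p (p + 1)) ((cxAb F U).iCycles_d p _))
      ((cxAb F U).cyclesIsKernel p (p + 1) (by simp))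
    exact (ShortComplex.ab_exact_iff _).1 h y hy
  have hsurj : Function.Surjective w' := fun h => by
    obtain ⟨zK, rfl⟩ := Groth.L28.HomElt.homologyπ_surjective Kc (p : ℤ) h
    obtain ⟨y, hy⟩ := (eC ρ F U p).surjective (Kc.iCycles (p : ℤ) zK)
    have hy0 : (cxAb F U).d p (p + 1) y = 0 := by
      apply (eC ρ F U (p + 1)).injective
      rw [map_zero]
      refine (eC_d ρ F U p y).trans ?_
      rw [hy]
      exact (K_d ρ F U _ _).symm.trans (Groth.L28.HomElt.d_iCycles (K := Kc) _ _ zK)
    obtain ⟨z, hz⟩ := hex₁ y hy0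
    refine ⟨z, ?_⟩
    show Kc.homologyπ (p : ℤ) (w z) = Kc.homologyπ (p : ℤ) zK
    refine congrArg _ (hinj ?_)
    rw [hw, hz, hy]
  have hex₂ : ∀ z, (cxAb F U).homologyπ p z = 0 ↔ Kc.homologyπ (p : ℤ) (w z) = 0 := by
    intro z
    have hA := ShortComplex.exact_of_g_is_cokernel
      (ShortComplex.mk ((cxAb F U).toCycles ((ComplexShape.up ℕ).prev p) p) ((cxAb F U).homologyπ p)
        ((cxAb F U).toCycles_comp_homologyπ _ p))
      ((cxAb F U).homologyIsCokernel _ p rfl)
    rw [Groth.L28.HomElt.π_eq_zero_iff (K := Kc) (i := (p : ℤ) - 1) (CochainComplex.prev _ _)]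
    constructor
    · intro h
      obtain ⟨y, hy⟩ := (ShortComplex.ab_exact_iff _).1 hA z h
      cases p with
      | zero =>
        refine ⟨0, ?_⟩
        rw [map_zero, hw]
        have hd : (cxAb F U).d ((ComplexShape.up ℕ).prev 0) 0 = 0 := (cxAb F U).shape _ _ (by simp)
        have : (cxAb F U).iCycles 0 z = 0 := by
          rw [← hy]
          show ((cxAb F U).toCycles _ 0 ≫ (cxAb F U).iCycles 0) y = 0
          rw [(cxAb F U).toCycles_i, hd]; rfl
        rw [this]
        exact (map_zero _).symm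
      | succ n =>
        have hp : (ComplexShape.up ℕ).prev (n + 1) = n := CochainComplex.prev_nat_succ n
        revert y
        rw [hp]
        intro y hy
        have hcast : ((n + 1 : ℕ) : ℤ) - 1 = (n : ℤ) := by omega
        rw [hcast]
        refine ⟨eC ρ F U n y, ?_⟩
        rw [hw, ← hy]
        refine (K_d ρ F U _ _).trans ((eC_d ρ F U n y).symm.trans ?_)
        show eC ρ F U (n + 1) _ = eC ρ F U (n + 1) (((cxAb F U).toCycles n (n + 1) ≫ (cxAb F U).iCycles (n + 1)) y)
        rw [(cxAb F U).toCycles_i]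
    · rintro ⟨y, hy⟩
      cases p with
      | zero =>
        haveI : Subsingleton (Kc.X (((0 : ℕ) : ℤ) - 1)) := subsingleton_C ρ F U (i := ((0 : ℕ) : ℤ) - 1) (by omega)
        rw [Subsingleton.elim y 0, map_zero, hw] at hy
        have : (cxAb F U).iCycles 0 z = 0 := (eC ρ F U 0).injective (hy.symm.trans (map_zero _).symm)
        rw [hiA (this.trans (map_zero _).symm), map_zero]
      | succ n =>
        have hcast : ((n + 1 : ℕ) : ℤ) - 1 = (n : ℤ) := by omega
        revert y
        rw [hcast]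
        intro y hy
        obtain ⟨y', rfl⟩ := (eC ρ F U n).surjective y
        have hy' : (cxAb F U).d n (n + 1) y' = (cxAb F U).iCycles (n + 1) z := by
          apply (eC ρ F U (n + 1)).injective
          rw [eC_d, ← hw]
          exact (K_d ρ F U _ _).symm.trans hy
        have : (cxAb F U).toCycles n (n + 1) y' = z := hiA (by
          rw [← ConcreteCategory.comp_apply, (cxAb F U).toCycles_i]; exact hy')
        rw [← this, ← ConcreteCategory.comp_apply, (cxAb F U).toCycles_comp_homologyπ]; rfl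
  obtain ⟨E, hE⟩ := Groth.L16.CechEndo.exists_addEquiv_of_ker_eq ((cxAb F U).homologyπ p).hom w' hq hsurj (by
    ext z
    rw [AddMonoidHom.mem_ker, AddMonoidHom.mem_ker]
    exact hex₂ z)
  exact ⟨E, fun z v hv => (hE z).trans (congrArg (Kc.homologyπ (p : ℤ)) (hinj ((hw z).trans hv.symm)) :)⟩

/-- Cohomology is the homology of the Čech complex, naturally in the module. -/
theorem exists_HH_K_natural (hU : ⨆ i, U i = ⊤)
    (haff : ∀ (n : ℕ) (a : Fin (n + 1) → ι), IsAffineOpen (⨅ k, U (a k))) (p : ℕ) :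
    ∃ e : ∀ (M : X.Modules), Coh.IsQCoh M → (((K ρ M U).homology (p : ℤ) : Type u) ≃+ Coh.HH X M p),
      ∀ {M N : X.Modules} (hM : Coh.IsQCoh M) (hN : Coh.IsQCoh N) (φ : M ⟶ N) x,
        e N hN (HomologicalComplex.homologyMap (mapK ρ U φ) (p : ℤ) x) = (CohIII.HAb X p).map φ (e M hM x) := by
  obtain ⟨e, he⟩ := CechNat.exists_cechH_HH_natural U hU haff p
  choose E hE using fun M : X.Modules => exists_cls_equiv ρ U M p
  refine ⟨fun M hM => (E M).symm.trans (e M hM), fun {M N} hM hN φ x => ?_⟩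
  obtain ⟨y, rfl⟩ := (E M).surjective x
  obtain ⟨z, rfl⟩ := (AddCommGrpCat.epi_iff_surjective ((cxAb M U).homologyπ p)).1 inferInstance y
  let ψ := Groth.L10.Cech.cxMap (π := 𝟭 _) (Y := U) ((SheafOfModules.toSheaf X.ringCatSheaf).map φ).hom
  obtain ⟨w, hw⟩ := Groth.L28.HomElt.exists_cycle (K := K ρ M U) (CochainComplex.next ℤ (p : ℤ))
    (eC ρ M U p ((cxAb M U).iCycles p z)) (by
      refine (K_d ρ M U _ _).trans ((eC_d ρ M U p _).symm.trans ?_)
      rw [← ConcreteCategory.comp_apply, (cxAb M U).iCycles_d p (p + 1)]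
      exact map_zero _)
  have hEw := hE M z w hw
  have hEN : E N (HomologicalComplex.homologyMap ψ p ((cxAb M U).homologyπ p z)) =
      HomologicalComplex.homologyMap (mapK ρ U φ) (p : ℤ) ((K ρ M U).homologyπ (p : ℤ) w) := by
    have h1 : HomologicalComplex.homologyMap ψ p ((cxAb M U).homologyπ p z) =
        (cxAb N U).homologyπ p (HomologicalComplex.cyclesMap ψ p z) :=
      congr($(HomologicalComplex.homologyπ_naturality ψ p) z)
    have h2 : HomologicalComplex.homologyMap (mapK ρ U φ) (p : ℤ) ((K ρ M U).homologyπ (p : ℤ) w) =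
        (K ρ N U).homologyπ (p : ℤ) (HomologicalComplex.cyclesMap (mapK ρ U φ) (p : ℤ) w) :=
      congr($(HomologicalComplex.homologyπ_naturality (mapK ρ U φ) (p : ℤ)) w)
    have h3 : (cxAb N U).iCycles p (HomologicalComplex.cyclesMap ψ p z) = ψ.f p ((cxAb M U).iCycles p z) :=
      congr($(HomologicalComplex.cyclesMap_i ψ p) z)
    have h4 : (K ρ N U).iCycles (p : ℤ) (HomologicalComplex.cyclesMap (mapK ρ U φ) (p : ℤ) w) =
        Cochains.mapC ρ U φ (p : ℤ) ((K ρ M U).iCycles (p : ℤ) w) :=
      congr($(HomologicalComplex.cyclesMap_i (mapK ρ U φ) (p : ℤ)) w)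
    refine (congrArg (E N) h1).trans ((hE N _ _ ?_).trans h2.symm)
    refine h4.trans ((congrArg (Cochains.mapC ρ U φ (p : ℤ)) hw).trans ?_)
    exact (eC_natural ρ U φ p _).symm.trans (congrArg (eC ρ N U p) h3.symm)
  show e N hN ((E N).symm _) = (CohIII.HAb X p).map φ (e M hM ((E M).symm _))
  rw [AddEquiv.symm_apply_apply, hEw, ← hEN, AddEquiv.symm_apply_apply]
  exact he hM hN _ _

end Groth.L17.BC
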