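import Groth.Agent.L17.BC.HAbK
import Groth.Agent.L17.BC.Model
import Groth.Agent.L01.FlatCx.Compare
import Groth.Agent.L01.FlatCx.Fun
import Groth.Agent.L00.TensorColim
import Groth.Agent.L00.TensorQCoh
import Groth.Agent.L16.Rees.SmulMod
import Groth.Agent.L29.LocFree
import Groth.Agent.L18.TildeFunctor

/-!
# `M ↦ H^p(X, f^*M~ ⊗ F)` is the homology of a complex tensored with `M`
-/

set_option autoImplicit false
set_option linter.style.haveILetI false
set_option linter.unusedSectionVars false
set_option backward.isDefEq.respectTransparency false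

universe u

open CategoryTheory CategoryTheory.Limits MonoidalCategory AlgebraicGeometry TopologicalSpace Opposite
open scoped TensorProduct

noncomputable section

namespace Groth.L17.BC.TensorA

open Groth.L18.Frame (rs ro rs_rs rs_self rs_smul ro_ro ro_self)
open Formal (smulModΓ smulMod)
open Groth.L01.FlatCx (tMap tMap_tmul)

section Scalars

variable {X Y : Scheme.{u}}

theorem pullback_smulModΓ (f : X ⟶ Y) (M : Y.Modules) (r : Coh.Γtop Y) :
    (Scheme.Modules.pullback f).map (smulModΓ M r) =
      smulModΓ ((Scheme.Modules.pullback f).obj M) (f.appTop r) := by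
  let adj := Scheme.Modules.pullbackPushforwardAdjunction f
  refine (adj.homEquiv _ _).injective ?_
  rw [Adjunction.homEquiv_unit, Adjunction.homEquiv_unit]
  show adj.unit.app M ≫ (Coh.push f).map _ = adj.unit.app M ≫ (Coh.push f).map _
  rw [← Groth.L16.Rees.smulModΓ_push f]
  exact (adj.unit.naturality (smulModΓ M r)).symm.trans (Groth.L16.Rees.smulModΓ_naturality (adj.unit.app M) r)

theorem tilde_smul {R : CommRingCat.{u}} (a : R) (N : ModuleCat.{u} R) :
    (tilde.functor R).map (a • 𝟙 N) = smulModΓ (tilde N) ((Scheme.ΓSpecIso R).inv a) := by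
  refine (tilde.adjunction.homEquiv _ _).injective ?_
  rw [Adjunction.homEquiv_unit, Adjunction.homEquiv_unit]
  ext m
  show (tilde.map (a • 𝟙 N)).app ⊤ (tilde.toOpen N ⊤ m) =
    (smulModΓ (tilde N) ((Scheme.ΓSpecIso R).inv a)).app ⊤ (tilde.toOpen N ⊤ m)
  rw [Groth.L16.Rees.smulModΓ_app]
  refine Eq.trans ?_ (congrArg (fun c : Γ(Spec R, ⊤) => c • (show Γ(tilde N, ⊤) from tilde.toOpen N ⊤ m))
    (ro_self le_rfl ((Scheme.ΓSpecIso R).inv a))).symm
  exact (congr($(tilde.toOpen_map_app (a • 𝟙 N) ⊤) m)).trans ((tilde.toOpen N ⊤).hom.map_smul a m)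

theorem tensor_smulModΓ (F M : X.Modules) (r : Coh.Γtop X) :
    (DCoh.tensorRightMod F).map (smulModΓ M r) = smulModΓ ((DCoh.tensorRightMod F).obj M) r := by
  let adj := Groth.L00.Tensor.shfAdj X
  refine (adj.homEquiv _ _).injective ?_
  rw [Adjunction.homEquiv_unit, Adjunction.homEquiv_unit]
  let P : CohB1.PMod X := (DCoh.toP.obj M) ⊗ CohB1.toPMod F
  let μ : P ⟶ P := (DCoh.toP.map (smulModΓ M r)) ▷ CohB1.toPMod F
  refine (adj.unit.naturality μ).symm.trans ?_
  refine PresheafOfModules.hom_ext fun U => ?_
  ext t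
  have hμ : μ.app U t = (show Γ(X, U.unop) from Coh.resTop X U r) • t := by
    induction t using TensorProduct.induction_on with
    | zero => rw [map_zero, smul_zero]
    | add a b ha hb => rw [map_add, ha, hb, smul_add]
    | tmul m n => rfl
  show (adj.unit.app P).app U (μ.app U t) = _
  rw [hμ]
  exact ((adj.unit.app P).app U).hom.map_smul _ t

end Scalars

variable {A : Type u} [CommRing A] {X : Scheme.{u}} [X.Over (Spec (CommRingCat.of A))] (F : X.Modules)

/-- The map from the ring to global functions. -/
abbrev ρ (A : Type u) [CommRing A] (X : Scheme.{u}) [X.Over (Spec (CommRingCat.of A))] : A →+* Coh.Γtop X :=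
  Coh.toGlobal (X ↘ Spec (CommRingCat.of A))

/-- The functor. -/
abbrev G : ModuleCat.{u} A ⥤ X.Modules := CohIII.tensorAFunctor A F

instance : (G (A := A) F).Additive := by
  haveI : (Scheme.Modules.pullback (X ↘ Spec (CommRingCat.of A))).Additive :=
    haveI := preservesBinaryBiproducts_of_preservesBinaryCoproducts
      (Scheme.Modules.pullback (X ↘ Spec (CommRingCat.of A)))
    Functor.additive_of_preservesBinaryBiproducts _
  haveI : (tilde.functor (CommRingCat.of A)).Additive :=
    haveI : PreservesColimitsOfSize.{0, 0} (tilde.functor (CommRingCat.of A)) :=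
      tilde.adjunction.leftAdjoint_preservesColimits
    haveI := preservesBinaryBiproducts_of_preservesBinaryCoproducts (tilde.functor (CommRingCat.of A))
    Functor.additive_of_preservesBinaryBiproducts _
  haveI : (DCoh.tensorRightMod F).Additive := DCoh.additive_tensorRightMod F
  exact inferInstanceAs (tilde.functor (CommRingCat.of A) ⋙
    (Scheme.Modules.pullback (X ↘ Spec (CommRingCat.of A)) ⋙ DCoh.tensorRightMod F)).Additive

theorem G_smul_id (a : A) (N : ModuleCat.{u} A) :
    (G F).map (a • 𝟙 N) = smulMod A ((G F).obj N) a := by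
  show (DCoh.tensorRightMod F).map ((Scheme.Modules.pullback _).map ((tilde.functor (CommRingCat.of A)).map _)) = _
  rw [tilde_smul]
  erw [pullback_smulModΓ, tensor_smulModΓ]
  rfl

theorem G_smul {M N : ModuleCat.{u} A} (a : A) (g : M ⟶ N) :
    (G F).map (a • g) = (G F).map g ≫ smulMod A ((G F).obj N) a := by
  rw [← G_smul_id F a N, ← Functor.map_comp, Linear.comp_smul, Category.comp_id]

/-- Sections of the functor over an open, as a functor of `A`-modules. -/
def SecFun (W : X.Opens) : ModuleCat.{u} A ⥤ ModuleCat.{u} A where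
  obj M := ModuleCat.of A (Sec (ρ A X) ((G F).obj M) W)
  map g := ModuleCat.ofHom (Cochains.appL (ρ A X) ((G F).map g) W)
  map_id M := ModuleCat.hom_ext (LinearMap.ext fun s => by
    show ((G F).map (𝟙 M)).app W s = s
    rw [(G F).map_id]; rfl)
  map_comp g h := ModuleCat.hom_ext (LinearMap.ext fun s => by
    show ((G F).map (g ≫ h)).app W s = ((G F).map h).app W (((G F).map g).app W s)
    rw [(G F).map_comp]; rfl)

instance (W : X.Opens) : (SecFun (A := A) F W).Additive where
  map_add {M N g h} := ModuleCat.hom_ext (LinearMap.ext fun s => by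
    show ((G F).map (g + h)).app W s = ((G F).map g).app W s + ((G F).map h).app W s
    rw [(G F).map_add]; rfl)

instance (W : X.Opens) : (SecFun (A := A) F W).Linear A where
  map_smul {M N} g a := ModuleCat.hom_ext (LinearMap.ext fun s => by
    show ((G F).map (a • g)).app W s = act (ρ A X) W a • (show Γ((G F).obj N, W) from ((G F).map g).app W s)
    rw [G_smul]
    rfl)

instance preservesColimits_G : PreservesColimitsOfSize.{u, u} (G (A := A) F) := by
  haveI : PreservesColimitsOfSize.{u, u} (DCoh.tensorRightMod F) :=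
    preservesColimits_of_natIso (NatIso.ofComponents (F := Groth.L00.Tensor.tensorRightF F) (fun M => Iso.refl _)
      fun {M N} φ => by
        refine (Category.comp_id _).trans (Eq.trans ?_ (Category.id_comp _).symm)
        refine congrArg (Groth.L00.Tensor.shf X).map ?_
        exact (congrArg (fun k => (Groth.L00.Tensor.preF X).map φ ⊗ₘ k) ((Groth.L00.Tensor.preF X).map_id F)).trans
          (MonoidalCategory.tensorHom_id _ _))
  haveI : PreservesColimitsOfSize.{u, u} (Scheme.Modules.pullback (X ↘ Spec (CommRingCat.of A))) :=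
    (Scheme.Modules.pullbackPushforwardAdjunction _).leftAdjoint_preservesColimits
  haveI : PreservesColimitsOfSize.{u, u} (tilde.functor (CommRingCat.of A)) :=
    tilde.adjunction.leftAdjoint_preservesColimits
  unfold G CohIII.tensorAFunctor; infer_instance

theorem isQCoh_G [Coh.IsQCoh F] (M : ModuleCat.{u} A) : Coh.IsQCoh ((G F).obj M) := by
  haveI : Coh.IsQCoh ((tilde.functor (CommRingCat.of A)).obj M) := Groth.L18.TildeF.isQCoh_tilde (R := CommRingCat.of A) M
  haveI : Coh.IsQCoh ((Scheme.Modules.pullback (X ↘ Spec (CommRingCat.of A))).obj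
      ((tilde.functor (CommRingCat.of A)).obj M)) := Groth.L16.AffineBC.isQCoh_pullback _ _
  exact Groth.L00.Tensor.isQCoh_tensorMod _ F

variable [Coh.IsQCoh F]

/-- Over an affine open the functor of sections preserves colimits. -/
theorem preservesColimits_SecFun {W : X.Opens} (hW : IsAffineOpen W) :
    PreservesColimitsOfSize.{u, u} (SecFun (A := A) F W) := by
  let j := hW.fromSpec
  let H : ModuleCat.{u} A ⥤ (Spec Γ(X, W)).Modules := G F ⋙ Scheme.Modules.restrictFunctor j
  haveI : PreservesColimitsOfSize.{u, u} (Scheme.Modules.restrictFunctor j) :=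
    (Scheme.Modules.restrictAdjunction j).leftAdjoint_preservesColimits
  haveI hH : ∀ M, Coh.IsQCoh (H.obj M) := fun M =>
    haveI := isQCoh_G F M
    Scheme.Modules.isQuasicoherent_restrictFunctor j _
  let e : (H ⋙ moduleSpecΓFunctor (R := Γ(X, W))) ⋙ tilde.functor Γ(X, W) ≅ H :=
    NatIso.ofComponents (fun M => haveI := hH M; Groth.L18.TildeF.counitIso (H.obj M))
      fun g => tilde.adjunction.counit.naturality (H.map g)
  haveI : PreservesColimitsOfSize.{u, u} ((H ⋙ moduleSpecΓFunctor (R := Γ(X, W))) ⋙ tilde.functor Γ(X, W)) :=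
    preservesColimits_of_natIso e.symm
  haveI : ReflectsColimitsOfSize.{u, u} (tilde.functor Γ(X, W)) := fullyFaithful_reflectsColimits _
  haveI : PreservesColimitsOfSize.{u, u} (H ⋙ moduleSpecΓFunctor (R := Γ(X, W))) :=
    preservesColimits_of_reflects_of_preserves _ (tilde.functor Γ(X, W))
  let κ : A →+* Γ(X, W) := act (ρ A X) W
  haveI : PreservesColimitsOfSize.{u, u} (ModuleCat.restrictScalars.{u} κ) :=
    (ModuleCat.restrictCoextendScalarsAdj κ).leftAdjoint_preservesColimits
  have h1 : j ''ᵁ ⊤ ≤ W := by rw [Scheme.Hom.image_top_eq_opensRange, hW.opensRange_fromSpec]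
  have h2 : W ≤ j ''ᵁ ⊤ := by rw [Scheme.Hom.image_top_eq_opensRange, hW.opensRange_fromSpec]
  have key : ∀ a : Γ(X, W), (j.appIso ⊤).inv ((Scheme.ΓSpecIso Γ(X, W)).inv a) = ro h1 a := by
    intro a
    have h : (Scheme.ΓSpecIso Γ(X, W)).inv ≫ (j.appIso ⊤).inv = X.presheaf.map (homOfLE h1).op := by
      rw [Iso.comp_inv_eq, Scheme.Hom.appIso_hom', Scheme.Hom.map_appLE, Scheme.Hom.appLE, hW.fromSpec_app_self,
        Category.assoc, ← Functor.map_comp]
      exact ((congrArg ((Scheme.ΓSpecIso Γ(X, W)).inv ≫ ·) ((Spec Γ(X, W)).presheaf.map_id _)).trans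
        (Category.comp_id _)).symm
    exact congr($h a)
  let φ : SecFun (A := A) F W ≅ (H ⋙ moduleSpecΓFunctor (R := Γ(X, W))) ⋙ ModuleCat.restrictScalars κ :=
    NatIso.ofComponents (fun M => LinearEquiv.toModuleIso
      (X₁ := Sec (ρ A X) ((G F).obj M) W)
      (X₂ := (ModuleCat.restrictScalars κ).obj ((moduleSpecΓFunctor (R := Γ(X, W))).obj (H.obj M)))
      { toFun := fun s => show Γ((G F).obj M, j ''ᵁ ⊤) from rs ((G F).obj M) h1 s
        invFun := fun t => rs ((G F).obj M) h2 (show Γ((G F).obj M, j ''ᵁ ⊤) from t)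
        left_inv := fun s => (rs_rs _ h1 h2 s).trans (rs_self _ _ s)
        right_inv := fun t => (rs_rs _ h2 h1 _).trans (rs_self _ _ _)
        map_add' := fun a b => map_add (((G F).obj M).presheaf.map (homOfLE h1).op).hom _ _
        map_smul' := fun a s => by
          show rs ((G F).obj M) h1 (κ a • (show Γ((G F).obj M, W) from s)) =
            (j.appIso ⊤).inv ((Scheme.ΓSpecIso Γ(X, W)).inv (κ a)) • rs ((G F).obj M) h1 s
          rw [key]
          exact rs_smul _ h1 _ _ })
      fun {M N} g => ModuleCat.hom_ext (LinearMap.ext fun s => (Cochains.app_rs ((G F).map g) h1 s).symm)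
  exact preservesColimits_of_natIso φ.symm

/-- Over an affine open sections of the functor are the sections at `A` tensored with the module. -/
theorem bijective_tMap {W : X.Opens} (hW : IsAffineOpen W) (M : ModuleCat.{u} A) :
    Function.Bijective (tMap (SecFun (A := A) F W) M) := by
  haveI := preservesColimits_SecFun (A := A) F hW
  haveI : PreservesFiniteColimits (SecFun (A := A) F W) := PreservesColimits.preservesFiniteColimits _
  exact Groth.L01.FlatCx.bijective_of_rightExact (Groth.L01.FlatCx.gen_of_coproducts _) M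

end Groth.L17.BC.TensorA
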