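import Groth.Agent.L17.BC.Fibre
import Groth.Agent.L17.BC.Criteria
import Groth.Agent.L19.LocFreeDescent

/-!
# Local freeness of higher direct images from fibre dimensions
-/

set_option autoImplicit false
set_option linter.style.haveILetI false
set_option linter.unusedSectionVars false
set_option backward.isDefEq.respectTransparency false

universe u

open CategoryTheory CategoryTheory.Limits AlgebraicGeometry TopologicalSpace Opposite
open scoped TensorProduct

noncomputable section

namespace Groth.L17.BC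

open Groth.L01.FlatCx (mu mu_baseChange mu_eq_rankAtStalk)

theorem isZero_freeMod_zero (Z : Scheme.{u}) : IsZero (FlatMod.freeMod Z 0) :=
  (IsZero.iff_id_eq_zero _).2 (Sigma.hom_ext _ _ fun i => i.elim0)

/-- A chart with module free at a point gives a free restriction near the point. -/
theorem exists_free_chart {Y : Scheme.{u}} {V : Y.Opens} (hV : IsAffineOpen V) [IsNoetherianRing Γ(Y, V)]
    (M : Y.Modules) (H : ModuleCat.{u} Γ(Y, V)) [Module.Finite Γ(Y, V) H] (e : M.restrict hV.fromSpec ≅ tilde H)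
    {y : Y} (hy : y ∈ V) (h : hV.primeIdealOf ⟨y, hy⟩ ∈ Module.freeLocus Γ(Y, V) H) :
    ∃ U : Y.Opens, y ∈ U ∧
      Nonempty (M.restrict U.ι ≅ FlatMod.freeMod (↑U) (mu (H : Type u) (hV.primeIdealOf ⟨y, hy⟩))) := by
  let R : CommRingCat.{u} := Γ(Y, V)
  let p : PrimeSpectrum R := hV.primeIdealOf ⟨y, hy⟩
  haveI : Module.Free (Localization.AtPrime p.asIdeal) (LocalizedModule p.asIdeal.primeCompl H) := h
  haveI : Module.FinitePresentation R H := Module.finitePresentation_of_finite R H
  obtain ⟨r, hr, hfree, -⟩ := Module.FinitePresentation.exists_free_localizedModule_powers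
    p.asIdeal.primeCompl (LocalizedModule.mkLinearMap p.asIdeal.primeCompl H) (Localization.AtPrime p.asIdeal)
  let S : CommRingCat.{u} := CommRingCat.of (Localization.Away r)
  let φ : R ⟶ S := CommRingCat.ofHom (algebraMap R (Localization.Away r))
  haveI : IsOpenImmersion (Spec.map φ) := IsOpenImmersion.of_isLocalization r
  obtain ⟨q, hq⟩ : p ∈ Set.range (PrimeSpectrum.comap (algebraMap R (Localization.Away r))) := by
    rw [PrimeSpectrum.localization_away_comap_range _ r]
    exact hr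
  let k : Spec S ⟶ Y := Spec.map φ ≫ hV.fromSpec
  obtain ⟨e₁⟩ := Groth.L19.PullChart.nonempty_chart_pullback (𝟙 Y) M φ hV.fromSpec k (Category.comp_id _) H e
  obtain ⟨e₂⟩ := Groth.L18.TildeF.extendScalars_equiv (S := Localization.Away r) H
  let T := Localization.Away r ⊗[R] (H : Type u)
  haveI : Module.Free (Localization.Away r) T :=
    Module.Free.of_equiv (LocalizedModule.equivTensorProduct (Submonoid.powers r) H)
  haveI : Nontrivial (Localization.Away r) := by
    by_contra hn
    rw [not_nontrivial_iff_subsingleton] at hn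
    exact q.2.ne_top (Subsingleton.elim _ _)
  let b := Module.Free.chooseBasis (Localization.Away r) T
  haveI : Fintype (Module.Free.ChooseBasisIndex (Localization.Away r) T) :=
    @Fintype.ofFinite _ (Module.Finite.finite_basis b)
  let n := Fintype.card (Module.Free.ChooseBasisIndex (Localization.Away r) T)
  haveI : Module.Projective (Localization.Away r) T := Module.Projective.of_free
  haveI : Module.Flat (Localization.Away r) T := Module.Flat.of_projective
  have hn : mu (H : Type u) p = n := by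
    rw [← hq, ← mu_baseChange (H : Type u) (Localization.Away r) q, mu_eq_rankAtStalk,
      Module.rankAtStalk_eq_finrank_of_free]
    exact Module.finrank_eq_card_basis b
  let σ := (Fintype.equivFin (Module.Free.ChooseBasisIndex (Localization.Away r) T)).trans Equiv.ulift.symm
  let f₂ := e₂.trans (b.repr.trans (Finsupp.domLCongr σ))
  let i : M.restrict k ≅ FlatMod.freeMod (Spec S) n :=
    ((Scheme.Modules.restrictFunctor k).mapIso ((Scheme.Modules.pullbackId Y).app M)).symm ≪≫ e₁ ≪≫
      (tilde.functor S).mapIso f₂.toModuleIso ≪≫ Groth.L19.PullChart.freeTildeIso S _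
  obtain ⟨i'⟩ := Groth.L19.PullChart.exists_free_of_chart M k i
  refine ⟨k.opensRange, ⟨q, ?_⟩, ?_⟩
  · rw [Scheme.Hom.comp_apply]
    exact (congrArg hV.fromSpec hq).trans (hV.fromSpec_primeIdealOf ⟨y, hy⟩)
  · rw [hn]
    exact ⟨i'⟩

variable {X Y : Scheme.{u}} (f : X ⟶ Y) [IsProper f] [IsLocallyNoetherian Y] {V : Y.Opens} {hV : IsAffineOpen V}
  {F : X.Modules} (m : Local f hV F)

theorem Local.finiteFlat (i : ℤ) : Module.Finite Γ(Y, V) (m.L.X i) ∧ Module.Flat Γ(Y, V) (m.L.X i) :=
  haveI := (m.finiteFree i).2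
  ⟨(m.finiteFree i).1, inferInstance⟩

theorem Local.freeC_neg {j : ℤ} (hj : j + 1 < 0) (x : PrimeSpectrum Γ(Y, V)) :
    Crit.FreeC m.L j x ∧ Crit.FreeC m.L (j + 1) x :=
  haveI : IsNoetherianRing Γ(Y, V) := IsLocallyNoetherian.component_noetherian ⟨V, hV⟩
  Crit.freeC_of_isZero_T m.L m.finiteFlat (fun M => m.isZero_neg M _ hj) x

theorem Local.freeC_of_subsingleton {y : Y} (hy : y ∈ V) (p : ℕ) (h : Subsingleton (CohIII.fiberH f F y p)) :
    Crit.FreeC m.L ((p : ℤ) - 1) (hV.primeIdealOf ⟨y, hy⟩) ∧ Crit.FreeC m.L (p : ℤ) (hV.primeIdealOf ⟨y, hy⟩) := by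
  haveI : IsNoetherianRing Γ(Y, V) := IsLocallyNoetherian.component_noetherian ⟨V, hV⟩
  have h0 : CohIII.dRank m.L ((p : ℤ) - 1 + 1) (hV.primeIdealOf ⟨y, hy⟩) = 0 := by
    rw [sub_add_cancel, ← m.fiberRank_eq y hy p]
    exact Module.finrank_zero_of_subsingleton
  have := Crit.freeC_of_dRank_eq_zero m.L m.finiteFlat _ h0
  rwa [sub_add_cancel] at this

/-- Free neighbouring cokernels give a free higher direct image near the point. -/
theorem Local.exists_free [HasInjectiveResolutions X.Modules] {y : Y} (hy : y ∈ V) (p : ℕ)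
    (h₁ : Crit.FreeC m.L ((p : ℤ) - 1) (hV.primeIdealOf ⟨y, hy⟩))
    (h₂ : Crit.FreeC m.L (p : ℤ) (hV.primeIdealOf ⟨y, hy⟩)) :
    ∃ U : Y.Opens, y ∈ U ∧
      Nonempty (((Coh.Rpush f p).obj F).restrict U.ι ≅ FlatMod.freeMod (↑U) (CohIII.fiberRank f F p y)) := by
  haveI : IsNoetherianRing Γ(Y, V) := IsLocallyNoetherian.component_noetherian ⟨V, hV⟩
  have h := Crit.mem_freeLocus_homology m.L m.finiteFlat (hV.primeIdealOf ⟨y, hy⟩) (j := (p : ℤ) - 1) h₁
    (by rwa [sub_add_cancel])
  rw [sub_add_cancel] at h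
  haveI := (m.finiteFree (p : ℤ)).1
  haveI : Module.Finite Γ(Y, V) (m.L.homology (p : ℤ) : Type u) := by
    haveI : IsNoetherian Γ(Y, V) (m.L.X (p : ℤ)) := isNoetherian_of_isNoetherianRing_of_finite _ _
    haveI : Module.Finite Γ(Y, V) (Groth.L01.FlatCx.Cyc' m.L (p : ℤ)) := Module.Finite.iff_fg.2 (IsNoetherian.noetherian _)
    exact Module.Finite.of_surjective _ (Groth.L01.FlatCx.cls'_surjective m.L (p : ℤ))
  obtain ⟨e⟩ := m.rpush p
  obtain ⟨U, hyU, ⟨i⟩⟩ := exists_free_chart hV _ (m.L.homology (p : ℤ)) e hy h.1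
  refine ⟨U, hyU, ?_⟩
  rw [m.fiberRank_eq y hy p, h.2]
  exact ⟨i⟩

theorem Local.primeIdealOf_fromSpec (x : PrimeSpectrum Γ(Y, V)) (hx : hV.fromSpec x ∈ V) :
    hV.primeIdealOf ⟨hV.fromSpec x, hx⟩ = x :=
  hV.fromSpec.isOpenEmbedding.injective (hV.fromSpec_primeIdealOf _)

theorem Local.fromSpec_mem (x : PrimeSpectrum Γ(Y, V)) : hV.fromSpec x ∈ V := by
  have : hV.fromSpec x ∈ Set.range hV.fromSpec := ⟨_, rfl⟩
  rwa [hV.range_fromSpec] at this

/-- The fibre dimension, read on the spectrum. -/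
theorem Local.dRank_eq (p : ℕ) :
    CohIII.dRank m.L (p : ℤ) = CohIII.fiberRank f F p ∘ hV.fromSpec := by
  funext x
  rw [Function.comp_apply, m.fiberRank_eq _ (Local.fromSpec_mem x) p, Local.primeIdealOf_fromSpec]

end Groth.L17.BC
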