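import Groth.Agent.L17.BC.Criteria

/-!
# Homology near a point after arbitrary base change, from free cokernels at a Noetherian stage
-/

set_option autoImplicit false
set_option linter.style.haveILetI false
set_option linter.unusedSectionVars false
set_option backward.isDefEq.respectTransparency false

universe u

open CategoryTheory CategoryTheory.Limits MonoidalCategory
open scoped TensorProduct

noncomputable section

namespace Groth.L17.BC.Crit

open Groth.L01.FlatCx

variable {A₀ : Type u} [CommRing A₀] [IsNoetherianRing A₀] (L : CochainComplex (ModuleCat.{u} A₀) ℤ)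
  (hL : ∀ i, Module.Finite A₀ (L.X i) ∧ Module.Flat A₀ (L.X i))

include hL in
/-- Near a point with free cokernels the homology is projective and commutes with base change. -/
theorem exists_away_projective (x : PrimeSpectrum A₀) {j : ℤ} (h₁ : FreeC L j x) (h₂ : FreeC L (j + 1) x) :
    ∃ r : A₀, r ∉ x.asIdeal ∧
      Module.Finite (Localization.Away r) ((bc (Localization.Away r) L).homology (j + 1) : Type u) ∧
      Module.Projective (Localization.Away r) ((bc (Localization.Away r) L).homology (j + 1) : Type u) ∧
      (∀ M, Function.Bijective (tMap (CohIII.TFun (bc (Localization.Away r) L) (j + 1)) M)) ∧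
      ∀ q : PrimeSpectrum (Localization.Away r),
        CohIII.dRank L (j + 1) (PrimeSpectrum.comap (algebraMap A₀ (Localization.Away r)) q) =
          mu ((bc (Localization.Away r) L).homology (j + 1) : Type u) q := by
  haveI := fun i => (hL i).1
  haveI : ∀ i k, Module.FinitePresentation A₀ (Coker L i k) := fun i k => Module.finitePresentation_of_finite A₀ _
  have hopen : IsOpen (Module.freeLocus A₀ (Coker L j (j + 1)) ∩ Module.freeLocus A₀ (Coker L (j + 1) (j + 1 + 1))) :=
    Module.isOpen_freeLocus.inter Module.isOpen_freeLocus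
  obtain ⟨_, ⟨r, rfl⟩, hxr, hr⟩ :=
    (PrimeSpectrum.isTopologicalBasis_basic_opens (R := A₀)).exists_subset_of_mem_open
      (show x ∈ Module.freeLocus A₀ (Coker L j (j + 1)) ∩ Module.freeLocus A₀ (Coker L (j + 1) (j + 1 + 1)) from ⟨h₁, h₂⟩)
      hopen
  refine ⟨r, hxr, ?_⟩
  set A₁ := Localization.Away r
  let L' := bc A₁ L
  have hflat : ∀ i, Module.Flat A₁ (L'.X i) := flat_bc A₁ L (fun i => (hL i).2)
  haveI : ∀ i, Module.Finite A₁ (L'.X i) := fun i => finite_bc A₁ L i
  have hc : ∀ i k, (PrimeSpectrum.basicOpen r : Set (PrimeSpectrum A₀)) ⊆ Module.freeLocus A₀ (Coker L i k) →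
      Module.Flat A₁ (Coker L' i k) := fun i k h => by
    haveI := Module.basicOpen_subset_freeLocus_iff.1 h
    haveI : Module.Flat A₁ (LocalizedModule (Submonoid.powers r) (Coker L i k)) := Module.Flat.of_projective
    obtain ⟨e⟩ := nonempty_coker_bc A₁ L i k
    exact Module.Flat.of_linearEquiv
      (e.trans (LocalizedModule.equivTensorProduct (Submonoid.powers r) (Coker L i k)).symm)
  haveI := (preservesMono_iff L' (prev_eq j) hflat).2 (hc j (j + 1) (fun z hz => (hr hz).1))
  haveI := (preservesEpi_iff L' (next_eq (j + 1)) (prev_eq (j + 1)) hflat).2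
    (hc (j + 1) (j + 1 + 1) (fun z hz => (hr hz).2))
  haveI : IsNoetherianRing A₁ := IsLocalization.isNoetherianRing (Submonoid.powers r) A₁ inferInstance
  haveI := finite_TFun_obj L' (j + 1) (ModuleCat.of A₁ A₁)
  haveI : Module.Finite A₁ (L'.homology (j + 1) : Type u) := Module.Finite.equiv (unitEquiv L' (j + 1))
  haveI : Module.Flat A₁ (L'.homology (j + 1) : Type u) := by
    haveI := flat_homology_of_exact L' (j + 1) hflat
    exact Module.Flat.of_linearEquiv (unitEquiv L' (j + 1)).symm
  refine ⟨inferInstance, ?_, fun M => bijective_of_preservesEpi L' (j + 1) hflat M, fun q => ?_⟩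
  · haveI : Module.FinitePresentation A₁ (L'.homology (j + 1) : Type u) := Module.finitePresentation_of_finite _ _
    exact Module.Flat.projective_of_finitePresentation
  · rw [← dRank_baseChange, dRank_eq_mu L' (j + 1) hflat]
    exact ((unitEquiv L' (j + 1)).baseChange A₁ q.asIdeal.ResidueField).finrank_eq

variable {B : Type u} [CommRing B] [Algebra A₀ B]

include hL in
/-- After base change to any algebra the homology is free near the points over such a point. -/
theorem exists_projective_away_bc (p : PrimeSpectrum B) {j : ℤ}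
    (h₁ : FreeC L j (PrimeSpectrum.comap (algebraMap A₀ B) p))
    (h₂ : FreeC L (j + 1) (PrimeSpectrum.comap (algebraMap A₀ B) p)) :
    ∃ g : B, g ∉ p.asIdeal ∧
      Module.Finite (Localization.Away g) (Localization.Away g ⊗[B] ((bc B L).homology (j + 1) : Type u)) ∧
      Module.Projective (Localization.Away g) (Localization.Away g ⊗[B] ((bc B L).homology (j + 1) : Type u)) ∧
      mu ((bc B L).homology (j + 1) : Type u) p =
        CohIII.dRank L (j + 1) (PrimeSpectrum.comap (algebraMap A₀ B) p) := by
  obtain ⟨r, hr, hfin, hproj, hbij, hrank⟩ :=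
    exists_away_projective L hL (PrimeSpectrum.comap (algebraMap A₀ B) p) h₁ h₂
  refine ⟨algebraMap A₀ B r, hr, ?_⟩
  set A₁ := Localization.Away r
  set S := Localization.Away (algebraMap A₀ B r)
  letI : Algebra A₁ S := (IsLocalization.Away.lift (S := A₁) r
    (g := algebraMap A₀ S) (by
      rw [IsScalarTower.algebraMap_apply A₀ B S]
      exact IsLocalization.Away.algebraMap_isUnit (algebraMap A₀ B r))).toAlgebra
  haveI : IsScalarTower A₀ A₁ S := IsScalarTower.of_algebraMap_eq fun a =>
    (IsLocalization.Away.lift_eq (S := A₁) r _ a).symm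
  haveI : Module.Flat B S := IsLocalization.flat S (Submonoid.powers (algebraMap A₀ B r))
  obtain ⟨e₁⟩ := nonempty_homology_bc S (bc B L) (j + 1)
    (bijective_tMap_of_flat (bc B L) (j + 1) (ModuleCat.of B S))
  obtain ⟨e₂⟩ := nonempty_bc_comp L B S (j + 1)
  obtain ⟨e₃⟩ := nonempty_bc_comp L A₁ S (j + 1)
  obtain ⟨e₄⟩ := nonempty_homology_bc S (bc A₁ L) (j + 1) (hbij _)
  let e : S ⊗[B] ((bc B L).homology (j + 1) : Type u) ≃ₗ[S] S ⊗[A₁] ((bc A₁ L).homology (j + 1) : Type u) :=
    (((unitEquiv (bc B L) (j + 1)).baseChange B S).symm.trans e₁.symm).trans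
      (e₂.trans (e₃.symm.trans (e₄.trans ((unitEquiv (bc A₁ L) (j + 1)).baseChange A₁ S))))
  refine ⟨Module.Finite.equiv e.symm, Module.Projective.of_equiv e.symm, ?_⟩
  obtain ⟨q, rfl⟩ : p ∈ Set.range (PrimeSpectrum.comap (algebraMap B S)) := by
    rw [PrimeSpectrum.localization_away_comap_range _ (algebraMap A₀ B r)]
    exact hr
  rw [← mu_baseChange ((bc B L).homology (j + 1) : Type u) S q,
    show mu (S ⊗[B] ((bc B L).homology (j + 1) : Type u)) q = mu (S ⊗[A₁] ((bc A₁ L).homology (j + 1) : Type u)) q from
      (e.baseChange S q.asIdeal.ResidueField).finrank_eq,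
    mu_baseChange, ← hrank]
  refine congrArg _ ?_
  simp only [← PrimeSpectrum.comap_comp_apply, ← IsScalarTower.algebraMap_eq]
  exact congrArg (fun φ : A₀ →+* S => PrimeSpectrum.comap φ q) (IsScalarTower.algebraMap_eq A₀ A₁ S).symm

end Groth.L17.BC.Crit
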