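import Groth.Agent.L17.BC.Apply
import Groth.Agent.L17.BC.GenAlg
import Groth.Agent.L17.Approx.Model
import Groth.Agent.L17.Approx.RestrictFP

/-!
# Cohomology and base change for proper morphisms of finite presentation
-/

set_option autoImplicit false
set_option linter.style.haveILetI false
set_option linter.unusedSectionVars false
set_option backward.isDefEq.respectTransparency false

universe u

open CategoryTheory CategoryTheory.Limits AlgebraicGeometry TopologicalSpace Opposite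
open scoped TensorProduct

noncomputable section

namespace Groth.L17.BC

open Groth.L01.FlatCx (mu mu_baseChange mu_eq_rankAtStalk)

/-- A chart with projective module gives a free restriction near each point. -/
theorem exists_free_of_projective_chart {Y : Scheme.{u}} (M : Y.Modules) {R : CommRingCat.{u}} (k₀ : Spec R ⟶ Y)
    [IsOpenImmersion k₀] (H : ModuleCat.{u} R) [Module.Finite R H] [Module.Projective R H]
    (e : M.restrict k₀ ≅ tilde H) (p : PrimeSpectrum R) :
    ∃ U : Y.Opens, k₀ p ∈ U ∧ Nonempty (M.restrict U.ι ≅ FlatMod.freeMod (↑U) (mu (H : Type u) p)) := by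
  haveI : Module.Flat R H := Module.Flat.of_projective
  haveI : Module.FinitePresentation R H := Module.finitePresentation_of_projective R H
  have h : p ∈ Module.freeLocus R H := (Module.freeLocus_eq_univ (R := R) (M := H)).ge (Set.mem_univ p)
  haveI : Module.Free (Localization.AtPrime p.asIdeal) (LocalizedModule p.asIdeal.primeCompl H) := h
  obtain ⟨r, hr, hfree, -⟩ := Module.FinitePresentation.exists_free_localizedModule_powers
    p.asIdeal.primeCompl (LocalizedModule.mkLinearMap p.asIdeal.primeCompl H) (Localization.AtPrime p.asIdeal)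
  let S : CommRingCat.{u} := CommRingCat.of (Localization.Away r)
  let φ : R ⟶ S := CommRingCat.ofHom (algebraMap R (Localization.Away r))
  haveI : IsOpenImmersion (Spec.map φ) := IsOpenImmersion.of_isLocalization r
  obtain ⟨q, hq⟩ : p ∈ Set.range (PrimeSpectrum.comap (algebraMap R (Localization.Away r))) := by
    rw [PrimeSpectrum.localization_away_comap_range _ r]
    exact hr
  let k : Spec S ⟶ Y := Spec.map φ ≫ k₀
  obtain ⟨e₁⟩ := Groth.L19.PullChart.nonempty_chart_pullback (𝟙 Y) M φ k₀ k (Category.comp_id _) H e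
  obtain ⟨e₂⟩ := Groth.L18.TildeF.extendScalars_equiv (S := Localization.Away r) H
  let T := Localization.Away r ⊗[R] (H : Type u)
  haveI : Module.Free (Localization.Away r) T :=
    Module.Free.of_equiv (LocalizedModule.equivTensorProduct (Submonoid.powers r) H)
  haveI : Nontrivial (Localization.Away r) := by
    by_contra hn
    rw [not_nontrivial_iff_subsingleton] at hn
    exact q.2.ne_top (Subsingleton.elim _ _)
  let b := Module.Free.chooseBasis (Localization.Away r) T
  haveI : Fintype (Module.Free.ChooseBasisIndex (Localization.Away r) T) :=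
    @Fintype.ofFinite _ (Module.Finite.finite_basis b)
  let n := Fintype.card (Module.Free.ChooseBasisIndex (Localization.Away r) T)
  have hn : mu (H : Type u) p = n := by
    rw [← hq, ← mu_baseChange (H : Type u) (Localization.Away r) q, mu_eq_rankAtStalk,
      Module.rankAtStalk_eq_finrank_of_free]
    exact Module.finrank_eq_card_basis b
  let σ := (Fintype.equivFin (Module.Free.ChooseBasisIndex (Localization.Away r) T)).trans Equiv.ulift.symm
  let f₂ := e₂.trans (b.repr.trans (Finsupp.domLCongr σ))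
  let i : M.restrict k ≅ FlatMod.freeMod (Spec S) n :=
    ((Scheme.Modules.restrictFunctor k).mapIso ((Scheme.Modules.pullbackId Y).app M)).symm ≪≫ e₁ ≪≫
      (tilde.functor S).mapIso f₂.toModuleIso ≪≫ Groth.L19.PullChart.freeTildeIso S _
  obtain ⟨i'⟩ := Groth.L19.PullChart.exists_free_of_chart M k i
  refine ⟨k.opensRange, ⟨q, ?_⟩, ?_⟩
  · rw [Scheme.Hom.comp_apply]
    exact congrArg k₀ hq
  · rw [hn]
    exact ⟨i'⟩

variable {X Y : Scheme.{u}} (f : X ⟶ Y) {V : Y.Opens} (hV : IsAffineOpen V)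

/-- A finite free complex over a Noetherian stage computing cohomology over an affine open of the base. -/
structure GLocal (F : X.Modules) where
  /-- the stage -/
  A₀ : Type u
  [ring : CommRing A₀]
  [noeth : IsNoetherianRing A₀]
  /-- the map to the functions -/
  φ : A₀ →+* Γ(Y, V)
  /-- the model -/
  X₀ : Scheme.{u}
  /-- its structure map -/
  f₀ : X₀ ⟶ Spec (CommRingCat.of A₀)
  [proper : IsProper f₀]
  /-- the module on the model -/
  F₀ : X₀.Modules
  coh : Coh.IsCoh F₀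
  /-- the projection -/
  g : ↑(f ⁻¹ᵁ V) ⟶ X₀
  sq : IsPullback g (fV f hV) f₀ (Spec.map (CommRingCat.ofHom φ))
  /-- the comparison -/
  iso : (Scheme.Modules.pullback g).obj F₀ ≅ FV f (V := V) F
  /-- the complex with its comparison -/
  m : Model f₀ F₀

attribute [instance] GLocal.ring GLocal.noeth GLocal.proper

theorem nonempty_glocal [IsProper f] [LocallyOfFinitePresentation f] (F : X.Modules) [Coh.IsQCoh F]
    (hfp : CohB1.IsFP F) (hfl : FlatMod.IsFlatOver f F) : Nonempty (GLocal f hV F) := by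
  let g₀ : ↑(f ⁻¹ᵁ V) ⟶ Spec (CommRingCat.of Γ(Y, V)) := fV f hV
  haveI : IsProper g₀ := inferInstanceAs (IsProper (fV f hV))
  haveI : LocallyOfFinitePresentation g₀ := inferInstanceAs (LocallyOfFinitePresentation ((f ∣_ V) ≫ hV.isoSpec.hom))
  haveI : Coh.IsQCoh (FV f (V := V) F) := Scheme.Modules.isQuasicoherent_restrictFunctor _ F
  have hfl' : FlatMod.IsFlatOver g₀ (FV f (V := V) F) :=
    Approx.isFlatOver_of_flat_sec g₀ (FV f (V := V) F) (fun W : (↑(f ⁻¹ᵁ V) : Scheme.{u}).affineOpens => W.1)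
      (fun W => W.2) (fun x => by
        obtain ⟨W, hW, hxW, -⟩ := exists_isAffineOpen_mem_and_subset (x := x) (U := ⊤) trivial
        exact ⟨⟨W, hW⟩, hxW⟩)
      (fun W => flat_sec_FV f hV F hfl W.2)
  obtain ⟨A₀, hA₀, X₀, f₀, g, F₀, hf₀, -, hF₀, hfl₀, sq, ⟨iso⟩⟩ :=
    Approx.exists_noetherian_model g₀ (FV f (V := V) F) (Approx.isFP_restrict _ F hfp) hfl'
  haveI := hA₀
  haveI := hf₀
  haveI : Coh.IsQCoh F₀ := hF₀.1
  obtain ⟨m⟩ := nonempty_model f₀ F₀ hF₀ fun W hW => flat_sec f₀ F₀ hfl₀ hW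
  exact ⟨⟨↥A₀, algebraMap ↥A₀ Γ(Y, V), X₀, f₀, F₀, hF₀, g, sq, iso, m⟩⟩

variable {f hV} {F : X.Modules} (l : GLocal f hV F)

/-- The point of the stage under a point of the affine open. -/
def GLocal.pt {y : Y} (hy : y ∈ V) : PrimeSpectrum l.A₀ :=
  PrimeSpectrum.comap l.φ (hV.primeIdealOf ⟨y, hy⟩)

theorem GLocal.finiteFlat (i : ℤ) : Module.Finite l.A₀ (l.m.L.X i) ∧ Module.Flat l.A₀ (l.m.L.X i) :=
  haveI := (l.m.finiteFree i).2
  ⟨(l.m.finiteFree i).1, inferInstance⟩

/-- The fibre cohomology is a base change of the complex. -/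
theorem GLocal.exists_fibre_equiv {y : Y} (hy : y ∈ V) (p : ℕ) :
    Nonempty (((CohIII.bcCx ((Y.evaluation V y hy).hom.comp l.φ) l.m.L).homology (p : ℤ) : Type u) ≃ₗ[Y.residueField y]
      CohIII.fiberH f F y p) := by
  haveI : Coh.IsQCoh l.F₀ := l.coh.1
  obtain ⟨g', hg, sq', -⟩ := exists_fibre_square f hV y hy
  letI : Algebra l.A₀ (Y.residueField y) := ((Y.evaluation V y hy).hom.comp l.φ).toAlgebra
  let f' : f.fiber y ⟶ Spec (CommRingCat.of (Y.residueField y)) := f.fiberToSpecResidueField y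
  have sq : IsPullback (g' ≫ l.g) f' l.f₀ (Spec.map (CommRingCat.ofHom (algebraMap l.A₀ (Y.residueField y)))) := by
    rw [show CommRingCat.ofHom (algebraMap l.A₀ (Y.residueField y)) =
      CommRingCat.ofHom l.φ ≫ Y.evaluation V y hy from rfl, Spec.map_comp]
    exact sq'.paste_horiz l.sq
  let e : (Scheme.Modules.pullback (g' ≫ l.g)).obj l.F₀ ≅ CohIII.fiberMod f F y :=
    ((Scheme.Modules.pullbackComp g' l.g).app l.F₀).symm ≪≫ (Scheme.Modules.pullback g').mapIso
        (l.iso ≪≫ (Scheme.Modules.restrictFunctorIsoPullback _).app F) ≪≫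
      (Scheme.Modules.pullbackComp g' (f ⁻¹ᵁ V).ι).app F ≪≫ (Scheme.Modules.pullbackCongr hg).app F
  letI : Module (Y.residueField y) (Coh.HH (f.fiber y) ((Scheme.Modules.pullback (g' ≫ l.g)).obj l.F₀) p) :=
    Module.compHom _ (Coh.toGlobal f')
  let E : Coh.HH (f.fiber y) ((Scheme.Modules.pullback (g' ≫ l.g)).obj l.F₀) p ≃ₗ[Y.residueField y]
      CohIII.fiberH f F y p :=
    { (HHequiv e p).toAddEquiv with
      map_smul' := fun a x => (HHequiv e p).map_smul (Coh.toGlobal f' a) x }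
  obtain ⟨e'⟩ := l.m.exists_equiv f' (g' ≫ l.g) sq p
  exact ⟨e'.trans E⟩

theorem GLocal.fiberRank_eq {y : Y} (hy : y ∈ V) (p : ℕ) :
    CohIII.fiberRank f F p y = CohIII.dRank l.m.L (p : ℤ) (l.pt hy) := by
  obtain ⟨e⟩ := l.exists_fibre_equiv hy p
  letI : Algebra l.A₀ (Y.residueField y) := ((Y.evaluation V y hy).hom.comp l.φ).toAlgebra
  rw [CohIII.fiberRank, ← e.finrank_eq]
  refine (finrank_homology_bc l.m.L (Y.residueField y) p).trans (congrArg _ ?_)
  obtain ⟨-, -, -, hpt⟩ := exists_fibre_square f hV y hy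
  exact (PrimeSpectrum.comap_comp_apply _ _ _).trans (congrArg _ hpt)

include l in
theorem GLocal.finite_fiberH {y : Y} (hy : y ∈ V) (p : ℕ) :
    Module.Finite (Y.residueField y) (CohIII.fiberH f F y p) := by
  obtain ⟨e⟩ := l.exists_fibre_equiv hy p
  letI : Algebra l.A₀ (Y.residueField y) := ((Y.evaluation V y hy).hom.comp l.φ).toAlgebra
  haveI := finite_homology_bc_field l.m.L (fun i => (l.m.finiteFree i).1) (Y.residueField y) (p : ℤ)
  exact Module.Finite.equiv e

/-- The higher direct image over the affine open is the homology of the base change. -/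
theorem GLocal.nonempty_rpush [IsProper f] [LocallyOfFinitePresentation f] [Coh.IsQCoh F]
    [HasInjectiveResolutions X.Modules] (p : ℕ) :
    Nonempty (((Coh.Rpush f p).obj F).restrict hV.fromSpec ≅ tilde ((CohIII.bcCx l.φ l.m.L).homology (p : ℤ))) := by
  haveI : Coh.IsQCoh l.F₀ := l.coh.1
  haveI := PushQCoh.hasInjectiveResolutions (f ⁻¹ᵁ V : Scheme.{u})
  let g₀ : ↑(f ⁻¹ᵁ V) ⟶ Spec (CommRingCat.of Γ(Y, V)) := fV f hV
  haveI : Coh.IsQCoh (FV f (V := V) F) := Scheme.Modules.isQuasicoherent_restrictFunctor _ F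
  obtain ⟨e⟩ := PushQCoh.nonempty_Rpush_restrict_iso f hV.fromSpec (f ⁻¹ᵁ V).ι (fV f hV)
    (by rw [hV.opensRange_fromSpec, Scheme.Opens.opensRange_ι]) (fV_fromSpec f hV) F p
  haveI := PushQCoh.isQCoh_Rpush (fV f hV) (FV f (V := V) F) p
  letI : Algebra l.A₀ Γ(Y, V) := l.φ.toAlgebra
  letI : Module Γ(Y, V) (Coh.HH (↑(f ⁻¹ᵁ V) : Scheme.{u}) ((Scheme.Modules.pullback l.g).obj l.F₀) p) :=
    Module.compHom _ (Coh.toGlobal g₀)
  letI : Module Γ(Y, V) (Coh.HH (↑(f ⁻¹ᵁ V) : Scheme.{u}) (FV f (V := V) F) p) :=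
    Module.compHom _ (Coh.toGlobal g₀)
  obtain ⟨e'⟩ := l.m.exists_equiv g₀ l.g l.sq p
  let E : Coh.HH (↑(f ⁻¹ᵁ V) : Scheme.{u}) ((Scheme.Modules.pullback l.g).obj l.F₀) p ≃ₗ[Γ(Y, V)]
      Coh.HH (↑(f ⁻¹ᵁ V) : Scheme.{u}) (FV f (V := V) F) p :=
    { (HHequiv l.iso p).toAddEquiv with
      map_smul' := fun a x => (HHequiv l.iso p).map_smul (Coh.toGlobal g₀ a) x }
  obtain ⟨e''⟩ := Groth.L17.ProperCoh.nonempty_Γ_Rpush_equiv (fV f hV) (FV f (V := V) F) p
  exact ⟨e ≪≫ (Groth.L18.TildeF.counitIso _).symm ≪≫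
    (tilde.functor Γ(Y, V)).mapIso ((e'.trans E).trans e'').toModuleIso.symm⟩

theorem GLocal.freeC_neg {j : ℤ} (hj : j + 1 < 0) (x : PrimeSpectrum l.A₀) :
    Crit.FreeC l.m.L j x ∧ Crit.FreeC l.m.L (j + 1) x :=
  Crit.freeC_of_isZero_T l.m.L l.finiteFlat (fun M => l.m.isZero_T_of_neg M hj) x

theorem GLocal.freeC_of_subsingleton {y : Y} (hy : y ∈ V) (p : ℕ) (h : Subsingleton (CohIII.fiberH f F y p)) :
    Crit.FreeC l.m.L ((p : ℤ) - 1) (l.pt hy) ∧ Crit.FreeC l.m.L (p : ℤ) (l.pt hy) := by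
  have h0 : CohIII.dRank l.m.L ((p : ℤ) - 1 + 1) (l.pt hy) = 0 := by
    rw [sub_add_cancel, ← l.fiberRank_eq hy p]
    exact Module.finrank_zero_of_subsingleton
  have := Crit.freeC_of_dRank_eq_zero l.m.L l.finiteFlat _ h0
  rwa [sub_add_cancel] at this

/-- Free neighbouring cokernels give a free higher direct image near the point. -/
theorem GLocal.exists_free [IsProper f] [LocallyOfFinitePresentation f] [Coh.IsQCoh F]
    [HasInjectiveResolutions X.Modules] {y : Y} (hy : y ∈ V) (p : ℕ)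
    (h₁ : Crit.FreeC l.m.L ((p : ℤ) - 1) (l.pt hy)) (h₂ : Crit.FreeC l.m.L (p : ℤ) (l.pt hy)) :
    ∃ U : Y.Opens, y ∈ U ∧
      Nonempty (((Coh.Rpush f p).obj F).restrict U.ι ≅ FlatMod.freeMod (↑U) (CohIII.fiberRank f F p y)) := by
  letI : Algebra l.A₀ Γ(Y, V) := l.φ.toAlgebra
  let R : CommRingCat.{u} := Γ(Y, V)
  obtain ⟨g, hg, hfin, hproj, hrank⟩ := Crit.exists_projective_away_bc l.m.L l.finiteFlat
    (B := Γ(Y, V)) (hV.primeIdealOf ⟨y, hy⟩) (j := (p : ℤ) - 1) h₁ (by rwa [sub_add_cancel])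
  rw [sub_add_cancel] at hfin hproj hrank
  let H : ModuleCat.{u} R := (CohIII.bcCx l.φ l.m.L).homology (p : ℤ)
  obtain ⟨e⟩ := l.nonempty_rpush p
  let S : CommRingCat.{u} := CommRingCat.of (Localization.Away (M := R) g)
  let ψ : R ⟶ S := CommRingCat.ofHom (algebraMap R (Localization.Away (M := R) g))
  haveI : IsOpenImmersion (Spec.map ψ) := IsOpenImmersion.of_isLocalization (R := R) g
  obtain ⟨q, hq⟩ : (hV.primeIdealOf ⟨y, hy⟩ : PrimeSpectrum R) ∈
      Set.range (PrimeSpectrum.comap (algebraMap R (Localization.Away (M := R) g))) := by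
    rw [PrimeSpectrum.localization_away_comap_range _ g]
    exact hg
  obtain ⟨e₁⟩ := Groth.L19.PullChart.nonempty_chart_pullback (𝟙 Y) ((Coh.Rpush f p).obj F) ψ hV.fromSpec
    (Spec.map ψ ≫ hV.fromSpec) (Category.comp_id _) H e
  obtain ⟨e₂⟩ := Groth.L18.TildeF.extendScalars_equiv (S := Localization.Away (M := R) g) H
  let P := (ModuleCat.extendScalars ψ.hom).obj H
  haveI : Module.Finite S P := Module.Finite.equiv e₂.symm
  haveI : Module.Projective S P := Module.Projective.of_equiv e₂.symm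
  obtain ⟨U, hqU, ⟨i⟩⟩ := exists_free_of_projective_chart ((Coh.Rpush f p).obj F) (Spec.map ψ ≫ hV.fromSpec) P
    (((Scheme.Modules.restrictFunctor _).mapIso ((Scheme.Modules.pullbackId Y).app _)).symm ≪≫ e₁) q
  refine ⟨U, ?_, ?_⟩
  · have : (Spec.map ψ ≫ hV.fromSpec) q = y := by
      rw [Scheme.Hom.comp_apply]
      exact (congrArg hV.fromSpec hq).trans (hV.fromSpec_primeIdealOf ⟨y, hy⟩)
    rwa [this] at hqU
  · have hr : CohIII.fiberRank f F p y = mu (P : Type u) q := by
      rw [l.fiberRank_eq hy p]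
      refine hrank.symm.trans (Eq.trans ?_ (e₂.baseChange S q.asIdeal.ResidueField).finrank_eq.symm)
      show mu (H : Type u) _ = mu (Localization.Away (M := R) g ⊗[R] (H : Type u)) q
      rw [mu_baseChange]
      exact congrArg _ hq.symm
    rw [hr]
    exact ⟨i⟩

/-- The fibre dimension, read on the spectrum of the affine open. -/
theorem GLocal.fiberRank_fromSpec (x : PrimeSpectrum Γ(Y, V)) (p : ℕ) :
    CohIII.fiberRank f F p (hV.fromSpec x) = CohIII.dRank l.m.L (p : ℤ) (PrimeSpectrum.comap l.φ x) := by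
  have hx : hV.fromSpec x ∈ V := by
    have : hV.fromSpec x ∈ Set.range hV.fromSpec := ⟨_, rfl⟩
    rwa [hV.range_fromSpec] at this
  rw [l.fiberRank_eq hx p]
  refine congrArg _ ?_
  show PrimeSpectrum.comap l.φ _ = _
  refine congrArg _ ?_
  exact hV.fromSpec.isOpenEmbedding.injective (hV.fromSpec_primeIdealOf _)

end Groth.L17.BC
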