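import Groth.Agent.L17.BC.Split
import Groth.Agent.L17.BC.Model

/-!
# Base change data move along quasi-isomorphisms
-/

set_option autoImplicit false
set_option linter.style.haveILetI false
set_option linter.unusedSectionVars false
set_option backward.isDefEq.respectTransparency false

universe u

open CategoryTheory CategoryTheory.Limits MonoidalCategory
open scoped TensorProduct

noncomputable section

namespace Groth.L17.BC.Transfer

open Groth.L02.PC

variable {A : Type u} [CommRing A] {P K : CochainComplex (ModuleCat.{u} A) ℤ} (χ : P ⟶ K)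

theorem dd_zero (C : CochainComplex (ModuleCat.{u} A) ℤ) (i j k : ℤ) (x : C.X i) :
    (C.d j k).hom ((C.d i j).hom x) = 0 := congr($(C.d_comp_d i j k) x)

theorem comm' (i j : ℤ) (x : P.X i) : (χ.f j).hom ((P.d i j).hom x) = (K.d i j).hom ((χ.f i).hom x) :=
  (congr($(χ.comm i j) x)).symm

theorem comm_baseChange (B : Type u) [CommRing B] [Algebra A B] (i j : ℤ) (t : B ⊗[A] P.X i) :
    (χ.f j).hom.baseChange B ((P.d i j).hom.baseChange B t) =
      (K.d i j).hom.baseChange B ((χ.f i).hom.baseChange B t) := by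
  rw [← LinearMap.comp_apply, ← LinearMap.baseChange_comp, ← LinearMap.comp_apply, ← LinearMap.baseChange_comp,
    show (χ.f j).hom ∘ₗ (P.d i j).hom = (K.d i j).hom ∘ₗ (χ.f i).hom from LinearMap.ext (comm' χ i j)]

theorem coneExact [QuasiIso χ] (i : ℤ) : ConeExact χ (i - 1) i (i + 1) (i + 1 + 1) :=
  (coneExact_iff χ _ _ _ _ (by omega) rfl rfl).2 (FlatModel.isZero_cone_homology χ i)

/-- Transposition of the factors. -/
abbrev tr (B : Type u) [CommRing B] [Algebra A B] (M : Type u) [AddCommGroup M] [Module A M] :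
    M ⊗[A] B ≃ₗ[A] B ⊗[A] M := TensorProduct.comm A M B

theorem tr_rTensor (B : Type u) [CommRing B] [Algebra A B] {M N : Type u} [AddCommGroup M] [Module A M]
    [AddCommGroup N] [Module A N] (h : M →ₗ[A] N) (t : M ⊗[A] B) :
    tr B N (h.rTensor B t) = h.baseChange B (tr B M t) := by
  induction t using TensorProduct.induction_on with
  | zero => simp only [map_zero]
  | add a b ha hb => simp only [map_add, ha, hb]
  | tmul m b => rfl

theorem tr_symm_baseChange (B : Type u) [CommRing B] [Algebra A B] {M N : Type u} [AddCommGroup M] [Module A M]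
    [AddCommGroup N] [Module A N] (h : M →ₗ[A] N) (t : B ⊗[A] M) :
    (tr B N).symm (h.baseChange B t) = h.rTensor B ((tr B M).symm t) := by
  apply (tr B N).injective
  rw [tr_rTensor, LinearEquiv.apply_symm_apply, LinearEquiv.apply_symm_apply]

/-- Cone exactness after base change. -/
theorem coneExact_baseChange (B : Type u) [CommRing B] [Algebra A B]
    (hB : QuasiIso (((tensorRight (ModuleCat.of A B)).mapHomologicalComplex (ComplexShape.up ℤ)).map χ)) (i : ℤ)
    (p : B ⊗[A] P.X (i + 1)) (x : B ⊗[A] K.X i) (hp : (P.d (i + 1) (i + 1 + 1)).hom.baseChange B p = 0)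
    (hx : (χ.f (i + 1)).hom.baseChange B p = (K.d i (i + 1)).hom.baseChange B x) :
    ∃ (q : B ⊗[A] P.X i) (y : B ⊗[A] K.X (i - 1)), (P.d i (i + 1)).hom.baseChange B q = p ∧
      (χ.f i).hom.baseChange B q + (K.d (i - 1) i).hom.baseChange B y = x := by
  set φB := ((tensorRight (ModuleCat.of A B)).mapHomologicalComplex (ComplexShape.up ℤ)).map χ
  haveI : QuasiIso φB := hB
  have h1 : ConeExact φB (i - 1) i (i + 1) (i + 1 + 1) := coneExact φB i
  have e1 : (P.d (i + 1) (i + 1 + 1)).hom.rTensor B ((tr B _).symm p) = 0 := by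
    rw [← tr_symm_baseChange, hp, map_zero]
  have e2 : (χ.f (i + 1)).hom.rTensor B ((tr B _).symm p) = (K.d i (i + 1)).hom.rTensor B ((tr B _).symm x) := by
    rw [← tr_symm_baseChange, ← tr_symm_baseChange, hx]
  obtain ⟨q, y, hq, hy⟩ := h1 ((tr B _).symm p) ((tr B _).symm x) e1 e2
  refine ⟨tr B _ q, tr B _ y, ?_, ?_⟩
  · rw [← tr_rTensor]
    exact (congrArg (tr B _) hq).trans ((tr B _).apply_symm_apply p)
  · rw [← tr_rTensor, ← tr_rTensor, ← map_add]
    exact (congrArg (tr B _) hy).trans ((tr B _).apply_symm_apply x)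

variable [QuasiIso χ]

theorem exists_cycle (j : ℤ) (z : K.X j) (hz : (K.d j (j + 1)).hom z = 0) :
    ∃ (q : P.X j) (y : K.X (j - 1)), (P.d j (j + 1)).hom q = 0 ∧ (χ.f j).hom q + (K.d (j - 1) j).hom y = z :=
  coneExact χ j 0 z (map_zero _) ((map_zero _).trans hz.symm)

theorem exists_boundary (i j k : ℤ) (hij : i + 1 = j) (hjk : j + 1 = k) (p : P.X j) (hp : (P.d j k).hom p = 0)
    (x : K.X i) (hx : (K.d i j).hom x = (χ.f j).hom p) : ∃ q, (P.d i j).hom q = p := by
  subst hij; subst hjk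
  obtain ⟨q, y, hq, -⟩ := coneExact χ i p x hp hx.symm
  exact ⟨q, hq⟩

theorem exists_boundary_baseChange (B : Type u) [CommRing B] [Algebra A B]
    (hB : QuasiIso (((tensorRight (ModuleCat.of A B)).mapHomologicalComplex (ComplexShape.up ℤ)).map χ))
    (i j k : ℤ) (hij : i + 1 = j) (hjk : j + 1 = k) (p : B ⊗[A] P.X j) (hp : (P.d j k).hom.baseChange B p = 0)
    (x : B ⊗[A] K.X i) (hx : (K.d i j).hom.baseChange B x = (χ.f j).hom.baseChange B p) :
    ∃ q, (P.d i j).hom.baseChange B q = p := by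
  subst hij; subst hjk
  obtain ⟨q, y, hq, -⟩ := coneExact_baseChange χ B hB i p x hp hx.symm
  exact ⟨q, hq⟩

include χ in
/-- Classes move along a quasi-isomorphism. -/
theorem exists_cls {T : Type u} [AddCommGroup T] [Module A T] (j : ℤ)
    (θ : LinearMap.ker (K.d j (j + 1)).hom →ₗ[A] T) (hs : Function.Surjective θ)
    (hk : ∀ z, θ z = 0 ↔ ∃ u, (K.d (j - 1) j).hom u = z.1) :
    ∃ θP : LinearMap.ker (P.d j (j + 1)).hom →ₗ[A] T,
      Function.Surjective θP ∧ ∀ z, θP z = 0 ↔ ∃ u, (P.d (j - 1) j).hom u = z.1 := by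
  have m1 : ∀ w : LinearMap.ker (P.d j (j + 1)).hom, (χ.f j).hom w.1 ∈ LinearMap.ker (K.d j (j + 1)).hom :=
    fun w => by rw [LinearMap.mem_ker, ← comm' χ, w.2, map_zero]
  let c : LinearMap.ker (P.d j (j + 1)).hom →ₗ[A] LinearMap.ker (K.d j (j + 1)).hom :=
    LinearMap.codRestrict _ ((χ.f j).hom.comp (Submodule.subtype _)) m1
  refine ⟨θ.comp c, fun t => ?_, fun w => ?_⟩
  · obtain ⟨z, rfl⟩ := hs t
    obtain ⟨q, y, hq, hy⟩ := exists_cycle χ j z.1 z.2
    refine ⟨⟨q, hq⟩, ?_⟩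
    rw [LinearMap.comp_apply, ← sub_eq_zero, ← map_sub, hk]
    refine ⟨-y, ?_⟩
    show (K.d (j - 1) j).hom (-y) = (χ.f j).hom q - z.1
    rw [map_neg, ← hy]; abel
  · rw [LinearMap.comp_apply, hk]
    constructor
    · rintro ⟨u, hu⟩
      exact exists_boundary χ (j - 1) j (j + 1) (by omega) rfl w.1 w.2 u hu
    · rintro ⟨u, hu⟩
      refine ⟨(χ.f (j - 1)).hom u, ?_⟩
      rw [← comm', hu]
      rfl

/-- Base change data move along a quasi-isomorphism which stays one after base change. -/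
theorem nonempty_bcData (B : Type u) [CommRing B] [Algebra A B]
    (hB : QuasiIso (((tensorRight (ModuleCat.of A B)).mapHomologicalComplex (ComplexShape.up ℤ)).map χ))
    {T T' : Type u} [AddCommGroup T] [Module A T] [AddCommGroup T'] [Module A T'] [Module B T'] {ψ : T →ₗ[A] T'}
    (j : ℤ) (D : BCData (K.d (j - 1) j).hom (K.d j (j + 1)).hom B ψ) :
    Nonempty (BCData (P.d (j - 1) j).hom (P.d j (j + 1)).hom B ψ) := by
  have m1 : ∀ w : LinearMap.ker (P.d j (j + 1)).hom, (χ.f j).hom w.1 ∈ LinearMap.ker (K.d j (j + 1)).hom :=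
    fun w => by rw [LinearMap.mem_ker, ← comm' χ, w.2, map_zero]
  let c : LinearMap.ker (P.d j (j + 1)).hom →ₗ[A] LinearMap.ker (K.d j (j + 1)).hom :=
    LinearMap.codRestrict _ ((χ.f j).hom.comp (Submodule.subtype _)) m1
  have m2 : ∀ w : LinearMap.ker ((P.d j (j + 1)).hom.baseChange B),
      (χ.f j).hom.baseChange B w.1 ∈ LinearMap.ker ((K.d j (j + 1)).hom.baseChange B) := fun w => by
    rw [LinearMap.mem_ker, ← comm_baseChange χ, w.2, map_zero]
  let c' : LinearMap.ker ((P.d j (j + 1)).hom.baseChange B) →ₗ[B] LinearMap.ker ((K.d j (j + 1)).hom.baseChange B) :=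
    LinearMap.codRestrict _ (((χ.f j).hom.baseChange B).comp (Submodule.subtype _)) m2
  refine ⟨{
    θ := D.θ.comp c
    θ_surj := fun t => ?_
    θ_ker := fun w => ?_
    θ' := D.θ'.comp c'
    θ'_surj := fun t => ?_
    θ'_ker := fun w => ?_
    compat := fun z hz hw => ?_ }⟩
  · obtain ⟨z, rfl⟩ := D.θ_surj t
    obtain ⟨q, y, hq, hy⟩ := exists_cycle χ j z.1 z.2
    refine ⟨⟨q, hq⟩, ?_⟩
    rw [LinearMap.comp_apply, ← sub_eq_zero, ← map_sub, D.θ_ker]
    refine ⟨-y, ?_⟩
    show (K.d (j - 1) j).hom (-y) = (χ.f j).hom q - z.1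
    rw [map_neg, ← hy]; abel
  · rw [LinearMap.comp_apply, D.θ_ker]
    constructor
    · rintro ⟨u, hu⟩
      exact exists_boundary χ (j - 1) j (j + 1) (by omega) rfl w.1 w.2 u hu
    · rintro ⟨u, hu⟩
      refine ⟨(χ.f (j - 1)).hom u, ?_⟩
      rw [← comm', hu]
      rfl
  · obtain ⟨z, rfl⟩ := D.θ'_surj t
    obtain ⟨q, y, hq, hy⟩ := coneExact_baseChange χ B hB j 0 z.1 (map_zero _) ((map_zero _).trans z.2.symm)
    refine ⟨⟨q, hq⟩, ?_⟩
    rw [LinearMap.comp_apply, ← sub_eq_zero, ← map_sub, D.θ'_ker]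
    refine ⟨-y, ?_⟩
    show (K.d (j - 1) j).hom.baseChange B (-y) = (χ.f j).hom.baseChange B q - z.1
    rw [map_neg, ← hy]; abel
  · rw [LinearMap.comp_apply, D.θ'_ker]
    constructor
    · rintro ⟨u, hu⟩
      exact exists_boundary_baseChange χ B hB (j - 1) j (j + 1) (by omega) rfl w.1 w.2 u hu
    · rintro ⟨u, hu⟩
      refine ⟨(χ.f (j - 1)).hom.baseChange B u, ?_⟩
      rw [← comm_baseChange, hu]
      rfl
  · have h1 : (1 : B) ⊗ₜ[A] (χ.f j).hom z ∈ LinearMap.ker ((K.d j (j + 1)).hom.baseChange B) := m2 ⟨_, hw⟩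
    exact D.compat ((χ.f j).hom z) (m1 ⟨z, hz⟩) h1

end Groth.L17.BC.Transfer
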