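import Groth.Agent.L17.BC.ClassesMain
import Groth.Agent.L17.BC.Transfer
import Groth.Agent.L17.BC.General

/-!
# A finite free complex for all base change maps over an affine open
-/

set_option autoImplicit false
set_option linter.style.haveILetI false
set_option linter.unusedSectionVars false
set_option backward.isDefEq.respectTransparency false

universe u

open CategoryTheory CategoryTheory.Limits MonoidalCategory AlgebraicGeometry TopologicalSpace Opposite
open scoped TensorProduct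

noncomputable section

namespace Groth.L17.BC.Classes

open Effaced (Cov)

variable {X S : Scheme.{u}} (f : X ⟶ S) {V : S.Opens} (hV : IsAffineOpen V) (F : X.Modules)

/-- A finite free complex computing all base change maps over an affine open of the base. -/
structure FreeBC [HasInjectiveResolutions X.Modules] where
  /-- the complex -/
  L : CochainComplex (ModuleCat.{u} Γ(S, V)) ℤ
  finite : ∀ i, Module.Finite Γ(S, V) (L.X i)
  free : ∀ i, Module.Free Γ(S, V) (L.X i)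
  /-- a degree above which it vanishes -/
  top : ℤ
  zero_above : ∀ i, top < i → Subsingleton (L.X i)
  fiber_cls : ∀ (y : S) (hy : y ∈ V) (p : ℕ),
    letI : Algebra Γ(S, V) (S.residueField y) := (S.evaluation V y hy).hom.toAlgebra
    ∃ q : LinearMap.ker ((L.d (p : ℤ) (p + 1)).hom.baseChange (S.residueField y)) →ₗ[S.residueField y]
        CohIII.fiberH f F y p,
      Function.Surjective q ∧ ∀ z, q z = 0 ↔ ∃ u, (L.d ((p : ℤ) - 1) p).hom.baseChange (S.residueField y) u = z.1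
  rank_eq : ∀ (hV : IsAffineOpen V) (y : S) (hy : y ∈ V) (p : ℕ),
    CohIII.fiberRank f F p y = CohIII.dRank L (p : ℤ) (hV.primeIdealOf ⟨y, hy⟩)
  cls : ∀ (_ : RDer.DerivedLES (Scheme.Modules.pushforward f)) (p : ℕ),
    ∃ θ : LinearMap.ker (L.d (p : ℤ) (p + 1)).hom →ₗ[Γ(S, V)] Γ((Coh.Rpush f p).obj F, V),
      Function.Surjective θ ∧ ∀ z, θ z = 0 ↔ ∃ u, (L.d ((p : ℤ) - 1) p).hom u = z.1
  bcData : ∀ {X' S' : Scheme.{u}} {g : S' ⟶ S} {f' : X' ⟶ S'} {g' : X' ⟶ X} {V' : S'.Opens}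
    (q : Sq f g f' g' V V') [Algebra Γ(S, V) Γ(S', V')], algebraMap Γ(S, V) Γ(S', V') = q.φ.hom →
    ∀ [HasInjectiveResolutions X'.Modules] {w : g' ≫ f = f' ≫ g}
      {Δ : RDer.DerivedLES (Scheme.Modules.pushforward f)} {Δ' : RDer.DerivedLES (Scheme.Modules.pushforward f')}
      {E : CohCmp.SectCmp f Δ} {E' : CohCmp.SectCmp f' Δ'} (B : CohCmp.GenBC f g f' g' w E E') (p : ℕ),
      letI : Module Γ(S, V) Γ((Coh.Rpush f' p).obj ((Scheme.Modules.pullback g').obj F), V') :=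
        Module.compHom _ (algebraMap Γ(S, V) Γ(S', V'))
      ∃ ψl : Γ((Coh.Rpush f p).obj F, V) →ₗ[Γ(S, V)]
          Γ((Coh.Rpush f' p).obj ((Scheme.Modules.pullback g').obj F), V'),
        (∀ t, ψl t = q.ψ B p F t) ∧
          Nonempty (BCData (L.d ((p : ℤ) - 1) p).hom (L.d p (p + 1)).hom Γ(S', V') ψl)

theorem free_bcX {A₀ B : Type u} [CommRing A₀] [CommRing B] (φ : A₀ →+* B) (P : CochainComplex (ModuleCat.{u} A₀) ℤ)
    (i : ℤ) [Module.Free A₀ (P.X i)] : Module.Free B ((CohIII.bcCx φ P).X i) := by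
  letI := φ.toAlgebra
  exact Module.Free.of_equiv (Groth.L01.FlatCx.bcE B (P.X i)).symm

theorem finite_bcX {A₀ B : Type u} [CommRing A₀] [CommRing B] (φ : A₀ →+* B) (P : CochainComplex (ModuleCat.{u} A₀) ℤ)
    (i : ℤ) [Module.Finite A₀ (P.X i)] : Module.Finite B ((CohIII.bcCx φ P).X i) := by
  letI := φ.toAlgebra
  exact Module.Finite.equiv (Groth.L01.FlatCx.bcE B (P.X i)).symm

theorem subsingleton_bcX {A₀ B : Type u} [CommRing A₀] [CommRing B] (φ : A₀ →+* B)
    (P : CochainComplex (ModuleCat.{u} A₀) ℤ) (i : ℤ) (h : IsZero (P.X i)) :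
    Subsingleton ((CohIII.bcCx φ P).X i) :=
  ModuleCat.subsingleton_of_isZero ((ModuleCat.extendScalars φ).map_isZero h)

theorem exists_bcEquiv {A₀ B K : Type u} [CommRing A₀] [CommRing B] [CommRing K] (φ : A₀ →+* B)
    [Algebra B K] (P : CochainComplex (ModuleCat.{u} A₀) ℤ) :
    ∃ ε : ∀ i, K ⊗[B] ((CohIII.bcCx φ P).X i) ≃ₗ[K] (CohIII.bcCx ((algebraMap B K).comp φ) P).X i,
      ∀ (i k : ℤ) t, ((CohIII.bcCx ((algebraMap B K).comp φ) P).d i k).hom (ε i t) =
        ε k (((CohIII.bcCx φ P).d i k).hom.baseChange K t) := by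
  letI : Algebra A₀ B := φ.toAlgebra
  letI : Algebra A₀ K := ((algebraMap B K).comp φ).toAlgebra
  haveI : IsScalarTower A₀ B K := IsScalarTower.of_algebraMap_eq fun _ => rfl
  let Q := CohIII.bcCx (algebraMap A₀ B) P
  let ε' : ∀ i, K ⊗[B] (Q.X i) ≃ₗ[K] K ⊗[A₀] (P.X i) := fun i =>
    (TensorProduct.AlgebraTensorModule.congr (LinearEquiv.refl K K) (Groth.L01.FlatCx.bcE B (P.X i))).trans
      (TensorProduct.AlgebraTensorModule.cancelBaseChange A₀ B K K (P.X i))
  let ε : ∀ i, K ⊗[B] (Q.X i) ≃ₗ[K] (CohIII.bcCx (algebraMap A₀ K) P).X i := fun i =>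
    (ε' i).trans (Groth.L01.FlatCx.bcE K (P.X i)).symm
  suffices hε : ∀ (i k : ℤ) t, ((CohIII.bcCx (algebraMap A₀ K) P).d i k).hom (ε i t) =
      ε k ((Q.d i k).hom.baseChange K t) from ⟨ε, hε⟩
  intro i k t
  apply (Groth.L01.FlatCx.bcE K (P.X k)).injective
  refine (Groth.L01.FlatCx.bcE_dd K P i k _).trans ?_
  refine (congrArg ((P.d i k).hom.baseChange K) ((Groth.L01.FlatCx.bcE K (P.X i)).apply_symm_apply (ε' i t))).trans
    (Eq.trans ?_ ((Groth.L01.FlatCx.bcE K (P.X k)).apply_symm_apply (ε' k ((Q.d i k).hom.baseChange K t))).symm)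
  simp only [ε', LinearEquiv.trans_apply]
  induction t using TensorProduct.induction_on with
  | zero => simp only [map_zero]
  | add a b ha hb => simp only [map_add, ha, hb]
  | tmul b x =>
    show (P.d i k).hom.baseChange K (TensorProduct.AlgebraTensorModule.cancelBaseChange A₀ B K K (P.X i)
        (b ⊗ₜ Groth.L01.FlatCx.bcE B (P.X i) x)) =
      TensorProduct.AlgebraTensorModule.cancelBaseChange A₀ B K K (P.X k)
        (b ⊗ₜ Groth.L01.FlatCx.bcE B (P.X k) ((Q.d i k).hom x))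
    rw [show Groth.L01.FlatCx.bcE B (P.X k) ((Q.d i k).hom x) =
      (P.d i k).hom.baseChange B (Groth.L01.FlatCx.bcE B (P.X i) x) from Groth.L01.FlatCx.bcE_dd B P i k x]
    generalize Groth.L01.FlatCx.bcE B (P.X i) x = y
    induction y using TensorProduct.induction_on with
    | zero => simp only [map_zero, TensorProduct.tmul_zero]
    | add a c ha hc => simp only [map_add, TensorProduct.tmul_add, ha, hc]
    | tmul a x =>
      simp only [TensorProduct.AlgebraTensorModule.cancelBaseChange_tmul, LinearMap.baseChange_tmul]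

/-- Homology after a composite base change, by cycles. -/
theorem exists_homology_cls {A₀ B K : Type u} [CommRing A₀] [CommRing B] [CommRing K] (φ : A₀ →+* B)
    [Algebra B K] (P : CochainComplex (ModuleCat.{u} A₀) ℤ) (j : ℤ) :
    ∃ q : LinearMap.ker (((CohIII.bcCx φ P).d j (j + 1)).hom.baseChange K) →ₗ[K]
        ((CohIII.bcCx ((algebraMap B K).comp φ) P).homology j : Type u),
      Function.Surjective q ∧
        ∀ z, q z = 0 ↔ ∃ u, ((CohIII.bcCx φ P).d (j - 1) j).hom.baseChange K u = z.1 := by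
  obtain ⟨ε, hε⟩ := exists_bcEquiv (K := K) φ P
  let Q := CohIII.bcCx ((algebraMap B K).comp φ) P
  have hn : (ComplexShape.up ℤ).next j = j + 1 := CochainComplex.next _ _
  have hzero : ∀ x : Q.X j, (Q.d j (j + 1)).hom x = 0 → x ∈ Groth.L01.FlatCx.Cyc' Q j := fun x hx => by
    rw [LinearMap.mem_ker, hn]; exact hx
  let e : LinearMap.ker (((CohIII.bcCx φ P).d j (j + 1)).hom.baseChange K) →ₗ[K] Groth.L01.FlatCx.Cyc' Q j :=
    LinearMap.codRestrict _ ((ε j).toLinearMap.comp (Submodule.subtype _)) fun z =>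
      hzero _ ((hε j (j + 1) z.1).trans ((congrArg (ε (j + 1)) z.2).trans (map_zero _)))
  refine ⟨(Groth.L01.FlatCx.cls' Q j).comp e, fun h => ?_, fun z => ?_⟩
  · obtain ⟨x, rfl⟩ := Groth.L01.FlatCx.cls'_surjective Q j h
    have hx : (Q.d j (j + 1)).hom x.1 = 0 := by
      have := x.2
      rw [LinearMap.mem_ker, hn] at this
      exact this
    refine ⟨⟨(ε j).symm x.1, (ε (j + 1)).injective ?_⟩, ?_⟩
    · rw [← hε, LinearEquiv.apply_symm_apply, hx, map_zero]
    · exact congrArg (Groth.L01.FlatCx.cls' Q j) (Subtype.ext ((ε j).apply_symm_apply x.1))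
  · rw [LinearMap.comp_apply, Groth.L01.FlatCx.cls'_eq_zero_iff Q (CochainComplex.prev ℤ j)]
    constructor
    · rintro ⟨y, hy⟩
      refine ⟨(ε (j - 1)).symm y, (ε j).injective ?_⟩
      rw [← hε, LinearEquiv.apply_symm_apply]
      exact hy
    · rintro ⟨v, hv⟩
      exact ⟨ε (j - 1) v, (hε (j - 1) j v).trans (congrArg (ε j) hv)⟩

theorem exists_quasiIso [IsProper f] [LocallyOfFinitePresentation f] [Coh.IsQCoh F]
    (hfl : FlatMod.IsFlatOver f F) (l : GLocal f hV F) :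
    ∃ (c : Cov f (V := V)) (N : ℤ) (χ : CohIII.bcCx l.φ l.m.L ⟶ KF f hV c F),
      let L := CohIII.bcCx l.φ l.m.L
      (∀ i, Module.Finite Γ(S, V) (L.X i)) ∧ (∀ i, Module.Free Γ(S, V) (L.X i)) ∧
      (∀ i, N < i → Subsingleton (L.X i)) ∧ QuasiIso χ ∧
      ∀ M : ModuleCat.{u} Γ(S, V), QuasiIso (((tensorRight M).mapHomologicalComplex (ComplexShape.up ℤ)).map χ) := by
  haveI : Coh.IsQCoh l.F₀ := l.coh.1
  letI : Algebra l.A₀ Γ(S, V) := l.φ.toAlgebra
  let g₀ : ↑(f ⁻¹ᵁ V) ⟶ Spec (CommRingCat.of Γ(S, V)) := fV f hV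
  have sq : IsPullback l.g g₀ l.f₀ (Spec.map (CommRingCat.ofHom (algebraMap l.A₀ Γ(S, V)))) := l.sq
  haveI := isAffineHom_of_isPullback l.f₀ g₀ l.g sq
  haveI := l.m.finite
  let c : Cov f (V := V) :=
    { ι := l.m.ι
      fin := Fintype.ofFinite _
      U := Ub l.g l.m.U
      cover := top_unique fun x _ => by
        obtain ⟨i, hi⟩ := Opens.mem_iSup.1 (l.m.cover.ge (Opens.mem_top (l.g x)))
        exact Opens.mem_iSup.2 ⟨i, hi⟩
      affine := isAffineOpen_iInf_preimage l.g l.m.U l.m.affine }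
  obtain ⟨e⟩ := nonempty_bcCx_iso l.g (Coh.toGlobal l.f₀) (Coh.toGlobal g₀) l.F₀
    (compat_of_isPullback l.f₀ g₀ l.g sq) l.m.U (hasBC_of_isPullback l.f₀ g₀ l.g sq l.F₀) l.m.affine
  let ρ := Coh.toGlobal g₀
  let m : ∀ i, C ρ (Fb l.g l.F₀) c.U i →ₗ[Γ(S, V)] C ρ (FV f (V := V) F) c.U i := fun i =>
    Cochains.mapC ρ c.U l.iso.hom i
  let e' : K ρ (Fb l.g l.F₀) c.U ≅ KF f hV c F :=
    HomologicalComplex.Hom.isoOfComponents
      (fun i => LinearEquiv.toModuleIso
        (LinearEquiv.ofLinearMap (m i) (Cochains.mapC ρ c.U l.iso.inv i)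
          (LinearMap.ext fun y => (Cochains.mapC_comp ρ c.U l.iso.inv l.iso.hom i y).trans
            ((congrArg (fun k => Cochains.mapC ρ c.U k i y) l.iso.inv_hom_id).trans (funext fun a => rfl)))
          (LinearMap.ext fun y => (Cochains.mapC_comp ρ c.U l.iso.hom l.iso.inv i y).trans
            ((congrArg (fun k => Cochains.mapC ρ c.U k i y) l.iso.hom_inv_id).trans (funext fun a => rfl)))))
      fun i j _ => ModuleCat.hom_ext (LinearMap.ext fun z => (Cochains.mapC_d ρ c.U l.iso.hom i j z).symm)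
  haveI := quasiIso_bc Γ(S, V) l.m.φ (l.m.quasiIso _)
  let L := CohIII.bcCx (algebraMap l.A₀ Γ(S, V)) l.m.L
  let χ : L ⟶ KF f hV c F :=
    ((ModuleCat.extendScalars (algebraMap l.A₀ Γ(S, V))).mapHomologicalComplex _).map l.m.φ ≫ e.hom ≫ e'.hom
  haveI hχ : QuasiIso χ := by
    haveI : QuasiIso (e.hom ≫ e'.hom) := inferInstance
    exact quasiIso_comp _ _
  have hfin : ∀ i, Module.Finite Γ(S, V) (L.X i) := fun i =>
    haveI := (l.m.finiteFree i).1; finite_bcX _ _ i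
  have hfree : ∀ i, Module.Free Γ(S, V) (L.X i) := fun i =>
    haveI := (l.m.finiteFree i).2; free_bcX _ _ i
  have hz : ∀ i, l.m.top < i → Subsingleton (L.X i) := fun i hi =>
    subsingleton_bcX _ _ i (l.m.isZero_above i hi)
  haveI : Coh.IsQCoh (FV f (V := V) F) := Scheme.Modules.isQuasicoherent_restrictFunctor _ F
  refine ⟨c, l.m.top, χ, hfin, hfree, hz, hχ, fun M => ?_⟩
  haveI : Finite c.ι := l.m.finite
  refine FlatModel.quasiIso_tensor χ (fun i => haveI := hfree i; inferInstance)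
    (flat_K g₀ c.U (FV f (V := V) F) (fun W hW => flat_sec_FV f hV F hfl hW) c.affine)
    (max l.m.top (Nat.card c.ι : ℤ)) (fun M i hi => ?_)
    (fun M i hi => isZero_T_K g₀ c.U (FV f (V := V) F) c.cover c.affine M i ((le_max_right _ _).trans hi.le)) M
  refine (HomologicalComplex.exactAt_iff_isZero_homology _ _).1 (ShortComplex.exact_of_isZero_X₂ _ ?_)
  haveI := hz i (lt_of_le_of_lt (le_max_left _ _) hi)
  exact (tensorRight M).map_isZero (ModuleCat.isZero_of_subsingleton _)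

theorem exists_isCls [IsSeparated f] [QuasiCompact f] [HasInjectiveResolutions X.Modules] {V : S.Opens}
    (hV : IsAffineOpen V) (c : Cov f (V := V)) (Δ : RDer.DerivedLES (Scheme.Modules.pushforward f)) (p : ℕ) :
    ∀ (G : X.Modules) [Coh.IsQCoh (G.restrict (f ⁻¹ᵁ V).ι)],
      ∃ θ : ZF f hV c G p →ₗ[Γ(S, V)] Γ((Coh.Rpush f p).obj G, V), IsCls f hV c G p p θ := by
  suffices h : ∀ (G : X.Modules) [Coh.IsQCoh (G.restrict (f ⁻¹ᵁ V).ι)],
      ∃ θ : ZF f hV c G p →ₗ[Γ(S, V)] Γ((Coh.Rpush f p).obj G, V),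
        IsCls f hV c G p p θ ∧ NatP f hV c G p p θ from fun G _ => (h G).imp fun θ h => h.1
  induction p with
  | zero =>
    intro G _
    obtain ⟨θ, h1, h2⟩ := isCls_θ0 f hV c G
    exact ⟨θ, h1, natP_zero f hV c G θ h2⟩
  | succ p ih =>
    intro G _
    rw [show ((p + 1 : ℕ) : ℤ) = (p : ℤ) + 1 by push_cast; rfl]
    let T := Effaced.SC f c G
    have hp : Effaced.Prim f hV c T.X₂ := Effaced.prim_SC f hV c G
    haveI : Coh.IsQCoh (T.X₁.restrict (f ⁻¹ᵁ V).ι) := ‹Coh.IsQCoh (G.restrict (f ⁻¹ᵁ V).ι)›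
    haveI : Coh.IsQCoh (T.X₂.restrict (f ⁻¹ᵁ V).ι) := Effaced.isQCoh_C f hV c G
    haveI : Coh.IsQCoh (T.X₃.restrict (f ⁻¹ᵁ V).ι) := Effaced.isQCoh_Q f hV c G
    obtain ⟨θQ, hQ, hn⟩ := ih T.X₃
    obtain ⟨θ, hθ, -⟩ := exists_isCls_succ f hV c Δ (Effaced.shortExact_SC f c G) hp (Int.natCast_nonneg p) p θQ hQ
      (hn T.X₂ hp T.g)
    exact ⟨θ, hθ, natP_succ f hV c G p θ hθ⟩

theorem nonempty_freeBC [IsProper f] [LocallyOfFinitePresentation f] [HasInjectiveResolutions X.Modules]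
    [Coh.IsQCoh F] (hV : IsAffineOpen V) (hfp : CohB1.IsFP F) (hfl : FlatMod.IsFlatOver f F) :
    Nonempty (FreeBC f (V := V) F) := by
  obtain ⟨l⟩ := nonempty_glocal f hV F hfp hfl
  obtain ⟨c, N, χ, hfin, hfree, hz, hχ, hB⟩ := exists_quasiIso f hV F hfl l
  refine ⟨⟨CohIII.bcCx l.φ l.m.L, hfin, hfree, N, hz, fun y hy p => ?_,
    fun _ y hy p => ?_, fun Δ p => ?_, ?_⟩⟩
  · letI : Algebra Γ(S, V) (S.residueField y) := (S.evaluation V y hy).hom.toAlgebra
    obtain ⟨e⟩ := l.exists_fibre_equiv hy p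
    obtain ⟨q, hq, hq0⟩ := exists_homology_cls (K := S.residueField y) l.φ l.m.L (p : ℤ)
    refine ⟨e.toLinearMap.comp q, e.surjective.comp hq, fun z => ?_⟩
    exact (map_eq_zero_iff e e.injective).trans (hq0 z)
  · letI : Algebra l.A₀ Γ(S, V) := l.φ.toAlgebra
    rw [l.fiberRank_eq hy p]
    exact (Groth.L01.FlatCx.dRank_baseChange (A' := Γ(S, V)) l.m.L (p : ℤ) (hV.primeIdealOf ⟨y, hy⟩)).symm
  · obtain ⟨θ, hθ⟩ := exists_isCls f hV c Δ p F
    exact Transfer.exists_cls χ (p : ℤ) θ hθ.surj hθ.ker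
  intro X' S' g f' g' V' q _ halg _ w Δ Δ' E E' B p
  haveI : IsSeparated f' := MorphismProperty.of_isPullback q.pb inferInstance
  haveI : QuasiCompact f' := MorphismProperty.of_isPullback q.pb inferInstance
  haveI : Coh.IsQCoh (F.restrict (f ⁻¹ᵁ V).ι) := Scheme.Modules.isQuasicoherent_restrictFunctor _ F
  letI : Module Γ(S, V) Γ((Coh.Rpush f' p).obj ((Scheme.Modules.pullback g').obj F), V') :=
    Module.compHom _ (algebraMap Γ(S, V) Γ(S', V'))
  obtain ⟨ψl, hψ, ⟨D⟩⟩ := q.exists_bcData halg c B p F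
  exact ⟨ψl, hψ, Transfer.nonempty_bcData χ Γ(S', V') (hB _) (p : ℤ) D⟩

end Groth.L17.BC.Classes
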