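import Groth.Agent.L17.BC.TensorA
import Groth.Agent.L16.CohSupport
import Mathlib.LinearAlgebra.TensorProduct.Pi

/-!
# The natural isomorphism with the homology functors of a finite free complex
-/

set_option autoImplicit false
set_option linter.style.haveILetI false
set_option linter.unusedSectionVars false
set_option backward.isDefEq.respectTransparency false

universe u

open CategoryTheory CategoryTheory.Limits MonoidalCategory AlgebraicGeometry TopologicalSpace Opposite
open scoped TensorProduct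

noncomputable section

namespace Groth.L17.BC.TensorA

open Groth.L01.FlatCx (tMap tMap_tmul tMap_natural)

variable {A : Type u} [CommRing A] {X : Scheme.{u}} [X.Over (Spec (CommRingCat.of A))] (F : X.Modules)
  {ι : Type u} (U : ι → X.Opens)

/-- Cochains of the functor, as a functor of `A`-modules. -/
def CFun (i : ℤ) : ModuleCat.{u} A ⥤ ModuleCat.{u} A where
  obj M := ModuleCat.of A (C (ρ A X) ((G F).obj M) U i)
  map g := ModuleCat.ofHom (Cochains.mapC (ρ A X) U ((G F).map g) i)
  map_id M := ModuleCat.hom_ext (LinearMap.ext fun z => funext fun b => by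
    show ((G F).map (𝟙 M)).app _ (z b) = z b
    rw [(G F).map_id]; rfl)
  map_comp g h := ModuleCat.hom_ext (LinearMap.ext fun z => funext fun b => by
    show ((G F).map (g ≫ h)).app _ (z b) = ((G F).map h).app _ (((G F).map g).app _ (z b))
    rw [(G F).map_comp]; rfl)

instance (i : ℤ) : (CFun (A := A) F U i).Additive where
  map_add {M N g h} := ModuleCat.hom_ext (LinearMap.ext fun z => funext fun b => by
    show ((G F).map (g + h)).app _ (z b) = ((G F).map g).app _ (z b) + ((G F).map h).app _ (z b)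
    rw [(G F).map_add]; rfl)

instance (i : ℤ) : (CFun (A := A) F U i).Linear A where
  map_smul g a := ModuleCat.hom_ext (LinearMap.ext fun z => funext fun b =>
    congr($((SecFun (A := A) F (opn U b.1)).map_smul a g) (z b)))

/-- The unit object. -/
abbrev one (A : Type u) [CommRing A] : ModuleCat.{u} A := ModuleCat.of A A

theorem isAffine_opn (haff : ∀ (n : ℕ) (a : Fin (n + 1) → ι), IsAffineOpen (⨅ k, U (a k))) {i : ℤ}
    (b : Idx ι i) : IsAffineOpen (opn U b.1) := by
  have hpos := List.length_pos_iff.2 b.2.2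
  obtain ⟨n, hn⟩ : ∃ n, b.1.length = n + 1 := ⟨b.1.length - 1, by omega⟩
  have : opn U b.1 = ⨅ k : Fin (n + 1), U (b.1[k.1]'(by omega)) := by
    refine le_antisymm (le_iInf fun k => iInf_le_of_le ⟨k.1, by omega⟩ le_rfl)
      (le_iInf fun k => iInf_le_of_le ⟨k.1, by omega⟩ le_rfl)
  rw [this]
  exact haff n _

variable [Coh.IsQCoh F] (haff : ∀ (n : ℕ) (a : Fin (n + 1) → ι), IsAffineOpen (⨅ k, U (a k))) [Finite ι]

include haff in
theorem bijective_tMap_CFun (i : ℤ) (M : ModuleCat.{u} A) : Function.Bijective (tMap (CFun (A := A) F U i) M) := by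
  classical
  haveI : Finite (Idx ι i) := finite_idx i
  haveI : Fintype (Idx ι i) := Fintype.ofFinite _
  let S := fun b : Idx ι i => Sec (ρ A X) ((G F).obj (one A)) (opn U b.1)
  let e : (∀ b, S b) ⊗[A] M ≃ₗ[A] ∀ b, S b ⊗[A] M := TensorProduct.piLeft (R := A) (M := S) (N := (M : Type u))
  let q : ∀ b : Idx ι i, S b ⊗[A] M →ₗ[A] (SecFun (A := A) F (opn U b.1)).obj M := fun b =>
    tMap (SecFun (A := A) F (opn U b.1)) M
  have h : ⇑(tMap (CFun (A := A) F U i) M) = fun t => Pi.map (fun b => q b) (e t) := by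
    have : tMap (CFun (A := A) F U i) M = (LinearMap.piMap q).comp e.toLinearMap :=
      TensorProduct.ext' fun z m => funext fun b => by
        show _ = q b (e (z ⊗ₜ m) b)
        rw [show e (z ⊗ₜ m) b = z b ⊗ₜ m by simp [e, TensorProduct.piLeft]]
        rfl
    exact funext fun t => LinearMap.congr_fun this t
  rw [h]
  exact (Function.Bijective.piMap fun b => bijective_tMap F (isAffine_opn U haff b) M).comp e.bijective

/-- The tensored complex maps to the complex of the functor. -/
def comp (M : ModuleCat.{u} A) :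
    CohIII.tensorObj (K (ρ A X) ((G F).obj (one A)) U) M ⟶ K (ρ A X) ((G F).obj M) U where
  f i := ModuleCat.ofHom (tMap (CFun (A := A) F U i) M)
  comm' i j _ := ModuleCat.hom_ext (TensorProduct.ext' fun z m => by
    show (K (ρ A X) ((G F).obj M) U).d i j (Cochains.mapC (ρ A X) U ((G F).map _) i z) =
      Cochains.mapC (ρ A X) U ((G F).map _) j ((K (ρ A X) ((G F).obj (one A)) U).d i j z)
    exact (Cochains.mapC_d (ρ A X) U _ i j z).symm)

include haff in
theorem isIso_comp (M : ModuleCat.{u} A) : IsIso (comp (A := A) F U M) := by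
  haveI : ∀ i, IsIso ((comp (A := A) F U M).f i) := fun i =>
    (ConcreteCategory.isIso_iff_bijective _).2 (bijective_tMap_CFun F U haff i M)
  exact HomologicalComplex.Hom.isIso_of_components _

theorem comp_natural {M N : ModuleCat.{u} A} (g : M ⟶ N) :
    comp (A := A) F U M ≫ mapK (ρ A X) U ((G F).map g) =
      CohIII.tensorMap (K (ρ A X) ((G F).obj (one A)) U) g ≫ comp (A := A) F U N := by
  refine HomologicalComplex.hom_ext _ _ fun i => ModuleCat.hom_ext ?_
  refine TensorProduct.ext' fun z m => ?_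
  show Cochains.mapC (ρ A X) U ((G F).map g) i (tMap (CFun (A := A) F U i) M (z ⊗ₜ m)) =
    tMap (CFun (A := A) F U i) N (z ⊗ₜ g.hom m)
  exact tMap_natural (CFun (A := A) F U i) g (z ⊗ₜ m)

variable (L : CochainComplex (ModuleCat.{u} A) ℤ) (χ : L ⟶ K (ρ A X) ((G F).obj (one A)) U)
  (hχ : ∀ M : ModuleCat.{u} A, QuasiIso (((tensorRight M).mapHomologicalComplex (ComplexShape.up ℤ)).map χ))
  (hU : ⨆ i, U i = ⊤)

include haff hχ hU in
/-- A complex computing the Čech complex after every tensor product computes the cohomology functors. -/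
theorem nonempty_iso_TFun (p : ℕ) :
    Nonempty (G (A := A) F ⋙ CohIII.HAb X p ≅
      CohIII.TFun L (p : ℤ) ⋙ forget₂ (ModuleCat.{u} A) AddCommGrpCat.{u}) := by
  obtain ⟨e, he⟩ := exists_HH_K_natural (ρ A X) U hU haff p
  let ψ : ∀ M, CohIII.tensorObj L M ⟶ K (ρ A X) ((G F).obj M) U := fun M =>
    ((tensorRight M).mapHomologicalComplex (ComplexShape.up ℤ)).map χ ≫ comp F U M
  have hψ : ∀ M, IsIso (HomologicalComplex.homologyMap (ψ M) (p : ℤ)) := fun M => by
    haveI := isIso_comp F U haff M
    haveI : IsIso (HomologicalComplex.homologyMap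
        (((tensorRight M).mapHomologicalComplex (ComplexShape.up ℤ)).map χ) (p : ℤ)) :=
      (quasiIsoAt_iff_isIso_homologyMap _ (p : ℤ)).1 ((hχ M).quasiIsoAt (p : ℤ))
    haveI : IsIso (HomologicalComplex.homologyMap (comp (A := A) F U M) (p : ℤ)) :=
      ((HomologicalComplex.homologyFunctor _ _ (p : ℤ)).mapIso (asIso (comp (A := A) F U M))).isIso_hom
    show IsIso (HomologicalComplex.homologyMap (_ ≫ _) (p : ℤ))
    rw [HomologicalComplex.homologyMap_comp]
    infer_instance
  have hnat : ∀ {M N : ModuleCat.{u} A} (g : M ⟶ N),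
      ψ M ≫ mapK (ρ A X) U ((G F).map g) = CohIII.tensorMap L g ≫ ψ N := fun {M N} g => by
    show (_ ≫ comp F U M) ≫ _ = _ ≫ (_ ≫ comp F U N)
    rw [Category.assoc, comp_natural, ← Category.assoc, ← Category.assoc]
    refine congrArg (· ≫ comp F U N) ?_
    exact ((NatTrans.mapHomologicalComplex ((tensoringRight (ModuleCat.{u} A)).map g)
      (ComplexShape.up ℤ)).naturality χ)
  let ε : ∀ M, (forget₂ (ModuleCat.{u} A) AddCommGrpCat.{u}).obj ((CohIII.TFun L (p : ℤ)).obj M) ≅
      (CohIII.HAb X p).obj ((G F).obj M) := fun M =>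
    haveI := hψ M
    (forget₂ (ModuleCat.{u} A) AddCommGrpCat.{u}).mapIso (asIso (HomologicalComplex.homologyMap (ψ M) (p : ℤ))) ≪≫
      AddEquiv.toAddCommGrpIso (X := (forget₂ (ModuleCat.{u} A) AddCommGrpCat.{u}).obj
          ((K (ρ A X) ((G F).obj M) U).homology (p : ℤ)))
        (Y := (CohIII.HAb X p).obj ((G F).obj M)) (e _ (isQCoh_G F M))
  refine ⟨(NatIso.ofComponents ε fun {M N} g => ?_).symm⟩
  refine ConcreteCategory.hom_ext _ _ fun x => ?_
  show e _ (isQCoh_G F N) (HomologicalComplex.homologyMap (ψ N) (p : ℤ)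
      (HomologicalComplex.homologyMap (CohIII.tensorMap L g) (p : ℤ) x)) =
    (CohIII.HAb X p).map ((G F).map g) (e _ (isQCoh_G F M) (HomologicalComplex.homologyMap (ψ M) (p : ℤ) x))
  rw [← he (isQCoh_G F M) (isQCoh_G F N)]
  refine congrArg (e _ (isQCoh_G F N)) ?_
  have := (HomologicalComplex.homologyMap_comp (ψ M) (mapK (ρ A X) U ((G F).map g)) (p : ℤ)).symm.trans
    ((congrArg (fun k => HomologicalComplex.homologyMap k (p : ℤ)) (hnat g)).trans
      (HomologicalComplex.homologyMap_comp _ _ _))
  exact congr($(this) x).symm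

variable (A X) in
/-- The value at the ring is the module. -/
theorem nonempty_G_one : Nonempty ((G (A := A) F).obj (one A) ≅ F) := by
  exact ⟨Groth.L00.Tensor.tensorIso ((Scheme.Modules.pullback _).mapIso
      (tildeSelf (R := CommRingCat.of A)) ≪≫ Groth.L29.LocFree.pullbackUnitIso _) (Iso.refl F) ≪≫
    Groth.L00.Tensor.tensorUnitLeft F⟩

end Groth.L17.BC.TensorA

namespace Groth.L17.BC.TensorA

variable {A : Type u} [CommRing A] [IsNoetherianRing A] {X : Scheme.{u}} [X.Over (Spec (CommRingCat.of A))]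
  [IsProper (X ↘ Spec (CommRingCat.of A))] (F : X.Modules)

/-- The cohomology functors of a flat coherent module are the homology functors of a finite free complex. -/
theorem exists_complex (hF : Coh.IsCoh F) (hfl : FlatMod.IsFlatOver (X ↘ Spec (CommRingCat.of A)) F) :
    ∃ m : Model (X ↘ Spec (CommRingCat.of A)) F, ∀ p : ℕ,
      Nonempty (CohIII.tensorAFunctor A F ⋙ CohIII.HAb X p ≅
        CohIII.TFun m.L (p : ℤ) ⋙ forget₂ (ModuleCat.{u} A) AddCommGrpCat.{u}) := by
  haveI : Coh.IsQCoh F := hF.1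
  obtain ⟨m⟩ := nonempty_model (X ↘ Spec (CommRingCat.of A)) F hF
    (fun V hV => flat_sec (X ↘ Spec (CommRingCat.of A)) F hfl hV)
  haveI := m.finite
  obtain ⟨e⟩ := nonempty_G_one A X F
  refine ⟨m, fun p => nonempty_iso_TFun F m.U m.affine m.L (m.φ ≫ mapK (ρ A X) m.U e.inv) (fun M => ?_) m.cover p⟩
  haveI := m.quasiIso M
  haveI : IsIso (mapK (ρ A X) m.U e.inv) :=
    ⟨mapK (ρ A X) m.U e.hom, by
      refine HomologicalComplex.hom_ext _ _ fun i => ModuleCat.hom_ext (LinearMap.ext fun z => ?_)
      exact (Cochains.mapC_comp (ρ A X) m.U e.inv e.hom i z).trans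
        ((congrArg (fun k => Cochains.mapC (ρ A X) m.U k i z) e.inv_hom_id).trans (funext fun b => rfl)), by
      refine HomologicalComplex.hom_ext _ _ fun i => ModuleCat.hom_ext (LinearMap.ext fun z => ?_)
      exact (Cochains.mapC_comp (ρ A X) m.U e.hom e.inv i z).trans
        ((congrArg (fun k => Cochains.mapC (ρ A X) m.U k i z) e.hom_inv_id).trans (funext fun b => rfl))⟩
  rw [Functor.map_comp]
  haveI : IsIso (((tensorRight M).mapHomologicalComplex (ComplexShape.up ℤ)).map (mapK (ρ A X) m.U e.inv)) :=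
    Functor.map_isIso _ _
  refine ⟨fun i => (quasiIsoAt_iff_isIso_homologyMap _ i).2 ?_⟩
  rw [HomologicalComplex.homologyMap_comp]
  haveI : IsIso (HomologicalComplex.homologyMap
      (((tensorRight M).mapHomologicalComplex (ComplexShape.up ℤ)).map m.φ) i) :=
    (quasiIsoAt_iff_isIso_homologyMap _ i).1 ((m.quasiIso M).quasiIsoAt i)
  haveI : IsIso (HomologicalComplex.homologyMap
      (((tensorRight M).mapHomologicalComplex (ComplexShape.up ℤ)).map (mapK (ρ A X) m.U e.inv)) i) :=
    ((HomologicalComplex.homologyFunctor _ _ i).mapIso (asIso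
      (((tensorRight M).mapHomologicalComplex (ComplexShape.up ℤ)).map (mapK (ρ A X) m.U e.inv)))).isIso_hom
  infer_instance

end Groth.L17.BC.TensorA
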