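import Groth.Agent.L17.BC.TensorAHom
import Groth.Agent.L01.FlatCx.Local
import Groth.Agent.L01.FlatCx.Corep
import Groth.Agent.L22.QuotLength

/-!
# Transfer along the isomorphism with the homology functors of a finite free complex
-/

set_option autoImplicit false
set_option linter.style.haveILetI false
set_option linter.unusedSectionVars false
set_option backward.isDefEq.respectTransparency false

universe u

open CategoryTheory CategoryTheory.Limits AlgebraicGeometry Opposite

noncomputable section

namespace Groth.L17.BC.Exchange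

section transfer

variable {A : Type u} [CommRing A] {T : ModuleCat.{u} A ⥤ AddCommGrpCat.{u}} {S : ModuleCat.{u} A ⥤ ModuleCat.{u} A}
  (e : T ≅ S ⋙ forget₂ (ModuleCat.{u} A) AddCommGrpCat.{u})

/-- The components. -/
def eApp (M : ModuleCat.{u} A) : T.obj M ≃+ S.obj M := (e.app M).addCommGroupIsoToAddEquiv

theorem eApp_natural {M N : ModuleCat.{u} A} (g : M ⟶ N) (x : T.obj M) :
    eApp e N ((T.map g).hom x) = (S.map g).hom (eApp e M x) :=
  congr($(e.hom.naturality g) x)

include e in
theorem surjective_map_iff {M N : ModuleCat.{u} A} (g : M ⟶ N) :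
    Function.Surjective (T.map g).hom ↔ Function.Surjective (S.map g).hom := by
  have h : ⇑(S.map g).hom ∘ eApp e M = eApp e N ∘ ⇑(T.map g).hom := funext fun x => (eApp_natural e g x).symm
  rw [← (eApp e M).surjective.of_comp_iff (S.map g).hom, h,
    Function.Surjective.of_comp_iff' (eApp e N).bijective]

include e in
theorem injective_map_iff {M N : ModuleCat.{u} A} (g : M ⟶ N) :
    Function.Injective (T.map g).hom ↔ Function.Injective (S.map g).hom := by
  have h : ⇑(S.map g).hom ∘ eApp e M = eApp e N ∘ ⇑(T.map g).hom := funext fun x => (eApp_natural e g x).symm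
  rw [← Function.Injective.of_comp_iff' (S.map g).hom (eApp e M).bijective, h,
    (eApp e N).injective.of_comp_iff]

include e in
theorem preservesEpi_iff : T.PreservesEpimorphisms ↔ S.PreservesEpimorphisms := by
  refine ⟨fun h => ⟨fun g hg => ?_⟩, fun h => ⟨fun g hg => ?_⟩⟩
  · rw [ModuleCat.epi_iff_surjective, ← surjective_map_iff e]
    exact (AddCommGrpCat.epi_iff_surjective _).1 (T.map_epi g)
  · rw [AddCommGrpCat.epi_iff_surjective]
    exact (surjective_map_iff e g).2 ((ModuleCat.epi_iff_surjective _).1 (S.map_epi g))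

include e in
theorem preservesMono_iff : T.PreservesMonomorphisms ↔ S.PreservesMonomorphisms := by
  refine ⟨fun h => ⟨fun g hg => ?_⟩, fun h => ⟨fun g hg => ?_⟩⟩
  · rw [ModuleCat.mono_iff_injective, ← injective_map_iff e]
    exact (AddCommGrpCat.mono_iff_injective _).1 (T.map_mono g)
  · rw [AddCommGrpCat.mono_iff_injective]
    exact (injective_map_iff e g).2 ((ModuleCat.mono_iff_injective _).1 (S.map_mono g))

end transfer

variable {A : Type u} [CommRing A]

theorem preservesMono_coyoneda (Q : ModuleCat.{u} A) :
    ((linearCoyoneda A (ModuleCat.{u} A)).obj (op Q)).PreservesMonomorphisms :=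
  ⟨fun g hg => (ModuleCat.mono_iff_injective _).2 fun a b (h : (a : Q ⟶ _) ≫ g = b ≫ g) =>
    (cancel_mono g).1 h⟩

/-- A module which is finite and killed by a power of the maximal ideal has finite length. -/
theorem length_ne_top_of_pow [IsNoetherianRing A] [IsLocalRing A] (M : Type u) [AddCommGroup M] [Module A M]
    [Module.Finite A M] (n : ℕ) (h : ∀ a ∈ IsLocalRing.maximalIdeal A ^ n, ∀ x : M, a • x = 0) :
    Module.length A M ≠ ⊤ := by
  refine Groth.L22.QuotLength.length_ne_top_of_support M fun p hp => ?_
  rw [Module.support_eq_zeroLocus] at hp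
  refine le_antisymm (IsLocalRing.le_maximalIdeal p.2.ne_top) (p.2.le_of_pow_le (n := n) ?_)
  exact le_trans (fun a ha => Module.mem_annihilator.2 (h a ha)) hp

section Geometry

variable {X : Scheme.{u}} [X.Over (Spec (CommRingCat.of A))] {F : X.Modules} {p : ℕ}
  {S : ModuleCat.{u} A ⥤ ModuleCat.{u} A}
  (e : CohIII.tensorAFunctor A F ⋙ CohIII.HAb X p ≅ S ⋙ forget₂ (ModuleCat.{u} A) AddCommGrpCat.{u})

/-- An isomorphism of functors to abelian groups with a linear functor is linear on each module. -/
def linEquiv [S.Additive] [S.Linear A] (M : ModuleCat.{u} A) :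
    Coh.HH X ((CohIII.tensorAFunctor A F).obj M) p ≃ₗ[A] S.obj M :=
  { (eApp e M : _ ≃+ S.obj M) with
    map_smul' := fun a x => by
      have h := eApp_natural e (a • 𝟙 M) x
      rw [S.map_smul, S.map_id] at h
      refine Eq.trans ?_ h
      refine congrArg (eApp e M) ?_
      show a • x = (CohIII.HAb X p).map ((TensorA.G (A := A) F).map (a • 𝟙 M)) x
      rw [TensorA.G_smul_id]
      exact (Groth.L16.Rees.hmap_smulMod ..).symm }

include e in
theorem length_eq [S.Additive] [S.Linear A] (M : ModuleCat.{u} A) :
    Module.length A (Coh.HH X ((CohIII.tensorAFunctor A F).obj M) p) = Module.length A (S.obj M) :=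
  (linEquiv e M).length_eq

end Geometry

section Model

variable [IsNoetherianRing A] {X : Scheme.{u}} {f : X ⟶ Spec (CommRingCat.of A)} [IsProper f] {F : X.Modules}
  (m : Model f F)

open Groth.L01.FlatCx

theorem next_eq (j : ℤ) : (ComplexShape.up ℤ).next j = j + 1 := CochainComplex.next ℤ j

theorem prev_eq (j : ℤ) : (ComplexShape.up ℤ).prev (j + 1) = j := (ComplexShape.up ℤ).prev_eq' rfl

include m in
/-- Right exactness in one degree is left exactness in the next. -/
theorem epi_iff_mono_succ (j : ℤ) :
    (CohIII.TFun m.L j).PreservesEpimorphisms ↔ (CohIII.TFun m.L (j + 1)).PreservesMonomorphisms :=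
  preservesEpi_iff_preservesMono m.L (next_eq j) (prev_eq j) m.flat_X

/-- Over a local base, right exactness is tested at the residue field. -/
theorem epi_iff_surjective_residue [IsLocalRing A] (j : ℤ) :
    (CohIII.TFun m.L j).PreservesEpimorphisms ↔ Function.Surjective ((CohIII.TFun m.L j).map
      (ModuleCat.ofHom (Algebra.linearMap A (IsLocalRing.ResidueField A)))).hom := by
  haveI := (m.finiteFree j).1
  haveI := (m.finiteFree (j + 1)).1
  exact preservesEpi_iff_surjective_residue m.L (next_eq j) (prev_eq j) m.flat_X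

theorem preservesEpi_of_neg {j : ℤ} (hj : j < 0) : (CohIII.TFun m.L j).PreservesEpimorphisms :=
  ⟨fun {M N} g _ => (ModuleCat.epi_iff_surjective _).2 fun y =>
    ⟨0, @Subsingleton.elim _ (ModuleCat.subsingleton_of_isZero (m.isZero_T_of_neg N hj)) _ _⟩⟩

/-- A left exact one is corepresented by a finite module. -/
theorem exists_corep (j : ℤ) (h : (CohIII.TFun m.L j).PreservesMonomorphisms) :
    ∃ Q : ModuleCat.{u} A, Module.Finite A Q ∧
      Nonempty (CohIII.TFun m.L j ≅ (linearCoyoneda A (ModuleCat.{u} A)).obj (op Q)) := by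
  have hi : (ComplexShape.up ℤ).prev j = j - 1 := CochainComplex.prev ℤ j
  haveI := (m.finiteFree j).1
  haveI := (m.finiteFree (j + 1)).1
  haveI := (m.finiteFree (j + 1)).2
  haveI := (Groth.L01.FlatCx.preservesMono_iff m.L hi m.flat_X).mp h
  haveI : Module.FinitePresentation A (Coker m.L (j - 1) j) := Module.finitePresentation_of_finite A _
  haveI : Module.Projective A (Coker m.L (j - 1) j) := Module.Flat.projective_of_finitePresentation
  obtain ⟨e⟩ := nonempty_corep_iso m.L hi (next_eq j)
  exact ⟨_, finite_of_iso_coyoneda m.L j m.flat_X _ e, ⟨e⟩⟩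

end Model

section FibreRank

variable [IsNoetherianRing A] {X : Scheme.{u}} {f : X ⟶ Spec (CommRingCat.of A)} [IsProper f] {F : X.Modules}
  (m : Model f F)

open PrimeSpectrum in
theorem fiberRank_eq_dRank [Coh.IsQCoh F] (y : Spec (CommRingCat.of A)) (p : ℕ) :
    CohIII.fiberRank f F p y = CohIII.dRank m.L (p : ℤ) (y : PrimeSpectrum A) := by
  let S := Spec (CommRingCat.of A)
  let φ : CommRingCat.of A ⟶ S.residueField y := Spec.preimage (S.fromSpecResidueField y)
  letI : Algebra A (S.residueField y) := φ.hom.toAlgebra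
  have hφ : Spec.map (CommRingCat.ofHom (algebraMap A (S.residueField y))) = S.fromSpecResidueField y :=
    Spec.map_preimage _
  let f' : f.fiber y ⟶ Spec (CommRingCat.of (S.residueField y)) := f.fiberToSpecResidueField y
  have sq : IsPullback (f.fiberι y) f' f (Spec.map (CommRingCat.ofHom (algebraMap A (S.residueField y)))) := by
    rw [hφ]
    exact IsPullback.of_hasPullback f (S.fromSpecResidueField y)
  have hpt : PrimeSpectrum.comap (algebraMap A (S.residueField y)) ⊥ = y :=
    (congrArg (fun ψ : Spec (S.residueField y) ⟶ S => ψ (⊥ : PrimeSpectrum (S.residueField y))) hφ).trans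
      (Scheme.fromSpecResidueField_apply _ _)
  rw [← hpt]
  rw [← m.finrank_eq_dRank f' (f.fiberι y) sq p, hpt]
  rfl

end FibreRank

end Groth.L17.BC.Exchange
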