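import Groth.Agent.L17.BC.PullSec
import Groth.Agent.L10.ModAcyc
import Groth.Prelude.Def_CohCmp

/-!
# Pullback of classes: degree zero and connecting homomorphisms
-/

set_option autoImplicit false
set_option linter.style.haveILetI false
set_option linter.unusedSectionVars false
set_option backward.isDefEq.respectTransparency false

universe u

open CategoryTheory AlgebraicGeometry TopologicalSpace Opposite Abelian

noncomputable section

namespace Groth.L17.BC.PullClass

open Groth.L18.Frame (rs rs_rs rs_self pull pull_rs)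

section Top

variable {X Y : TopCat.{u}} (f : X ⟶ Y)

theorem pullAb_natural {M N : CohTop.Ab Y} (φ : M ⟶ N) (p : ℕ) (x : Sheaf.H M p) :
    CohPull.pullAb f N p (Sheaf.H.map φ p x) = Sheaf.H.map ((CohPull.inv f).map φ) p (CohPull.pullAb f M p x) := by
  show (Ext.mk₀ (CohPull.oneTo f)).comp ((x.comp (Ext.mk₀ φ) (add_zero p)).mapExactFunctor (CohPull.inv f))
      (zero_add p) =
    ((Ext.mk₀ (CohPull.oneTo f)).comp (x.mapExactFunctor (CohPull.inv f)) (zero_add p)).comp
      (Ext.mk₀ ((CohPull.inv f).map φ)) (add_zero p)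
  rw [Ext.mapExactFunctor_comp, Ext.mapExactFunctor_mk₀, Ext.comp_assoc_of_third_deg_zero]

theorem pullAb_extClass {S : ShortComplex (CohTop.Ab Y)} (hS : S.ShortExact) (p : ℕ) (x : Sheaf.H S.X₃ p) :
    CohPull.pullAb f S.X₁ (p + 1) (x.comp hS.extClass rfl) =
      (CohPull.pullAb f S.X₃ p x).comp (hS.map_of_exact (CohPull.inv f)).extClass rfl := by
  show (Ext.mk₀ (CohPull.oneTo f)).comp ((x.comp hS.extClass rfl).mapExactFunctor (CohPull.inv f))
      (zero_add (p + 1)) =
    ((Ext.mk₀ (CohPull.oneTo f)).comp (x.mapExactFunctor (CohPull.inv f)) (zero_add p)).comp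
      (hS.map_of_exact (CohPull.inv f)).extClass rfl
  rw [Ext.mapExactFunctor_comp, Ext.mapExactFunctor_extClass]
  exact (Ext.comp_assoc _ _ _ (zero_add p) rfl (by omega)).symm

theorem map_extClass {S T : ShortComplex (CohTop.Ab X)} (hS : S.ShortExact) (hT : T.ShortExact) (τ : S ⟶ T)
    (p : ℕ) (x : Sheaf.H S.X₃ p) :
    (Sheaf.H.map τ.τ₃ p x).comp hT.extClass rfl = Sheaf.H.map τ.τ₁ (p + 1) (x.comp hS.extClass rfl) := by
  show (x.comp (Ext.mk₀ τ.τ₃) (add_zero p)).comp hT.extClass rfl =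
    (x.comp hS.extClass rfl).comp (Ext.mk₀ τ.τ₁) (add_zero (p + 1))
  rw [Ext.comp_assoc_of_second_deg_zero, Ext.comp_assoc_of_third_deg_zero,
    ShortComplex.ShortExact.extClass_naturality hS hT τ]

end Top

/-- The underlying abelian sheaf, on `X.Modules`. -/
abbrev toAbM (X : Scheme.{u}) : X.Modules ⥤ CohTop.Ab (X : Scheme.{u}) := SheafOfModules.toSheaf X.ringCatSheaf

instance toAbM_additive (X : Scheme.{u}) : (toAbM X).Additive where
  map_add := by
    intros
    rfl

variable {X Y : Scheme.{u}} (g : X ⟶ Y)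

theorem shortExact_toAbOn (U : X.Opens) {S : ShortComplex X.Modules} (hS : S.ShortExact) :
    (S.map (CohCmp.toAbOn X U)).ShortExact :=
  Groth.L10.ModAcyc.shortExact_toSheaf _ (hS.map_of_exact (Scheme.Modules.restrictFunctor U.ι))

theorem theta_natural {M N : Y.Modules} (φ : M ⟶ N) :
    (CohPull.inv g.base).map ((SheafOfModules.toSheaf Y.ringCatSheaf).map φ) ≫ CohPull.theta g N =
      CohPull.theta g M ≫ (SheafOfModules.toSheaf X.ringCatSheaf).map ((Scheme.Modules.pullback g).map φ) := by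
  unfold CohPull.theta
  erw [← Adjunction.homEquiv_naturality_left_symm, ← Adjunction.homEquiv_naturality_right_symm]
  refine congrArg _ ?_
  have h := congrArg (SheafOfModules.toSheaf Y.ringCatSheaf).map
    ((Scheme.Modules.pullbackPushforwardAdjunction g).unit.naturality φ)
  exact ((Functor.map_comp _ _ _).symm.trans h).trans (Functor.map_comp _ _ _)

theorem pullMod_natural {M N : Y.Modules} (φ : M ⟶ N) (p : ℕ) (x : Coh.HH Y M p) :
    CohPull.pullMod g N p (CohPull.mapH φ p x) =
      CohPull.mapH ((Scheme.Modules.pullback g).map φ) p (CohPull.pullMod g M p x) := by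
  show Sheaf.H.map (CohPull.theta g N) p (CohPull.pullAb g.base _ p (Sheaf.H.map _ p x)) =
    Sheaf.H.map _ p (Sheaf.H.map (CohPull.theta g M) p (CohPull.pullAb g.base _ p x))
  rw [pullAb_natural]
  show (Ext.comp (Ext.comp _ (Ext.mk₀ _) (add_zero p)) (Ext.mk₀ _) (add_zero p)) =
    (Ext.comp (Ext.comp _ (Ext.mk₀ _) (add_zero p)) (Ext.mk₀ _) (add_zero p))
  rw [Ext.comp_assoc_of_third_deg_zero, Ext.comp_assoc_of_third_deg_zero, Ext.mk₀_comp_mk₀, Ext.mk₀_comp_mk₀]
  exact congrArg (fun k => Ext.comp _ (Ext.mk₀ k) (add_zero p)) (theta_natural g φ)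

/-- The morphism of sequences given by `theta`. -/
def thetaHom (S : ShortComplex Y.Modules) :
    (S.map (toAbM Y)).map (CohPull.inv g.base) ⟶
      (S.map (Scheme.Modules.pullback g)).map (toAbM X) where
  τ₁ := CohPull.theta g S.X₁
  τ₂ := CohPull.theta g S.X₂
  τ₃ := CohPull.theta g S.X₃
  comm₁₂ := (theta_natural g S.f).symm
  comm₂₃ := (theta_natural g S.g).symm

theorem pullMod_extδ {S : ShortComplex Y.Modules}
    (hA : (S.map (toAbM Y)).ShortExact)
    (hA' : ((S.map (Scheme.Modules.pullback g)).map (toAbM X)).ShortExact)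
    (p : ℕ) (x : Coh.HH Y S.X₃ p) :
    CohPull.pullMod g S.X₁ (p + 1) (x.comp hA.extClass rfl) =
      (CohPull.pullMod g S.X₃ p x).comp hA'.extClass rfl := by
  show Sheaf.H.map (CohPull.theta g S.X₁) (p + 1) (CohPull.pullAb g.base _ (p + 1) (x.comp hA.extClass rfl)) = _
  exact (congrArg (fun y => Sheaf.H.map (CohPull.theta g S.X₁) (p + 1) y) (pullAb_extClass g.base hA p x)).trans
    (map_extClass (hA.map_of_exact (CohPull.inv g.base)) hA' (thetaHom g S) p (CohPull.pullAb g.base _ p x)).symm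

theorem pullOnIso_natural (U : Y.Opens) (U' : X.Opens) (h : U' ≤ g ⁻¹ᵁ U) {F G : Y.Modules} (φ : F ⟶ G) :
    (Scheme.Modules.pullback (g.resLE U U' h)).map ((Scheme.Modules.restrictFunctor U.ι).map φ) ≫
        (CohPull.pullOnIso g U U' h G).hom =
      (CohPull.pullOnIso g U U' h F).hom ≫
        (Scheme.Modules.restrictFunctor U'.ι).map ((Scheme.Modules.pullback g).map φ) := by
  let e : Scheme.Modules.restrictFunctor U.ι ⋙ Scheme.Modules.pullback (g.resLE U U' h) ≅
      Scheme.Modules.pullback g ⋙ Scheme.Modules.restrictFunctor U'.ι :=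
    Functor.isoWhiskerRight (Scheme.Modules.restrictFunctorIsoPullback U.ι) _ ≪≫
      Scheme.Modules.pullbackComp (g.resLE U U' h) U.ι ≪≫
      Scheme.Modules.pullbackCongr (Scheme.Hom.resLE_comp_ι g h) ≪≫
      (Scheme.Modules.pullbackComp U'.ι g).symm ≪≫
      (Functor.isoWhiskerLeft _ (Scheme.Modules.restrictFunctorIsoPullback U'.ι)).symm
  exact e.hom.naturality φ

/-- The morphism of sequences given by `pullOnIso`. -/
def pullOnHom (U : Y.Opens) (U' : X.Opens) (h : U' ≤ g ⁻¹ᵁ U) (S : ShortComplex Y.Modules) :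
    ((S.map (Scheme.Modules.restrictFunctor U.ι)).map (Scheme.Modules.pullback (g.resLE U U' h))).map
        (toAbM U') ≅
      (S.map (Scheme.Modules.pullback g)).map (CohCmp.toAbOn X U') :=
  ShortComplex.isoMk
    ((SheafOfModules.toSheaf _).mapIso (CohPull.pullOnIso g U U' h S.X₁))
    ((SheafOfModules.toSheaf _).mapIso (CohPull.pullOnIso g U U' h S.X₂))
    ((SheafOfModules.toSheaf _).mapIso (CohPull.pullOnIso g U U' h S.X₃))
    ((((Functor.map_comp _ _ _).symm.trans
      (congrArg (SheafOfModules.toSheaf _).map (pullOnIso_natural g U U' h S.f).symm)).trans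
        (Functor.map_comp _ _ _)))
    ((((Functor.map_comp _ _ _).symm.trans
      (congrArg (SheafOfModules.toSheaf _).map (pullOnIso_natural g U U' h S.g).symm)).trans
        (Functor.map_comp _ _ _)))

/-- Pullback of classes commutes with connecting homomorphisms. -/
theorem pullOn_extδ (U : Y.Opens) (U' : X.Opens) (h : U' ≤ g ⁻¹ᵁ U) {S : ShortComplex Y.Modules}
    (hA : (S.map (CohCmp.toAbOn Y U)).ShortExact)
    (hA' : ((S.map (Scheme.Modules.pullback g)).map (CohCmp.toAbOn X U')).ShortExact)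
    (p : ℕ) (x : Coh.HHon Y S.X₃ U p) :
    CohPull.pullOn g U U' h S.X₁ (p + 1) (CohCmp.extδ hA p x) =
      CohCmp.extδ hA' p (CohPull.pullOn g U U' h S.X₃ p x) := by
  have hA'' : (((S.map (Scheme.Modules.restrictFunctor U.ι)).map (Scheme.Modules.pullback (g.resLE U U' h))).map
      (toAbM U')).ShortExact :=
    ShortComplex.shortExact_of_iso (pullOnHom g U U' h S).symm hA'
  show Sheaf.H.map ((SheafOfModules.toSheaf _).map (CohPull.pullOnIso g U U' h S.X₁).hom) (p + 1)
      (CohPull.pullMod _ _ (p + 1) (x.comp hA.extClass rfl)) = Ext.comp _ hA'.extClass rfl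
  refine Eq.trans ?_ (map_extClass hA'' hA' (pullOnHom g U U' h S).hom p
    (CohPull.pullMod (g.resLE U U' h) (S.X₃.restrict U.ι) p x)).symm
  exact congrArg _ (pullMod_extδ (g.resLE U U' h) (S := S.map (Scheme.Modules.restrictFunctor U.ι)) hA hA'' p x)

theorem equiv₀_symm_apply (U : X.Opens) (F : X.Modules) (s : Γ(F, U)) :
    Sheaf.H.equiv₀ (Coh.toAb (F.restrict U.ι)) (Limits.isTerminalTop : Limits.IsTerminal (⊤ : U.toScheme.Opens))
      (CohPull.sectH0 F U s) = rs F U.ι_image_top.le s :=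
  AddEquiv.apply_symm_apply _ _

/-- Pullback of the class of a section. -/
theorem pullOn_sectH0 (U : Y.Opens) (U' : X.Opens) (h : U' ≤ g ⁻¹ᵁ U) (F : Y.Modules) (s : Γ(F, U)) :
    CohPull.pullOn g U U' h F 0 (CohPull.sectH0 F U s) =
      CohPull.sectH0 ((Scheme.Modules.pullback g).obj F) U' (rs _ h (pull g F U s)) := by
  apply (Sheaf.H.equiv₀ _ (Limits.isTerminalTop : Limits.IsTerminal (⊤ : U'.toScheme.Opens))).injective
  rw [equiv₀_symm_apply]
  show Sheaf.H.equiv₀ _ _ (Sheaf.H.map _ 0 _) = _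
  rw [← Sheaf.H.equiv₀_naturality, CohPull.equiv₀_pullMod, equiv₀_symm_apply]
  have e₁ : U'.ι ''ᵁ ⊤ ≤ g ⁻¹ᵁ (U.ι ''ᵁ ⊤) := by
    rw [U.ι_image_top, U'.ι_image_top]; exact h
  have key := PullSec.pullOnIso_app g U U' h F ⊤ ⊤ le_top e₁ (rs F U.ι_image_top.le s)
  rw [rs_self ((Scheme.Modules.pullback (g.resLE U U' h)).obj (F.restrict U.ι))] at key
  refine key.trans ?_
  rw [← pull_rs g F U.ι_image_top.le s, rs_rs, rs_rs]

end Groth.L17.BC.PullClass
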