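import Groth.Agent.L17.BC.Effaced
import Groth.Agent.L17.BC.PullClass

/-!
# Base change maps and connecting homomorphisms on sections
-/

set_option autoImplicit false
set_option linter.style.haveILetI false
set_option linter.unusedSectionVars false
set_option backward.isDefEq.respectTransparency false

universe u

open CategoryTheory CategoryTheory.Limits AlgebraicGeometry TopologicalSpace Opposite

noncomputable section

namespace Groth.L17.BC.Delta

open Groth.L18.Frame (rs pull)
open Effaced (SC Cov)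

section One

variable {X Y : Scheme.{u}} (f : X ⟶ Y) [HasInjectiveResolutions X.Modules]

theorem isIso_toRightDerivedZero (F : X.Modules) :
    IsIso ((Scheme.Modules.pushforward f).toRightDerivedZero.app F) := by
  haveI := (Scheme.Modules.pullbackPushforwardAdjunction f).isRightAdjoint
  infer_instance

theorem exists_toRightDerivedZero (F : X.Modules) (V : Y.Opens) (t : Γ((Coh.Rpush f 0).obj F, V)) :
    ∃ s : Γ(F, f ⁻¹ᵁ V), ((Scheme.Modules.pushforward f).toRightDerivedZero.app F).app V s = t := by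
  haveI := isIso_toRightDerivedZero f F
  exact ⟨(inv ((Scheme.Modules.pushforward f).toRightDerivedZero.app F)).app V t,
    congr($(congrArg (fun k => Scheme.Modules.Hom.app k V)
      (IsIso.inv_hom_id ((Scheme.Modules.pushforward f).toRightDerivedZero.app F))) t)⟩

theorem injective_toRightDerivedZero (F : X.Modules) (V : Y.Opens) :
    Function.Injective (((Scheme.Modules.pushforward f).toRightDerivedZero.app F).app V) := by
  haveI := isIso_toRightDerivedZero f F
  intro a b h
  have e := fun s => congr($(congrArg (fun k => Scheme.Modules.Hom.app k V)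
    (IsIso.hom_inv_id ((Scheme.Modules.pushforward f).toRightDerivedZero.app F))) s)
  exact (e a).symm.trans ((congrArg _ h).trans (e b))

variable [IsSeparated f] [QuasiCompact f] {V : Y.Opens} (hV : IsAffineOpen V)
  {Δ : RDer.DerivedLES (Scheme.Modules.pushforward f)} (E : CohCmp.SectCmp f Δ)

include hV in
/-- The comparison map is surjective over affine opens. -/
theorem ε_surjective (p : ℕ) : ∀ (F : X.Modules) [Coh.IsQCoh (F.restrict (f ⁻¹ᵁ V).ι)],
    Function.Surjective (E.ε V F p) := by
  induction p with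
  | zero =>
    intro F _ t
    obtain ⟨s, rfl⟩ := exists_toRightDerivedZero f F V t
    exact ⟨_, E.zero V F s⟩
  | succ p ih =>
    intro F _ t
    obtain ⟨c⟩ := Effaced.nonempty_cov f hV
    haveI := Effaced.isQCoh_Q f hV c F
    haveI := Effaced.isQCoh_C f hV c F
    haveI : Coh.IsQCoh ((SC f c F).X₁.restrict (f ⁻¹ᵁ V).ι) := ‹Coh.IsQCoh (F.restrict (f ⁻¹ᵁ V).ι)›
    obtain ⟨t', rfl⟩ := Effaced.δ_surjective f hV c Δ (Effaced.shortExact_SC f c F) (Effaced.prim_SC f hV c F) p t
    obtain ⟨x, rfl⟩ := ih (SC f c F).X₃ t'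
    exact ⟨_, E.delta V (SC f c F) (Effaced.shortExact_SC f c F)
      (PullClass.shortExact_toAbOn _ (Effaced.shortExact_SC f c F)) p x⟩

end One

section Two

variable {X S S' X' : Scheme.{u}} {f : X ⟶ S} {g : S' ⟶ S} {f' : X' ⟶ S'} {g' : X' ⟶ X}
  {w : g' ≫ f = f' ≫ g} [HasInjectiveResolutions X.Modules] [HasInjectiveResolutions X'.Modules]
  {Δ : RDer.DerivedLES (Scheme.Modules.pushforward f)} {Δ' : RDer.DerivedLES (Scheme.Modules.pushforward f')}
  {E : CohCmp.SectCmp f Δ} {E' : CohCmp.SectCmp f' Δ'} (B : CohCmp.GenBC f g f' g' w E E')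

/-- The base change map on the image of a section in degree zero. -/
theorem φ_zero (V : S.Opens) (F : X.Modules) (s : Γ(F, f ⁻¹ᵁ V)) :
    (B.φ 0 F).app V (((Scheme.Modules.pushforward f).toRightDerivedZero.app F).app V s) =
      ((Scheme.Modules.pushforward f').toRightDerivedZero.app ((Scheme.Modules.pullback g').obj F)).app (g ⁻¹ᵁ V)
        (rs ((Scheme.Modules.pullback g').obj F) (CohCmp.sqLE f g f' g' w V) (pull g' F (f ⁻¹ᵁ V) s)) := by
  rw [← E.zero V F s]
  refine (B.compat V F 0 _).trans ?_
  rw [PullClass.pullOn_sectH0]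
  exact E'.zero _ _ _

variable [IsSeparated f] [QuasiCompact f] {V : S.Opens} (hV : IsAffineOpen V)

include hV in
/-- The base change map commutes with connecting maps on sections over an affine open. -/
theorem φ_δ {T : ShortComplex X.Modules} (hT : T.ShortExact)
    (hT' : (T.map (Scheme.Modules.pullback g')).ShortExact) [Coh.IsQCoh (T.X₃.restrict (f ⁻¹ᵁ V).ι)] (p : ℕ)
    (t : Γ((Coh.Rpush f p).obj T.X₃, V)) :
    (B.φ (p + 1) T.X₁).app V ((Δ.δ T hT p (p + 1) rfl).app V t) =
      (Δ'.δ _ hT' p (p + 1) rfl).app (g ⁻¹ᵁ V) ((B.φ p T.X₃).app V t) := by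
  obtain ⟨x, rfl⟩ := ε_surjective f hV E p T.X₃ t
  have hA := PullClass.shortExact_toAbOn (f ⁻¹ᵁ V) hT
  have hA' := PullClass.shortExact_toAbOn (f' ⁻¹ᵁ (g ⁻¹ᵁ V)) hT'
  rw [← E.delta V T hT hA p x]
  refine (B.compat V T.X₁ (p + 1) _).trans ?_
  rw [PullClass.pullOn_extδ g' _ _ _ hA hA']
  refine (E'.delta _ _ hT' hA' p _).trans ?_
  exact congrArg _ (B.compat V T.X₃ p x).symm

end Two

end Groth.L17.BC.Delta
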