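import Groth.Agent.L17.BC.Model
import Groth.Agent.L01.FlatCx.Seq

/-!
Base change of cohomology for a flat module with flat cohomology, separated case over an affine base.
-/

set_option autoImplicit false
set_option linter.style.haveILetI false
set_option linter.unusedSectionVars false
set_option backward.isDefEq.respectTransparency false

universe u

open CategoryTheory CategoryTheory.Limits AlgebraicGeometry TopologicalSpace Opposite
open scoped TensorProduct

noncomputable section

namespace Groth.L17.BC.CechFlat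

section Alg

open Groth.L01.FlatCx

variable {A : Type u} [CommRing A] (P : CochainComplex (ModuleCat.{u} A) ℤ)

/-- With flat terms, flat homology and flat cokernels in high degrees, all cokernels are flat. -/
theorem flat_coker (hP : ∀ i, Module.Flat A (P.X i)) (N : ℤ)
    (hN : ∀ j, N ≤ j → Module.Flat A (Coker P (j - 1) j)) (hH : ∀ j, Module.Flat A (P.homology j)) (j : ℤ) :
    Module.Flat A (Coker P (j - 1) j) ∧ Module.Flat A (LinearMap.range (dd P (j - 1) j)) := by
  have hr : ∀ j, Module.Flat A (Coker P (j - 1) j) → Module.Flat A (LinearMap.range (dd P (j - 1) j)) :=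
    fun j hQ => by
      haveI := hP j
      haveI := hQ
      exact flat_left (f := (LinearMap.range (dd P (j - 1) j)).subtype) (g := (LinearMap.range (dd P (j - 1) j)).mkQ)
        (Submodule.injective_subtype _) (Submodule.mkQ_surjective _) (LinearMap.exact_subtype_mkQ _)
  suffices ∀ (k : ℕ) (j : ℤ), N ≤ j + k → Module.Flat A (Coker P (j - 1) j) from
    ⟨this (N - j).toNat j (by omega), hr j (this (N - j).toNat j (by omega))⟩
  intro k
  induction k with
  | zero => exact fun j hj => hN j (by omega)
  | succ k ih =>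
    intro j hj
    have h1 := hr (j + 1) (ih (j + 1) (by push_cast at hj ⊢; omega))
    rw [add_sub_cancel_right] at h1
    haveI := h1
    obtain ⟨φ, hφ, hex⟩ := exists_homology_toCoker P (i := j - 1) (j := j) (k := j + 1)
      ((ComplexShape.up ℤ).prev_eq' (by simp)) ((ComplexShape.up ℤ).next_eq' rfl)
    haveI : Module.Flat A ((CohIII.TFun P j).obj (ModuleCat.of A A) : Type u) :=
      haveI := hH j
      Module.Flat.of_linearEquiv (unitEquiv P j)
    exact flat_middle hφ (qr_surjective P (j - 1) j (j + 1)) hex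

/-- Then cohomology commutes with every tensor product. -/
theorem bijective_tMap (hP : ∀ i, Module.Flat A (P.X i)) (N : ℤ)
    (hN : ∀ j, N ≤ j → Module.Flat A (Coker P (j - 1) j)) (hH : ∀ j, Module.Flat A (P.homology j)) (j : ℤ)
    (M : ModuleCat.{u} A) : Function.Bijective (tMap (CohIII.TFun P j) M) := by
  let c := ComplexShape.up ℤ
  have hnext : c.next j = j + 1 := c.next_eq' rfl
  have hq := flat_coker P hP N hN hH (j + 1)
  rw [add_sub_cancel_right] at hq
  haveI : Module.Flat A (Coker P j (c.next j)) := by rw [hnext]; exact hq.1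
  haveI : Module.Flat A (LinearMap.range (dd P j (c.next j))) := by rw [hnext]; exact hq.2
  have hi1 : Function.Injective ((Cyc' P j).subtype.rTensor M) :=
    rTensor_injective_of_flat_quot (g := (dd P j (c.next j)).rangeRestrict) (Submodule.injective_subtype _)
      (dd P j (c.next j)).surjective_rangeRestrict
      (LinearMap.exact_iff.mpr (by rw [LinearMap.ker_rangeRestrict, Submodule.range_subtype])) M
  have hi2 : Function.Injective ((LinearMap.range (dd P j (c.next j))).subtype.rTensor M) :=
    rTensor_injective_of_flat_quot (g := (LinearMap.range (dd P j (c.next j))).mkQ) (Submodule.injective_subtype _)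
      (Submodule.mkQ_surjective _) (LinearMap.exact_subtype_mkQ _) M
  have hex : Function.Exact ((Cyc' P j).subtype.rTensor M) ((dd P j (c.next j)).rTensor M) := fun z => by
    have h := rTensor_exact M (f := (Cyc' P j).subtype) (g := (dd P j (c.next j)).rangeRestrict)
      (LinearMap.exact_iff.mpr (by rw [LinearMap.ker_rangeRestrict, Submodule.range_subtype]))
      (dd P j (c.next j)).surjective_rangeRestrict z
    rw [← h, ← (map_eq_zero_iff _ hi2), ← LinearMap.comp_apply, ← LinearMap.rTensor_comp]
    exact Iff.rfl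
  have hrid : ∀ (i' j' : ℤ) (z : P.X i' ⊗[A] A), TensorProduct.rid A (P.X j')
      ((dd P i' j').rTensor A z) = dd P i' j' (TensorProduct.rid A (P.X i') z) := fun i' j' z => by
    induction z using TensorProduct.induction_on with
    | zero => simp
    | tmul x a => simp
    | add a b ha hb => simp only [map_add, ha, hb]
  let ρ : Cyc' P j →ₗ[A] Cyc P j (ModuleCat.of A A) :=
    ((TensorProduct.rid A (P.X j)).symm.toLinearMap ∘ₗ (Cyc' P j).subtype).codRestrict _ fun x => by
      show (dd P j (c.next j)).rTensor A _ = 0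
      refine (TensorProduct.rid A (P.X (c.next j))).injective ?_
      rw [hrid, map_zero]
      simpa using x.2
  have hρ : Function.Surjective (cls P j (ModuleCat.of A A) ∘ₗ ρ) := by
    intro a
    obtain ⟨x, rfl⟩ := cls_surjective P j _ a
    refine ⟨⟨TensorProduct.rid A (P.X j) x.1, ?_⟩,
      congrArg (cls P j (ModuleCat.of A A)) (Subtype.ext ?_)⟩
    · show dd P j (c.next j) (TensorProduct.rid A (P.X j) x.1) = 0
      rw [← hrid, x.2, map_zero]
    · exact (TensorProduct.rid A (P.X j)).symm_apply_apply x.1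
  let μ : Cyc' P j ⊗[A] M →ₗ[A] Cyc P j M :=
    ((Cyc' P j).subtype.rTensor M).codRestrict _ fun z => by
      show (dd P j (c.next j)).rTensor M _ = 0
      rw [← LinearMap.comp_apply, ← LinearMap.rTensor_comp,
        show dd P j (c.next j) ∘ₗ (Cyc' P j).subtype = 0 from LinearMap.ext fun x => x.2,
        LinearMap.rTensor_zero]
      rfl
  have hμ : ∀ z, tMap (CohIII.TFun P j) M ((cls P j (ModuleCat.of A A) ∘ₗ ρ).rTensor M z) =
      cls P j M (μ z) := by
    intro z
    induction z using TensorProduct.induction_on with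
    | zero => simp
    | tmul x m =>
      rw [LinearMap.rTensor_tmul, tMap_tmul, LinearMap.comp_apply, map_cls]
      refine congrArg _ (Subtype.ext ?_)
      show (LinearMap.toSpanSingleton A M m).lTensor (P.X j) (x.1 ⊗ₜ[A] (1 : A)) = x.1 ⊗ₜ[A] m
      simp
    | add a b ha hb => simp only [map_add, ha, hb]
  refine ⟨(injective_iff_map_eq_zero _).mpr fun a ha => ?_, fun a => ?_⟩
  · obtain ⟨z, rfl⟩ := LinearMap.rTensor_surjective M hρ a
    rw [hμ, cls_eq_zero_iff P (i := c.prev j) rfl] at ha
    obtain ⟨y, hy⟩ := ha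
    let d' : (P.X (c.prev j) : Type u) →ₗ[A] Cyc' P j :=
      (dd P (c.prev j) j).codRestrict _ fun v => dd_dd P _ _ _ v
    have hz : z = d'.rTensor M y := by
      refine hi1 ?_
      rw [← LinearMap.comp_apply, ← LinearMap.rTensor_comp,
        show (Cyc' P j).subtype ∘ₗ d' = dd P (c.prev j) j from rfl, hy]
      rfl
    rw [hz, ← LinearMap.comp_apply, ← LinearMap.rTensor_comp,
      show (cls P j (ModuleCat.of A A) ∘ₗ ρ) ∘ₗ d' = 0 from LinearMap.ext fun v => by
        show cls P j (ModuleCat.of A A) (ρ (d' v)) = 0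
        rw [cls_eq_zero_iff P (i := c.prev j) rfl]
        exact ⟨v ⊗ₜ[A] (1 : A), rfl⟩,
      LinearMap.rTensor_zero]
    rfl
  · obtain ⟨x, rfl⟩ := cls_surjective P j M a
    obtain ⟨z, hz⟩ := (hex _).mp x.2
    exact ⟨_, (hμ z).trans (congrArg _ (Subtype.ext hz))⟩

end Alg

/-- Base change for a flat module with flat cohomology, on a separated quasi-compact scheme. -/
theorem exists_equiv_of_flat_cohomology {A B : Type u} [CommRing A] [CommRing B] [Algebra A B]
    {X X' : Scheme.{u}} (f : X ⟶ Spec (CommRingCat.of A)) [IsSeparated f] [QuasiCompact f]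
    (f' : X' ⟶ Spec (CommRingCat.of B)) (g : X' ⟶ X)
    (sq : IsPullback g f' f (Spec.map (CommRingCat.ofHom (algebraMap A B))))
    (F : X.Modules) [Coh.IsQCoh F] (hfl : FlatMod.IsFlatOver f F)
    (hH : letI : ∀ p, Module A (Coh.HH X F p) := fun p => Module.compHom _ (Coh.toGlobal f)
      ∀ p : ℕ, Module.Flat A (Coh.HH X F p)) (p : ℕ) :
    letI : Module A (Coh.HH X F p) := Module.compHom _ (Coh.toGlobal f)
    letI : Module B (Coh.HH X' ((Scheme.Modules.pullback g).obj F) p) := Module.compHom _ (Coh.toGlobal f')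
    Nonempty (B ⊗[A] Coh.HH X F p ≃ₗ[B] Coh.HH X' ((Scheme.Modules.pullback g).obj F) p) := by
  letI : ∀ p, Module A (Coh.HH X F p) := fun p => Module.compHom _ (Coh.toGlobal f)
  letI : Module B (Coh.HH X' ((Scheme.Modules.pullback g).obj F) p) := Module.compHom _ (Coh.toGlobal f')
  haveI : CompactSpace X := QuasiCompact.compactSpace_of_compactSpace f
  haveI : X.IsSeparated := ⟨by rw [← terminal.comp_from f]; infer_instance⟩
  obtain ⟨t, U, hcov, haff⟩ := exists_affine_cover (X := X)
  haveI := isAffineHom_of_isPullback f f' g sq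
  obtain ⟨e⟩ := nonempty_bcCx_iso g (Coh.toGlobal f) (Coh.toGlobal f') F (compat_of_isPullback f f' g sq) U
    (hasBC_of_isPullback f f' g sq F) haff
  haveI : Coh.IsQCoh (Fb g F) := Groth.L16.AffineBC.isQCoh_pullback g F
  have hcov' : ⨆ i, Ub g U i = ⊤ := top_unique fun x _ => by
    obtain ⟨i, hi⟩ := Opens.mem_iSup.1 (hcov.ge (Opens.mem_top (g x)))
    exact Opens.mem_iSup.2 ⟨i, hi⟩
  obtain ⟨e'⟩ := exists_homology_equiv (Coh.toGlobal f') (Fb g F) (Ub g U) hcov'
    (isAffineOpen_iInf_preimage g U haff) p
  let P := K (Coh.toGlobal f) F U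
  have hP : ∀ i, Module.Flat A (P.X i) := flat_K f U F (fun V hV => flat_sec f F hfl hV) haff
  have hH' : ∀ j : ℤ, Module.Flat A (P.homology j) := fun j => by
    by_cases hj : j < 0
    · haveI : Subsingleton (P.X j) := subsingleton_C _ F U hj
      haveI : Subsingleton (P.homology j) := ModuleCat.subsingleton_of_isZero
        (ShortComplex.isZero_homology_of_isZero_X₂ (P.sc j) (ModuleCat.isZero_of_subsingleton (P.X j)))
      exact Module.Flat.of_linearEquiv (M := PUnit.{u + 1}) ((LinearEquiv.ofSubsingleton _ _))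
    · obtain ⟨m, rfl⟩ : ∃ m : ℕ, j = m := ⟨j.toNat, (Int.toNat_of_nonneg (by omega)).symm⟩
      obtain ⟨em⟩ := exists_homology_equiv (Coh.toGlobal f) F U hcov haff m
      haveI := hH m
      exact Module.Flat.of_linearEquiv em
  have hN : ∀ j, (Nat.card (ULift.{u} (Fin t)) : ℤ) ≤ j → Module.Flat A (Groth.L01.FlatCx.Coker P (j - 1) j) :=
    fun j hj => by
      refine (Groth.L01.FlatCx.preservesMono_iff P (i := j - 1) (j := j)
        ((ComplexShape.up ℤ).prev_eq' (by simp)) hP).1 ⟨fun {M N} g _ => ?_⟩
      rw [ModuleCat.mono_iff_injective]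
      haveI := ModuleCat.subsingleton_of_isZero (isZero_T_K f U F hcov haff M j hj)
      exact fun a a' _ => Subsingleton.elim (α := CohIII.T P j M) a a'
  obtain ⟨e₀⟩ := exists_homology_equiv (Coh.toGlobal f) F U hcov haff p
  obtain ⟨h⟩ := Groth.L01.FlatCx.nonempty_homology_bc B P (p : ℤ)
    (bijective_tMap P hP _ hN hH' (p : ℤ) (ModuleCat.of A B))
  exact ⟨((TensorProduct.AlgebraTensorModule.congr (LinearEquiv.refl B B)
    (e₀.symm.trans (Groth.L01.FlatCx.unitEquiv P (p : ℤ)).symm)).trans h.symm).trans
      (((HomologicalComplex.homologyFunctor _ _ (p : ℤ)).mapIso e).toLinearEquiv.trans e')⟩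

end Groth.L17.BC.CechFlat
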