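import Groth.Agent.L17.BC.Godement
import Groth.Agent.L17.BC.PullClass
import Groth.Agent.L17.BC.PullSec
import Groth.Agent.L10.TopCoh
import Mathlib.Algebra.Homology.DerivedCategory.Ext.ExactSequences

/-!
# Pullback of cohomology classes along a composite
-/

set_option autoImplicit false
set_option linter.style.haveILetI false
set_option linter.unusedSectionVars false
set_option backward.isDefEq.respectTransparency false
set_option backward.isDefEq.respectTransparency.types false

universe u

open CategoryTheory CategoryTheory.Limits CategoryTheory.Abelian AlgebraicGeometry TopologicalSpace Opposite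

noncomputable section

namespace Groth.L17.BC.ClassComp

open Groth.L18.Frame (rs rs_rs pull pull_rs)

variable {X Y Z : Scheme.{u}}

theorem mapH_sectH0 {M N : X.Modules} (φ : M ⟶ N) (U : X.Opens) (s : Γ(M, U)) :
    CohPull.mapH ((Scheme.Modules.restrictFunctor U.ι).map φ) 0 (CohPull.sectH0 M U s) =
      CohPull.sectH0 N U (φ.app U s) := by
  apply (Sheaf.H.equiv₀ _ (Limits.isTerminalTop : Limits.IsTerminal (⊤ : U.toScheme.Opens))).injective
  rw [PullClass.equiv₀_symm_apply]
  show Sheaf.H.equiv₀ _ _ (Sheaf.H.map _ 0 _) = _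
  rw [← Sheaf.H.equiv₀_naturality, PullClass.equiv₀_symm_apply]
  exact PullSec.app_rs φ _ s

theorem subsingleton_God (M : X.Modules) (U : X.Opens) (p : ℕ) :
    Subsingleton (Coh.HHon X (Godement.God M) U (p + 1)) :=
  Groth.L10.TopCoh.subsingleton_H_of_flasque _ (Godement.isFlasque_God_restrict M U.ι) p

theorem exists_extδ_eq (M : X.Modules) (U : X.Opens) (p : ℕ) (x : Coh.HHon X M U (p + 1)) :
    ∃ y, CohCmp.extδ (PullClass.shortExact_toAbOn U (Godement.shortExact_S M)) p y = x := by
  have hS := PullClass.shortExact_toAbOn U (Godement.shortExact_S M)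
  haveI : Subsingleton (Sheaf.H ((Godement.S M).map (CohCmp.toAbOn X U)).X₂ (p + 1)) := subsingleton_God M U p
  exact Ext.covariant_sequence_exact₁ _ hS x
    (Subsingleton.elim (α := Sheaf.H ((Godement.S M).map (CohCmp.toAbOn X U)).X₂ (p + 1)) _ _) rfl

theorem mapH_extδ (U : X.Opens) {S T : ShortComplex X.Modules} (τ : S ⟶ T)
    (hS : (S.map (CohCmp.toAbOn X U)).ShortExact) (hT : (T.map (CohCmp.toAbOn X U)).ShortExact)
    (p : ℕ) (x : Coh.HHon X S.X₃ U p) :
    CohPull.mapH ((Scheme.Modules.restrictFunctor U.ι).map τ.τ₁) (p + 1) (CohCmp.extδ hS p x) =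
      CohCmp.extδ hT p (CohPull.mapH ((Scheme.Modules.restrictFunctor U.ι).map τ.τ₃) p x) :=
  (PullClass.map_extClass hS hT ((CohCmp.toAbOn X U).mapShortComplex.map τ) p x).symm

/-- Pullback of classes along a composite. -/
theorem pullOn_comp (f : X ⟶ Y) (g : Y ⟶ Z) (U : Z.Opens) (U' : Y.Opens) (U'' : X.Opens)
    (h : U' ≤ g ⁻¹ᵁ U) (h' : U'' ≤ f ⁻¹ᵁ U') (h'' : U'' ≤ (f ≫ g) ⁻¹ᵁ U) :
    ∀ (p : ℕ) (F : Z.Modules) (x : Coh.HHon Z F U p),
      CohPull.mapH ((Scheme.Modules.restrictFunctor U''.ι).map ((Scheme.Modules.pullbackComp f g).hom.app F)) p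
          (CohPull.pullOn f U' U'' h' ((Scheme.Modules.pullback g).obj F) p (CohPull.pullOn g U U' h F p x)) =
        CohPull.pullOn (f ≫ g) U U'' h'' F p x := by
  intro p
  induction p with
  | zero =>
    intro F x
    obtain ⟨s, rfl⟩ := (CohPull.sectH0 F U).surjective x
    rw [PullClass.pullOn_sectH0, PullClass.pullOn_sectH0, PullClass.pullOn_sectH0]
    refine (mapH_sectH0 _ _ _).trans (congrArg _ ?_)
    rw [← pull_rs f _ h, rs_rs]
    exact PullSec.comp_pull_rs f g F U s U'' h''
  | succ p ih =>
    intro F x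
    obtain ⟨y, rfl⟩ := exists_extδ_eq F U p x
    let S := Godement.S F
    have hg := Godement.shortExact_pullback_S F g
    have hfg := Godement.shortExact_pullback_S F (f ≫ g)
    let τ : (S.map (Scheme.Modules.pullback g)).map (Scheme.Modules.pullback f) ≅
        S.map (Scheme.Modules.pullback (f ≫ g)) :=
      ShortComplex.isoMk ((Scheme.Modules.pullbackComp f g).app S.X₁) ((Scheme.Modules.pullbackComp f g).app S.X₂)
        ((Scheme.Modules.pullbackComp f g).app S.X₃)
        ((Scheme.Modules.pullbackComp f g).hom.naturality S.f).symm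
        ((Scheme.Modules.pullbackComp f g).hom.naturality S.g).symm
    have hf := ShortComplex.shortExact_of_iso τ.symm hfg
    refine (congrArg (fun z => CohPull.mapH ((Scheme.Modules.restrictFunctor U''.ι).map
      ((Scheme.Modules.pullbackComp f g).hom.app F)) (p + 1) (CohPull.pullOn f U' U'' h' _ (p + 1) z))
      (PullClass.pullOn_extδ g U U' h (S := S) (PullClass.shortExact_toAbOn U (Godement.shortExact_S F))
        (PullClass.shortExact_toAbOn U' hg) p y)).trans ?_
    have e1 := PullClass.pullOn_extδ f U' U'' h' (S := S.map (Scheme.Modules.pullback g))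
      (PullClass.shortExact_toAbOn U' hg) (PullClass.shortExact_toAbOn U'' hf) p
      (CohPull.pullOn g U U' h S.X₃ p y)
    refine (congrArg _ e1).trans ?_
    refine (mapH_extδ U'' τ.hom (PullClass.shortExact_toAbOn U'' hf) (PullClass.shortExact_toAbOn U'' hfg) p _).trans ?_
    refine (congrArg _ (ih S.X₃ y)).trans ?_
    exact (PullClass.pullOn_extδ (f ≫ g) U U'' h'' (S := S) (PullClass.shortExact_toAbOn U (Godement.shortExact_S F))
      (PullClass.shortExact_toAbOn U'' hfg) p y).symm

end Groth.L17.BC.ClassComp
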