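import Mathlib.LinearAlgebra.TensorProduct.Tower
import Mathlib.LinearAlgebra.FreeModule.Finite.Basic
import Mathlib.LinearAlgebra.Dimension.Finite
import Mathlib.RingTheory.IsTensorProduct
import Mathlib.RingTheory.Nakayama
import Mathlib.RingTheory.Spectrum.Prime.Basic
import Mathlib.LinearAlgebra.Matrix.NonsingularInverse
import Mathlib.LinearAlgebra.Basis.VectorSpace
import Mathlib.RingTheory.LocalRing.Module
import Mathlib.RingTheory.Spectrum.Prime.RingHom
import Mathlib.RingTheory.Flat.FaithfullyFlat.Basic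
import Mathlib.RingTheory.LocalRing.ResidueField.Ideal

/-!
# Split differentials and base change of homology
-/

set_option autoImplicit false
set_option linter.unusedSectionVars false

universe u

open scoped TensorProduct

namespace Groth.L17.BC

variable {A : Type u} [CommRing A] {P₀ P P₂ : Type u} [AddCommGroup P₀] [Module A P₀] [AddCommGroup P] [Module A P]
  [AddCommGroup P₂] [Module A P₂]

/-- The map `d` is split near the point `x` of the spectrum. -/
def SplitAt (d : P →ₗ[A] P₂) (x : PrimeSpectrum A) : Prop :=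
  ∃ (r : A) (σ : P₂ →ₗ[A] P), r ∉ x.asIdeal ∧ ∀ v, d (σ (d v)) = r • d v

/-- Classes of the three term complex `d', d` before and after base change to `B`, read in `T` and `T'`. -/
structure BCData (d' : P₀ →ₗ[A] P) (d : P →ₗ[A] P₂) (B : Type u) [CommRing B] [Algebra A B]
    {T T' : Type u} [AddCommGroup T] [Module A T] [AddCommGroup T'] [Module A T'] [Module B T']
    (ψ : T →ₗ[A] T') where
  /-- the classes -/
  θ : LinearMap.ker d →ₗ[A] T
  θ_surj : Function.Surjective θ
  θ_ker : ∀ z, θ z = 0 ↔ ∃ u, d' u = z.1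
  /-- the classes after base change -/
  θ' : LinearMap.ker (d.baseChange B) →ₗ[B] T'
  θ'_surj : Function.Surjective θ'
  θ'_ker : ∀ w, θ' w = 0 ↔ ∃ u, d'.baseChange B u = w.1
  compat : ∀ (z : P) (hz : z ∈ LinearMap.ker d) (hw : (1 : B) ⊗ₜ[A] z ∈ LinearMap.ker (d.baseChange B)),
    ψ (θ ⟨z, hz⟩) = θ' ⟨1 ⊗ₜ z, hw⟩

variable {d' : P₀ →ₗ[A] P} {d : P →ₗ[A] P₂} {B : Type u} [CommRing B] [Algebra A B]
  {T T' : Type u} [AddCommGroup T] [Module A T] [AddCommGroup T'] [Module A T'] [Module B T']
  [IsScalarTower A B T'] {ψ : T →ₗ[A] T'}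

namespace BCData

variable (D : BCData d' d B ψ)

/-- The comparison on base changed cycles. -/
theorem lift_eq (t : B ⊗[A] LinearMap.ker d)
    (ht : (LinearMap.ker d).subtype.baseChange B t ∈ LinearMap.ker (d.baseChange B)) :
    ψ.liftBaseChange B (D.θ.baseChange B t) = D.θ' ⟨(LinearMap.ker d).subtype.baseChange B t, ht⟩ := by
  induction t using TensorProduct.induction_on with
  | zero =>
    rw [map_zero, map_zero, show (⟨_, ht⟩ : LinearMap.ker (d.baseChange B)) = 0 from Subtype.ext (map_zero _),
      map_zero]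
  | tmul b z =>
    have h1 : (1 : B) ⊗ₜ[A] z.1 ∈ LinearMap.ker (d.baseChange B) := by
      rw [LinearMap.mem_ker, LinearMap.baseChange_tmul, z.2, TensorProduct.tmul_zero]
    rw [LinearMap.baseChange_tmul, LinearMap.liftBaseChange_tmul, D.compat z.1 z.2 h1, ← map_smul]
    refine congrArg D.θ' (Subtype.ext ?_)
    simp [TensorProduct.smul_tmul']
  | add s t hs ht' =>
    have mem : ∀ t : B ⊗[A] LinearMap.ker d,
        (LinearMap.ker d).subtype.baseChange B t ∈ LinearMap.ker (d.baseChange B) := fun t => by
      rw [LinearMap.mem_ker, ← LinearMap.comp_apply, ← LinearMap.baseChange_comp,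
        show d ∘ₗ (LinearMap.ker d).subtype = 0 from LinearMap.ext fun v => v.2, LinearMap.baseChange_zero]
      rfl
    rw [map_add, map_add, hs (mem s), ht' (mem t), ← map_add]
    exact congrArg D.θ' (Subtype.ext (map_add _ _ _).symm)

theorem mem_ker_baseChange (B : Type u) [CommRing B] [Algebra A B] (d : P →ₗ[A] P₂) (t : B ⊗[A] LinearMap.ker d) :
    (LinearMap.ker d).subtype.baseChange B t ∈ LinearMap.ker (d.baseChange B) := by
  rw [LinearMap.mem_ker, ← LinearMap.comp_apply, ← LinearMap.baseChange_comp,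
    show d ∘ₗ (LinearMap.ker d).subtype = 0 from LinearMap.ext fun v => v.2, LinearMap.baseChange_zero]
  rfl

include D in
/-- A differential split at every point of the image gives base change. -/
theorem isBaseChange (hdd : d ∘ₗ d' = 0)
    (h : ∀ q : PrimeSpectrum B, SplitAt d (PrimeSpectrum.comap (algebraMap A B) q)) :
    IsBaseChange B ψ := by
  classical
  choose r σ hr hσ using h
  have htop : Ideal.span (Set.range fun q => algebraMap A B (r q)) = ⊤ := by
    by_contra hne
    obtain ⟨M, hM, hle⟩ := Ideal.exists_le_maximal _ hne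
    exact hr ⟨M, hM.isPrime⟩ (hle (Ideal.subset_span ⟨_, rfl⟩))
  obtain ⟨c, hc⟩ := Finsupp.mem_span_range_iff_exists_finsupp.1
    ((Ideal.eq_top_iff_one _).1 htop)
  let Z := LinearMap.ker d
  let π : ∀ q, P →ₗ[A] Z := fun q => LinearMap.codRestrict Z (r q • LinearMap.id - σ q ∘ₗ d) fun v => by
    simp [Z, hσ q v]
  let Pr : B ⊗[A] P →ₗ[B] B ⊗[A] Z := c.sum fun q b => b • (π q).baseChange B
  have hPr : ∀ v, Pr v = c.sum fun q b => b • (π q).baseChange B v := fun v => by
    simp [Pr, Finsupp.sum, LinearMap.sum_apply]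
  -- on cycles `Π` is the identity
  have h1 : ∀ t : B ⊗[A] Z, Pr (Z.subtype.baseChange B t) = t := fun t => by
    rw [hPr]
    have : ∀ q, (π q).baseChange B (Z.subtype.baseChange B t) = algebraMap A B (r q) • t := fun q => by
      rw [← LinearMap.comp_apply, ← LinearMap.baseChange_comp,
        show π q ∘ₗ Z.subtype = r q • LinearMap.id from LinearMap.ext fun z => Subtype.ext (by simp [π]),
        LinearMap.baseChange_smul, LinearMap.baseChange_id, LinearMap.smul_apply, LinearMap.id_apply,
        algebraMap_smul]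
    simp only [this, smul_smul]
    rw [Finsupp.sum, ← Finset.sum_smul]
    rw [Finsupp.sum] at hc
    simp only [smul_eq_mul] at hc
    rw [hc, one_smul]
  have h2 : ∀ w ∈ LinearMap.ker (d.baseChange B), Z.subtype.baseChange B (Pr w) = w := fun w hw => by
    rw [hPr, map_finsuppSum]
    have : ∀ q, Z.subtype.baseChange B ((π q).baseChange B w) = algebraMap A B (r q) • w := fun q => by
      rw [← LinearMap.comp_apply, ← LinearMap.baseChange_comp,
        show Z.subtype ∘ₗ π q = r q • LinearMap.id - σ q ∘ₗ d from rfl, LinearMap.baseChange_sub,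
        LinearMap.baseChange_smul, LinearMap.baseChange_id, LinearMap.baseChange_comp, LinearMap.sub_apply,
        LinearMap.comp_apply, show d.baseChange B w = 0 from hw, map_zero, sub_zero, LinearMap.smul_apply,
        LinearMap.id_apply, algebraMap_smul]
    simp only [map_smul, this, smul_smul]
    rw [Finsupp.sum, ← Finset.sum_smul]
    rw [Finsupp.sum] at hc
    simp only [smul_eq_mul] at hc
    rw [hc, one_smul]
  have hsurj : Function.Surjective (D.θ.baseChange B) :=
    LinearMap.lTensor_surjective B D.θ_surj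
  refine IsBaseChange.of_equiv (LinearEquiv.ofBijective (ψ.liftBaseChange B) ⟨?_, ?_⟩) fun x => by simp
  · rw [← LinearMap.ker_eq_bot, Submodule.eq_bot_iff]
    intro x hx
    obtain ⟨t, rfl⟩ := hsurj x
    rw [LinearMap.mem_ker, D.lift_eq t (mem_ker_baseChange B d t), D.θ'_ker] at hx
    obtain ⟨u, hu⟩ := hx
    let e : P₀ →ₗ[A] Z := LinearMap.codRestrict Z d' fun v => LinearMap.congr_fun hdd v
    have ht : t = e.baseChange B u := by
      have hu' : Z.subtype.baseChange B t = (Z.subtype ∘ₗ e).baseChange B u := hu.symm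
      rw [← h1 t, hu', LinearMap.baseChange_comp, LinearMap.comp_apply, h1]
    rw [ht, ← LinearMap.comp_apply, ← LinearMap.baseChange_comp,
      show D.θ ∘ₗ e = 0 from LinearMap.ext fun v => (D.θ_ker _).2 ⟨v, rfl⟩, LinearMap.baseChange_zero]
    rfl
  · intro y
    obtain ⟨w, rfl⟩ := D.θ'_surj y
    refine ⟨D.θ.baseChange B (Pr w.1), ?_⟩
    rw [D.lift_eq _ (mem_ker_baseChange B d _)]
    exact congrArg D.θ' (Subtype.ext (h2 w.1 w.2))

include D in
/-- If the images of the classes span, every base changed cycle comes from base changed cycles. -/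
theorem cycles_le_of_span (hdd : d ∘ₗ d' = 0) (h : Function.Surjective (ψ.liftBaseChange B)) :
    LinearMap.ker (d.baseChange B) ≤ LinearMap.range ((LinearMap.ker d).subtype.baseChange B) := by
  intro w hw
  obtain ⟨x, hx⟩ := h (D.θ' ⟨w, hw⟩)
  obtain ⟨t, rfl⟩ := LinearMap.lTensor_surjective B D.θ_surj x
  rw [show (LinearMap.lTensor B D.θ) t = D.θ.baseChange B t from rfl,
    D.lift_eq t (mem_ker_baseChange B d t), ← sub_eq_zero, ← map_sub, D.θ'_ker] at hx
  obtain ⟨u, hu⟩ := hx
  let e : P₀ →ₗ[A] LinearMap.ker d := LinearMap.codRestrict _ d' fun v => LinearMap.congr_fun hdd v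
  refine ⟨t - e.baseChange B u, ?_⟩
  rw [map_sub, ← LinearMap.comp_apply, ← LinearMap.baseChange_comp,
    show (LinearMap.ker d).subtype ∘ₗ e = d' from rfl, hu]
  exact sub_sub_cancel _ w

include D in
/-- Conversely. -/
theorem span_of_cycles_le (h : LinearMap.ker (d.baseChange B) ≤
      LinearMap.range ((LinearMap.ker d).subtype.baseChange B)) :
    Function.Surjective (ψ.liftBaseChange B) := by
  intro y
  obtain ⟨w, rfl⟩ := D.θ'_surj y
  obtain ⟨t, ht⟩ := h w.2
  refine ⟨D.θ.baseChange B t, ?_⟩
  rw [D.lift_eq t (mem_ker_baseChange B d t)]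
  exact congrArg D.θ' (Subtype.ext ht)

end BCData

/-- At a split point every cycle over the field comes from cycles. -/
theorem SplitAt.cycles_le {K : Type u} [Field K] [Algebra A K] {d : P →ₗ[A] P₂}
    (h : SplitAt d (PrimeSpectrum.comap (algebraMap A K) ⊥)) :
    LinearMap.ker (d.baseChange K) ≤ LinearMap.range ((LinearMap.ker d).subtype.baseChange K) := by
  obtain ⟨r, σ, hr, hσ⟩ := h
  intro w hw
  let π : P →ₗ[A] LinearMap.ker d := LinearMap.codRestrict _ (r • LinearMap.id - σ ∘ₗ d) fun v => by
    simp [hσ v]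
  have hr' : algebraMap A K r ≠ 0 := fun e => hr e
  refine ⟨(algebraMap A K r)⁻¹ • π.baseChange K w, ?_⟩
  rw [map_smul, ← LinearMap.comp_apply, ← LinearMap.baseChange_comp,
    show (LinearMap.ker d).subtype ∘ₗ π = r • LinearMap.id - σ ∘ₗ d from rfl, LinearMap.baseChange_sub,
    LinearMap.baseChange_smul, LinearMap.baseChange_id, LinearMap.baseChange_comp, LinearMap.sub_apply,
    LinearMap.comp_apply, show d.baseChange K w = 0 from hw, map_zero, sub_zero, LinearMap.smul_apply,
    LinearMap.id_apply, ← algebraMap_smul K r w, smul_smul, inv_mul_cancel₀ hr', one_smul]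

/-- A finite module vanishing over a field is killed by a function not vanishing at the point. -/
theorem exists_smul_eq_zero (M : Type u) [AddCommGroup M] [Module A M] [Module.Finite A M]
    (K : Type u) [Field K] [Algebra A K] [Subsingleton (K ⊗[A] M)] :
    ∃ r : A, r ∉ (PrimeSpectrum.comap (algebraMap A K) ⊥).asIdeal ∧ ∀ m : M, r • m = 0 := by
  classical
  let x : PrimeSpectrum A := PrimeSpectrum.comap (algebraMap A K) ⊥
  let κ := x.asIdeal.ResidueField
  let e : K ≃+* (⊥ : Ideal K).ResidueField := (Ideal.algEquivResidueFieldOfField (⊥ : Ideal K)).toRingEquiv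
  let φ : κ →+* K := (e.symm : _ →+* K).comp (Ideal.ResidueField.map x.asIdeal ⊥ (algebraMap A K) rfl)
  letI : Algebra κ K := φ.toAlgebra
  haveI : IsScalarTower A κ K := IsScalarTower.of_algebraMap_eq fun a => by
    show algebraMap A K a = e.symm (Ideal.ResidueField.map _ _ _ _ (algebraMap A κ a))
    rw [Ideal.ResidueField.map_algebraMap, RingEquiv.eq_symm_apply]
    rfl
  haveI : Subsingleton (K ⊗[κ] (κ ⊗[A] M)) :=
    (TensorProduct.AlgebraTensorModule.cancelBaseChange A κ κ K M).toEquiv.subsingleton
  haveI : Subsingleton (κ ⊗[A] M) := by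
    by_contra hn
    rw [not_subsingleton_iff_nontrivial] at hn
    exact not_subsingleton (K ⊗[κ] (κ ⊗[A] M)) inferInstance
  have hx : x ∉ Module.support A M := fun h => not_subsingleton_iff_nontrivial.2
    ((Module.mem_support_iff_nontrivial_residueField_tensorProduct x).1 h) inferInstance
  rw [Module.notMem_support_iff'] at hx
  choose r hr hrm using hx
  obtain ⟨s, hs⟩ := (Module.finite_def.1 (inferInstance : Module.Finite A M))
  refine ⟨∏ m ∈ s, r m, fun hmem => ?_, fun m => ?_⟩
  · obtain ⟨m, -, hm⟩ := (Ideal.IsPrime.prod_mem_iff (hp := x.2)).1 hmem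
    exact hr m hm
  · have hm : m ∈ Submodule.span A (s : Set M) := hs ▸ Submodule.mem_top
    induction hm using Submodule.span_induction with
    | mem m hm =>
      rw [← Finset.prod_erase_mul s r hm, mul_smul, hrm, smul_zero]
    | zero => exact smul_zero _
    | add a b _ _ ha hb => rw [smul_add, ha, hb, add_zero]
    | smul c a _ ha => rw [smul_comm, ha, smul_zero]

/-- A differential of finite modules is split where every cycle over the field comes from cycles. -/
theorem splitAt_of_cycles_le [Module.Finite A P] [Module.Finite A P₂] [Module.Free A P₂] {K : Type u} [Field K]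
    [Algebra A K] (d : P →ₗ[A] P₂)
    (h : LinearMap.ker (d.baseChange K) ≤ LinearMap.range ((LinearMap.ker d).subtype.baseChange K)) :
    SplitAt d (PrimeSpectrum.comap (algebraMap A K) ⊥) := by
  classical
  obtain ⟨b₀, hsub, hspan, hli⟩ := exists_linearIndependent K (Set.range fun v : P => (1 : K) ⊗ₜ[A] d v)
  have hbfin : b₀.Finite := hli.setFinite
  haveI : Fintype b₀ := hbfin.fintype
  choose v hv using fun j : b₀ => hsub j.2
  simp only at hv
  haveI : Nontrivial A := (algebraMap A K).domain_nontrivial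
  let e := Module.Free.chooseBasis A P₂
  haveI : Fintype (Module.Free.ChooseBasisIndex A P₂) :=
    @Fintype.ofFinite _ (Module.Finite.finite_basis e)
  let N : Module.Free.ChooseBasisIndex A P₂ → (b₀ → A) := fun k j => e.repr (d (v j)) k
  -- the rows span after extension to the field
  let eK := e.baseChange K
  have hli' : LinearIndependent K (fun j : b₀ => (j : K ⊗[A] P₂)) := hli
  let L : (K ⊗[A] P₂) →ₗ[K] (b₀ → K) :=
    (Finsupp.linearEquivFunOnFinite K K b₀).toLinearMap ∘ₗ
      (Classical.choose (LinearMap.exists_extend hli'.repr))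
  have hL : ∀ j, L j.1 = Pi.single j 1 := fun j => by
    have hm : j.1 ∈ Submodule.span K (Set.range fun j : b₀ => (j : K ⊗[A] P₂)) := Submodule.subset_span ⟨j, rfl⟩
    have h1 := LinearMap.congr_fun (Classical.choose_spec (LinearMap.exists_extend hli'.repr)) ⟨_, hm⟩
    simp only [LinearMap.comp_apply, Submodule.subtype_apply] at h1
    show (Finsupp.linearEquivFunOnFinite K K b₀) _ = _
    rw [h1, hli'.repr_eq_single j ⟨_, hm⟩ rfl]
    exact Finsupp.single_eq_pi_single _ _
  haveI : Subsingleton (K ⊗[A] ((b₀ → A) ⧸ Submodule.span A (Set.range N))) := by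
    set q := (Submodule.span A (Set.range N)).mkQ
    refine subsingleton_of_forall_eq 0 fun z => ?_
    obtain ⟨w, rfl⟩ := LinearMap.lTensor_surjective K (Submodule.mkQ_surjective _) z
    have hw : ∀ i : b₀, q.baseChange K ((1 : K) ⊗ₜ Pi.single i 1) = 0 := fun i => by
      have key : (1 : K) ⊗ₜ[A] (Pi.single i 1 : b₀ → A) = ∑ k, L (eK k) i • ((1 : K) ⊗ₜ N k) := by
        apply (TensorProduct.piScalarRight A K K b₀).injective
        funext j
        have hj : (j : K ⊗[A] P₂) = ∑ k, algebraMap A K (N k j) • eK k := by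
          rw [← hv j]
          conv_lhs => rw [← e.sum_repr (d (v j)), TensorProduct.tmul_sum]
          refine Finset.sum_congr rfl fun k _ => ?_
          rw [TensorProduct.tmul_smul, algebraMap_smul, Module.Basis.baseChange_apply]
        have h2 := congrFun (hL j) i
        rw [hj, map_sum] at h2
        simp only [map_smul, Finset.sum_apply, Pi.smul_apply, smul_eq_mul] at h2
        simp only [map_sum, map_smul, TensorProduct.piScalarRight_apply, TensorProduct.piScalarRightHom_tmul,
          Finset.sum_apply, Pi.smul_apply, smul_eq_mul, Algebra.smul_def, mul_one]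
        rw [Pi.single_apply, apply_ite (algebraMap A K), map_one, map_zero]
        refine Eq.trans ?_ (h2.symm.trans (Finset.sum_congr rfl fun k _ => mul_comm _ _))
        rw [Pi.single_apply]
        simp [eq_comm]
      rw [key, map_sum]
      refine Finset.sum_eq_zero fun k _ => ?_
      rw [map_smul, LinearMap.baseChange_tmul, show q (N k) = 0 from
        (Submodule.Quotient.mk_eq_zero _).2 (Submodule.subset_span ⟨k, rfl⟩), TensorProduct.tmul_zero, smul_zero]
    show q.baseChange K w = 0
    have hz : q.baseChange K = 0 := by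
      refine LinearMap.ext fun w => ?_
      induction w using TensorProduct.induction_on with
      | zero => simp
      | add x y hx hy => rw [map_add, hx, hy]; simp
      | tmul a f =>
        rw [LinearMap.baseChange_tmul, ← mul_one a, ← smul_eq_mul, ← TensorProduct.smul_tmul']
        have : (1 : K) ⊗ₜ[A] q f = 0 := by
          rw [pi_eq_sum_univ f, map_sum, TensorProduct.tmul_sum]
          refine Finset.sum_eq_zero fun i _ => ?_
          rw [map_smul, TensorProduct.tmul_smul]
          have := hw i
          rw [LinearMap.baseChange_tmul] at this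
          rw [show (fun j => if i = j then (1 : A) else 0) = Pi.single i 1 from funext fun j => by
            simp [Pi.single_apply, eq_comm], this, smul_zero]
        rw [this, smul_zero]
        rfl
    rw [hz]
    rfl
  obtain ⟨r, hr, hrM⟩ := exists_smul_eq_zero (A := A) ((b₀ → A) ⧸ Submodule.span A (Set.range N)) K
  have hmem : ∀ j : b₀, r • (Pi.single j 1 : b₀ → A) ∈ Submodule.span A (Set.range N) := fun j =>
    (Submodule.Quotient.mk_eq_zero _).1
      ((Submodule.Quotient.mk_smul (Submodule.span A (Set.range N)) r (Pi.single j 1 : b₀ → A)).trans (hrM _))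
  choose c hc using fun j : b₀ => (Submodule.mem_span_range_iff_exists_fun A).1 (hmem j)
  let σ₀ : P₂ →ₗ[A] P := e.constr A fun k => ∑ j, c j k • v j
  have hσ₀ : ∀ i, σ₀ (d (v i)) = r • v i := fun i => by
    rw [Module.Basis.constr_apply_fintype]
    simp only [Module.Basis.equivFun_apply, Finset.smul_sum, smul_smul]
    rw [Finset.sum_comm]
    simp only [← Finset.sum_smul]
    have : ∀ j, ∑ k, e.repr (d (v i)) k * c j k = r * (Pi.single j 1 : b₀ → A) i := fun j => by
      have h1 := congrFun (hc j) i
      simp only [Finset.sum_apply, Pi.smul_apply, smul_eq_mul] at h1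
      rw [← h1]
      exact Finset.sum_congr rfl fun k _ => mul_comm _ _
    simp only [this]
    rw [Finset.sum_eq_single i (fun j _ hj => by simp [Pi.single_eq_of_ne (Ne.symm hj)])
      (fun h => absurd (Finset.mem_univ i) h)]
    simp
  let W : Submodule A P := Submodule.span A (Set.range v) ⊔ LinearMap.ker d
  haveI : Subsingleton (K ⊗[A] (P ⧸ W)) := by
    refine subsingleton_of_forall_eq 0 fun z => ?_
    obtain ⟨w, rfl⟩ := LinearMap.lTensor_surjective K W.mkQ_surjective z
    show W.mkQ.baseChange K w = 0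
    have hd : d.baseChange K w ∈ Submodule.span K (Set.range fun j : b₀ => (1 : K) ⊗ₜ[A] d (v j)) := by
      have hrg : (Set.range fun j : b₀ => (1 : K) ⊗ₜ[A] d (v j)) = b₀ := by
        rw [show (fun j : b₀ => (1 : K) ⊗ₜ[A] d (v j)) = Subtype.val from funext hv, Subtype.range_coe]
      rw [hrg, hspan]
      induction w using TensorProduct.induction_on with
      | zero => simp
      | add x y hx hy => rw [map_add]; exact Submodule.add_mem _ hx hy
      | tmul a p =>
        rw [LinearMap.baseChange_tmul, ← mul_one a, ← smul_eq_mul, ← TensorProduct.smul_tmul']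
        exact Submodule.smul_mem _ _ (Submodule.subset_span ⟨p, rfl⟩)
    obtain ⟨a, ha⟩ := (Submodule.mem_span_range_iff_exists_fun K).1 hd
    have hker : w - ∑ j, a j • ((1 : K) ⊗ₜ[A] v j) ∈ LinearMap.ker (d.baseChange K) := by
      rw [LinearMap.mem_ker, map_sub, map_sum]
      simp only [map_smul, LinearMap.baseChange_tmul, ha, sub_self]
    obtain ⟨t, ht⟩ := h hker
    rw [← sub_add_cancel w (∑ j, a j • ((1 : K) ⊗ₜ[A] v j)), ← ht, map_add, map_sum,
      ← LinearMap.comp_apply, ← LinearMap.baseChange_comp,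
      show W.mkQ ∘ₗ (LinearMap.ker d).subtype = 0 from
        LinearMap.ext fun z => (Submodule.Quotient.mk_eq_zero _).2 (Submodule.mem_sup_right z.2),
      LinearMap.baseChange_zero, LinearMap.zero_apply, zero_add]
    refine Finset.sum_eq_zero fun j _ => ?_
    rw [map_smul, LinearMap.baseChange_tmul, show W.mkQ (v j) = 0 from
      (Submodule.Quotient.mk_eq_zero _).2 (Submodule.mem_sup_left (Submodule.subset_span ⟨j, rfl⟩)),
      TensorProduct.tmul_zero, smul_zero]
  obtain ⟨r₁, hr₁, hr₁W⟩ := exists_smul_eq_zero (A := A) (P ⧸ W) K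
  refine ⟨r * r₁, r₁ • σ₀, fun hh => ?_, fun p => ?_⟩
  · exact ((PrimeSpectrum.comap (algebraMap A K) ⊥).2.mem_or_mem hh).elim hr hr₁
  · obtain ⟨p₁, hp₁, z, hz, e'⟩ := Submodule.mem_sup.1
      ((Submodule.Quotient.mk_eq_zero W).1 ((Submodule.Quotient.mk_smul W r₁ p).trans (hr₁W _)))
    have hσ : σ₀ (d p₁) = r • p₁ := by
      clear e'
      induction hp₁ using Submodule.span_induction with
      | mem m hm => obtain ⟨i, rfl⟩ := hm; exact hσ₀ i
      | zero => simp
      | add x y _ _ hx hy => rw [map_add, map_add, hx, hy, smul_add]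
      | smul c x _ hx => rw [map_smul, map_smul, hx, smul_comm c r]
    have hd1 : r₁ • d p = d p₁ := by
      rw [← map_smul, ← e', map_add, show d z = 0 from hz, add_zero]
    rw [LinearMap.smul_apply, ← map_smul σ₀, hd1, hσ, map_smul, mul_smul, hd1]

/-- Vanishing of the fibre homology moves a splitting one step down. -/
theorem SplitAt.prev [Module.Finite A P] [Module.Free A P] {K : Type u} [Field K] [Algebra A K]
    {d' : P₀ →ₗ[A] P} {d : P →ₗ[A] P₂} (hdd : d ∘ₗ d' = 0)
    (h : SplitAt d (PrimeSpectrum.comap (algebraMap A K) ⊥))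
    (hK : LinearMap.ker (d.baseChange K) ≤ LinearMap.range (d'.baseChange K)) :
    SplitAt d' (PrimeSpectrum.comap (algebraMap A K) ⊥) := by
  classical
  obtain ⟨r, σ, hr, hσ⟩ := h
  let W : Submodule A P := LinearMap.range d' ⊔ LinearMap.range (σ ∘ₗ d)
  haveI : Subsingleton (K ⊗[A] (P ⧸ W)) := by
    refine subsingleton_of_forall_eq 0 fun z => ?_
    obtain ⟨w, rfl⟩ := LinearMap.lTensor_surjective K W.mkQ_surjective z
    show W.mkQ.baseChange K w = 0
    let π : P →ₗ[A] P := r • LinearMap.id - σ ∘ₗ d
    obtain ⟨a, ha⟩ := hK (show π.baseChange K w ∈ LinearMap.ker (d.baseChange K) by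
      rw [LinearMap.mem_ker, ← LinearMap.comp_apply, ← LinearMap.baseChange_comp,
        show d ∘ₗ π = 0 from LinearMap.ext fun v => by simp [π, hσ v], LinearMap.baseChange_zero]
      rfl)
    have hr' : algebraMap A K r ≠ 0 := fun e => hr e
    have h1 := congrArg (W.mkQ.baseChange K) ha
    rw [← LinearMap.comp_apply, ← LinearMap.baseChange_comp,
      show W.mkQ ∘ₗ d' = 0 from LinearMap.ext fun z =>
        (Submodule.Quotient.mk_eq_zero _).2 (Submodule.mem_sup_left ⟨z, rfl⟩),
      LinearMap.baseChange_zero, LinearMap.zero_apply, ← LinearMap.comp_apply, ← LinearMap.baseChange_comp,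
      show W.mkQ ∘ₗ π = r • W.mkQ from LinearMap.ext fun z => by
        simp only [π, LinearMap.comp_apply, LinearMap.sub_apply, LinearMap.smul_apply, LinearMap.id_apply, map_sub,
          map_smul]
        rw [show W.mkQ (σ (d z)) = 0 from
          (Submodule.Quotient.mk_eq_zero _).2 (Submodule.mem_sup_right ⟨z, rfl⟩), sub_zero],
      LinearMap.baseChange_smul, LinearMap.smul_apply, ← algebraMap_smul K r] at h1
    exact (smul_eq_zero.1 h1.symm).resolve_left hr'
  obtain ⟨r₁, hr₁, hr₁W⟩ := exists_smul_eq_zero (A := A) (P ⧸ W) K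
  let e := Module.Free.chooseBasis A P
  have hdec : ∀ v, ∃ a, r₁ • (r • v - σ (d v)) = r • d' a := fun v => by
    obtain ⟨_, ⟨a, rfl⟩, _, ⟨b, rfl⟩, he⟩ := Submodule.mem_sup.1
      ((Submodule.Quotient.mk_eq_zero W).1 ((Submodule.Quotient.mk_smul W r₁ v).trans (hr₁W _)))
    refine ⟨a, ?_⟩
    rw [smul_sub, smul_comm r₁ r v, ← map_smul σ, ← map_smul d, ← he, LinearMap.comp_apply, map_add d,
      show d (d' a) = 0 from LinearMap.congr_fun hdd a, zero_add, smul_add, hσ b, map_smul]
    abel
  choose a ha using fun k => hdec (e k)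
  let σ' : P →ₗ[A] P₀ := e.constr A a
  have hall : ∀ v, r • d' (σ' v) = r₁ • (r • v - σ (d v)) := by
    intro v
    have : r • (d' ∘ₗ σ') = r₁ • (r • LinearMap.id - σ ∘ₗ d) := e.ext fun k => by
      simp [σ', ha k]
    simpa using LinearMap.congr_fun this v
  refine ⟨r * r₁, r • σ', fun hh => ?_, fun c => ?_⟩
  · exact ((PrimeSpectrum.comap (algebraMap A K) ⊥).2.mem_or_mem hh).elim hr hr₁
  · rw [LinearMap.smul_apply, map_smul, hall, show d (d' c) = 0 from LinearMap.congr_fun hdd c, map_zero,
      sub_zero, smul_smul, mul_comm]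

end Groth.L17.BC
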