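import Groth.Agent.L17.BC.ClassesPull
import Groth.Agent.L17.BC.Split

/-!
# Base change of Čech classes
-/

set_option autoImplicit false
set_option linter.style.haveILetI false
set_option linter.unusedSectionVars false
set_option backward.isDefEq.respectTransparency false

universe u

open CategoryTheory CategoryTheory.Limits AlgebraicGeometry TopologicalSpace Opposite
open scoped TensorProduct

noncomputable section

namespace Groth.L17.BC.Classes

open Effaced (Cov Prim SC)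
open Groth.L18.Frame (rs pull rs_rs rs_smul)

section Nat

variable {X Y : Scheme.{u}} (f : X ⟶ Y) [IsSeparated f] [QuasiCompact f] [HasInjectiveResolutions X.Modules]
  {V : Y.Opens} (hV : IsAffineOpen V) (c : Cov f (V := V))

/-- Classes see the image of any module without higher classes. -/
def NatP (G : X.Modules) (p : ℕ) (i : ℤ) (θ : ZF f hV c G i →ₗ[Γ(Y, V)] Γ((Coh.Rpush f p).obj G, V)) : Prop :=
  ∀ (C : X.Modules) [Coh.IsQCoh (C.restrict (f ⁻¹ᵁ V).ι)] (_ : Prim f hV c C) (π : C ⟶ G)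
    (t : Γ((Coh.Rpush f p).obj G, V)),
    (∃ w : ZF f hV c C i, θ ⟨mF f hV c π i w.1, mem_ZF_mF f hV c π i w⟩ = t) ↔
      ∃ a, ((Coh.Rpush f p).map π).app V a = t

theorem natP_zero (G : X.Modules) (θ : ZF f hV c G 0 →ₗ[Γ(Y, V)] Γ((Coh.Rpush f 0).obj G, V))
    (h : ∀ (z : ZF f hV c G 0) (hz : z.1 ∈ LinearMap.ker (dL (ρV f hV) (FV f (V := V) G) c.U 0)),
      θ z = θ0 f hV c G ⟨z.1, hz⟩) : NatP f hV c G 0 0 θ := by
  intro C _ _ π t
  have hG : ∀ z : ZF f hV c G 0, z.1 ∈ LinearMap.ker (dL (ρV f hV) (FV f (V := V) G) c.U 0) :=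
    fun z => (K_d _ _ c.U 0 z.1).symm.trans z.2
  constructor
  · rintro ⟨w, rfl⟩
    have hw : w.1 ∈ LinearMap.ker (dL (ρV f hV) (FV f (V := V) C) c.U 0) := (K_d _ _ c.U 0 w.1).symm.trans w.2
    refine ⟨θ0 f hV c C ⟨w.1, hw⟩, ?_⟩
    rw [h _ (hG _)]
    exact (θ0_natural f hV c C π ⟨w.1, hw⟩ _ rfl).symm
  · rintro ⟨a, rfl⟩
    obtain ⟨w, rfl⟩ := θ0_surjective f hV c C a
    have hw : w.1 ∈ ZF f hV c C 0 := (K_d _ _ c.U 0 w.1).trans w.2
    refine ⟨⟨w.1, hw⟩, ?_⟩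
    rw [h _ (hG _)]
    exact θ0_natural f hV c C π w _ rfl

include hV in
theorem natP_succ (G : X.Modules) (p : ℕ) (θ : ZF f hV c G ((p : ℤ) + 1) →ₗ[Γ(Y, V)] Γ((Coh.Rpush f (p + 1)).obj G, V))
    (h : IsCls f hV c G (p + 1) ((p : ℤ) + 1) θ) : NatP f hV c G (p + 1) ((p : ℤ) + 1) θ := by
  intro C _ hC π t
  haveI := Effaced.subsingleton_sections f hV c C hC p
  have hz : ∀ a, ((Coh.Rpush f (p + 1)).map π).app V a = 0 := fun a => by
    rw [Subsingleton.elim a 0]; exact map_zero _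
  have hl : ∀ w : ZF f hV c C ((p : ℤ) + 1),
      θ ⟨mF f hV c π _ w.1, mem_ZF_mF f hV c π _ w⟩ = 0 := by
    intro w
    obtain ⟨v, hv⟩ := hC (p : ℤ) (Int.natCast_nonneg p) w.1 ((K_d _ _ c.U _ _).symm.trans w.2)
    have hv' : dF f hV c C (p : ℤ) ((p : ℤ) + 1) v = w.1 := (K_d _ _ c.U (p : ℤ) v).trans hv
    refine (h.ker _).2 ?_
    have key : ∀ (k : ℤ), k = (p : ℤ) →
        ∃ u, dF f hV c G k ((p : ℤ) + 1) u = mF f hV c π ((p : ℤ) + 1) w.1 := by
      intro k e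
      subst k
      exact ⟨mF f hV c π (p : ℤ) v, ((mF_d f hV c π (p : ℤ) ((p : ℤ) + 1) v).symm.trans
        (congrArg (mF f hV c π ((p : ℤ) + 1)) hv'))⟩
    exact key _ (add_sub_cancel_right _ _)
  constructor
  · rintro ⟨w, rfl⟩
    exact ⟨0, (hz 0).trans (hl w).symm⟩
  · rintro ⟨a, rfl⟩
    exact ⟨0, (hl 0).trans (hz a).symm⟩

end Nat

variable {X S X' S' : Scheme.{u}} {f : X ⟶ S} {g : S' ⟶ S} {f' : X' ⟶ S'} {g' : X' ⟶ X} {V : S.Opens}
  {V' : S'.Opens} (q : Sq f g f' g' V V') [alg : Algebra Γ(S, V) Γ(S', V')]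
  (halg : algebraMap Γ(S, V) Γ(S', V') = q.φ.hom) (c : Cov f (V := V))
  [IsSeparated f] [QuasiCompact f] [IsSeparated f'] [QuasiCompact f']

include halg in
theorem Sq.isQCoh_pullback (G : X.Modules) [Coh.IsQCoh (G.restrict (f ⁻¹ᵁ V).ι)] :
    Coh.IsQCoh (((Scheme.Modules.pullback g').obj G).restrict (f' ⁻¹ᵁ V').ι) := by
  haveI : Coh.IsQCoh (FV f (V := V) G) := ‹Coh.IsQCoh (G.restrict (f ⁻¹ᵁ V).ι)›
  exact Groth.L29.DC.isQCoh_of_iso' (q.iso G) (Groth.L16.AffineBC.isQCoh_pullback q.r (FV f (V := V) G))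

include halg in
/-- The pullback of the effacing module has no higher classes. -/
theorem Sq.prim_pullback (G : X.Modules) [Coh.IsQCoh (G.restrict (f ⁻¹ᵁ V).ι)] :
    Prim f' q.hV' (q.cov c) ((Scheme.Modules.pullback g').obj (SC f c G).X₂) := by
  intro i hi z hz
  haveI := Effaced.isSeparated f q.hV
  haveI : QuasiSeparatedSpace (↑(f ⁻¹ᵁ V) : Scheme.{u}) := inferInstance
  letI := c.fin
  let R := Scheme.Modules.restrictFunctor (f' ⁻¹ᵁ V').ι
  let R₀ := Scheme.Modules.restrictFunctor (f ⁻¹ᵁ V).ι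
  let Q := Scheme.Modules.pullback g'
  haveI := (Scheme.Modules.pullbackPushforwardAdjunction g').isLeftAdjoint
  haveI := (Scheme.Modules.pullbackPushforwardAdjunction q.r).isLeftAdjoint
  haveI : R.Additive :=
    haveI := preservesBinaryBiproducts_of_preservesBinaryCoproducts R
    Functor.additive_of_preservesBinaryBiproducts _
  haveI : Q.Additive :=
    haveI := preservesBinaryBiproducts_of_preservesBinaryCoproducts Q
    Functor.additive_of_preservesBinaryBiproducts _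
  haveI : ∀ j, Coh.IsQCoh ((Efface.P (c.W f) G j).restrict (f ⁻¹ᵁ V).ι) := fun j =>
    Efface.isQCoh_restrict_P _ _ G j (c.W_le f j) (c.isAffineOpen_W f j)
  refine Cochains.exists_primitive (ρV f' q.hV') (q.cov c).U (fun j => R.obj (Q.obj (Efface.P (c.W f) G j)))
    (fun j => R.map (Q.map (Efface.proj (f ⁻¹ᵁ V) (c.W f) G j)))
    (fun j => R.map (Q.map (Efface.incl (f ⁻¹ᵁ V) (c.W f) G j))) ?_ ?_ hi z hz
  · have hD : IsZero (R.obj (Q.obj (Efface.D (f ⁻¹ᵁ V) G))) :=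
      ((Scheme.Modules.pullback q.r).map_isZero (Efface.isZero_restrict_D (f ⁻¹ᵁ V) G)).of_iso
        (q.iso (Efface.D (f ⁻¹ᵁ V) G)).symm
    have h := congrArg (fun k => R.map (Q.map k)) (Efface.sum_proj_incl (f ⁻¹ᵁ V) (c.W f) G)
    simp only [Functor.map_add, Functor.map_sum, Functor.map_comp] at h
    rw [hD.eq_of_tgt (R.map (Q.map biprod.snd)) 0, zero_comp, add_zero] at h
    exact h.trans ((congrArg R.map (Q.map_id _)).trans (R.map_id _))
  · intro j l h hl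
    have h₀ : opn c.U (j :: l) ≤ opn c.U l := opn_le_opn c.U fun x hx => List.mem_cons_of_mem _ hx
    exact q.bijective_resL halg c (Efface.P (c.W f) G j) j l hl h₀
      (Cochains.bijective_resL_of_isLocalTo _ c.U (Effaced.isLocalTo_restrict (Efface.isLocalTo_push _ _)) l h₀) h

variable [HasInjectiveResolutions X.Modules] [HasInjectiveResolutions X'.Modules]
  {w : g' ≫ f = f' ≫ g}
  {Δ : RDer.DerivedLES (Scheme.Modules.pushforward f)} {Δ' : RDer.DerivedLES (Scheme.Modules.pushforward f')}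
  {E : CohCmp.SectCmp f Δ} {E' : CohCmp.SectCmp f' Δ'} (B : CohCmp.GenBC f g f' g' w E E')

/-- The base change map on sections. -/
def Sq.ψ (p : ℕ) (G : X.Modules) (t : Γ((Coh.Rpush f p).obj G, V)) :
    Γ((Coh.Rpush f' p).obj ((Scheme.Modules.pullback g').obj G), V') :=
  rs ((Coh.Rpush f' p).obj ((Scheme.Modules.pullback g').obj G)) q.le
    (show Γ((Coh.Rpush f' p).obj ((Scheme.Modules.pullback g').obj G), g ⁻¹ᵁ V) from (B.φ p G).app V t)

theorem Sq.mem_ZF_Φ₀ (G : X.Modules) (i : ℤ) (z : ZF f q.hV c G i) :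
    q.Φ₀ halg c G i z.1 ∈ ZF f' q.hV' (q.cov c) ((Scheme.Modules.pullback g').obj G) i := by
  rw [LinearMap.mem_ker, ← q.Φ₀_dF halg, z.2, map_zero]

/-- Compatible classes on the two sides. -/
def Sq.Good (p : ℕ) (i : ℤ) (G : X.Modules) : Prop :=
  ∃ θ : ZF f q.hV c G i →ₗ[Γ(S, V)] Γ((Coh.Rpush f p).obj G, V),
  ∃ θ' : ZF f' q.hV' (q.cov c) ((Scheme.Modules.pullback g').obj G) i →ₗ[Γ(S', V')]
      Γ((Coh.Rpush f' p).obj ((Scheme.Modules.pullback g').obj G), V'),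
    IsCls f q.hV c G p i θ ∧ IsCls f' q.hV' (q.cov c) ((Scheme.Modules.pullback g').obj G) p i θ' ∧
    NatP f q.hV c G p i θ ∧ NatP f' q.hV' (q.cov c) ((Scheme.Modules.pullback g').obj G) p i θ' ∧
    ∀ z : ZF f q.hV c G i, q.ψ B p G (θ z) = θ' ⟨_, q.mem_ZF_Φ₀ halg c G i z⟩

include halg in
theorem Sq.good_zero (G : X.Modules) : q.Good halg c B 0 0 G := by
  obtain ⟨θ, h1, h2⟩ := isCls_θ0 f q.hV c G
  obtain ⟨θ', h1', h2'⟩ := isCls_θ0 f' q.hV' (q.cov c) ((Scheme.Modules.pullback g').obj G)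
  refine ⟨θ, θ', h1, h1', natP_zero f q.hV c G θ h2, natP_zero f' q.hV' (q.cov c) _ θ' h2', fun z => ?_⟩
  have hz : z.1 ∈ LinearMap.ker (dL (ρV f q.hV) (FV f (V := V) G) c.U 0) := (K_d _ _ c.U 0 z.1).symm.trans z.2
  have hz' : q.Φ₀ halg c G 0 z.1 ∈
      LinearMap.ker (dL (ρV f' q.hV') (FV f' (V := V') ((Scheme.Modules.pullback g').obj G)) (q.cov c).U 0) :=
    (K_d _ _ (q.cov c).U 0 _).symm.trans (q.mem_ZF_Φ₀ halg c G 0 z)
  obtain ⟨s, hs⟩ := exists_glues f q.hV c G hz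
  refine Eq.trans ?_ (((h2' _ hz').trans (θ0_eq f' q.hV' (q.cov c) _ ⟨_, hz'⟩ _ (q.glues_pull halg c hs))).symm)
  have e1 : θ z = ((Scheme.Modules.pushforward f).toRightDerivedZero.app G).app V s :=
    (h2 z hz).trans (θ0_eq f q.hV c G ⟨_, hz⟩ s hs)
  refine (congrArg (q.ψ B 0 G) e1).trans ?_
  refine (congrArg (rs ((Coh.Rpush f' 0).obj ((Scheme.Modules.pullback g').obj G)) q.le)
    (Delta.φ_zero B V G s)).trans ?_
  refine (Cochains.app_rs ((Scheme.Modules.pushforward f').toRightDerivedZero.app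
    ((Scheme.Modules.pullback g').obj G)) q.le _).symm.trans ?_
  refine congrArg (((Scheme.Modules.pushforward f').toRightDerivedZero.app
    ((Scheme.Modules.pullback g').obj G)).app V') ?_
  exact rs_rs ((Scheme.Modules.pullback g').obj G) (CohCmp.sqLE f g f' g' w V) (f'.preimage_mono q.le) _

include halg in
theorem Sq.good_succ (p : ℕ) (G : X.Modules) [Coh.IsQCoh (G.restrict (f ⁻¹ᵁ V).ι)]
    (ih : ∀ (G : X.Modules) [Coh.IsQCoh (G.restrict (f ⁻¹ᵁ V).ι)], q.Good halg c B p p G) :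
    q.Good halg c B (p + 1) ((p : ℤ) + 1) G := by
  letI := c.fin
  let Q := Scheme.Modules.pullback g'
  haveI := (Scheme.Modules.pullbackPushforwardAdjunction g').isLeftAdjoint
  haveI : Q.Additive :=
    haveI := preservesBinaryBiproducts_of_preservesBinaryCoproducts Q
    Functor.additive_of_preservesBinaryBiproducts _
  let T := SC f c G
  have hT : T.ShortExact := Effaced.shortExact_SC f c G
  have hT' : (T.map Q).ShortExact :=
    Efface.shortExact_pullback hT (Efface.stalkSplit_toC _ _ G (c.covers f)) g'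
  haveI : Coh.IsQCoh (T.X₁.restrict (f ⁻¹ᵁ V).ι) := ‹Coh.IsQCoh (G.restrict (f ⁻¹ᵁ V).ι)›
  haveI : Coh.IsQCoh (T.X₂.restrict (f ⁻¹ᵁ V).ι) := Effaced.isQCoh_C f q.hV c G
  haveI : Coh.IsQCoh (T.X₃.restrict (f ⁻¹ᵁ V).ι) := Effaced.isQCoh_Q f q.hV c G
  haveI : Coh.IsQCoh ((T.map Q).X₁.restrict (f' ⁻¹ᵁ V').ι) := q.isQCoh_pullback halg T.X₁
  haveI : Coh.IsQCoh ((T.map Q).X₂.restrict (f' ⁻¹ᵁ V').ι) := q.isQCoh_pullback halg T.X₂
  haveI : Coh.IsQCoh ((T.map Q).X₃.restrict (f' ⁻¹ᵁ V').ι) := q.isQCoh_pullback halg T.X₃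
  have hp : Prim f q.hV c T.X₂ := Effaced.prim_SC f q.hV c G
  have hp' : Prim f' q.hV' (q.cov c) (T.map Q).X₂ := q.prim_pullback halg c G
  obtain ⟨θQ, θQ', hQ, hQ', hn, hn', hc⟩ := ih T.X₃
  obtain ⟨θ, hθ, spec⟩ := exists_isCls_succ f q.hV c Δ hT hp (Int.natCast_nonneg p) p θQ hQ (hn T.X₂ hp T.g)
  obtain ⟨θ', hθ', spec'⟩ := exists_isCls_succ f' q.hV' (q.cov c) Δ' hT' hp' (Int.natCast_nonneg p) p θQ' hQ'
    (hn' (T.map Q).X₂ hp' (T.map Q).g)
  refine ⟨θ, θ', hθ, hθ', natP_succ f q.hV c G p θ hθ,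
    natP_succ f' q.hV' (q.cov c) (Q.obj G) p θ' hθ', fun z => ?_⟩
  obtain ⟨v, hv, hm⟩ := exists_lift f q.hV c hT hp (Int.natCast_nonneg p) z
  have hv' : dF f' q.hV' (q.cov c) (T.map Q).X₂ p (p + 1) (q.Φ₀ halg c T.X₂ p v) =
      mF f' q.hV' (q.cov c) (T.map Q).f (p + 1) (q.Φ₀ halg c T.X₁ (p + 1) z.1) :=
    (q.Φ₀_dF halg c T.X₂ p (p + 1) v).symm.trans
      ((congrArg (q.Φ₀ halg c T.X₂ (p + 1)) hv).trans (q.Φ₀_mF halg c T.f (p + 1) z.1))
  have e : mF f' q.hV' (q.cov c) (T.map Q).g p (q.Φ₀ halg c T.X₂ p v) =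
      q.Φ₀ halg c T.X₃ p (mF f q.hV c T.g p v) := (q.Φ₀_mF halg c T.g p v).symm
  have hm' : mF f' q.hV' (q.cov c) (T.map Q).g p (q.Φ₀ halg c T.X₂ p v) ∈
      ZF f' q.hV' (q.cov c) (T.map Q).X₃ p := by
    rw [e]; exact q.mem_ZF_Φ₀ halg c T.X₃ p ⟨_, hm⟩
  refine Eq.trans ?_ (spec' ⟨_, q.mem_ZF_Φ₀ halg c T.X₁ (p + 1) z⟩ _ hv' hm').symm
  refine Eq.trans (congrArg (q.ψ B (p + 1) G) (spec z v hv hm)) ?_
  refine Eq.trans ?_ (congrArg ((Δ'.δ (T.map Q) hT' p (p + 1) rfl).app V')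
    ((hc ⟨_, hm⟩).trans (congrArg θQ' (Subtype.ext e.symm))))
  unfold Sq.ψ
  refine Eq.trans (congrArg (rs ((Coh.Rpush f' (p + 1)).obj ((Scheme.Modules.pullback g').obj G)) q.le)
    (Delta.φ_δ B q.hV hT hT' p (θQ ⟨_, hm⟩))) ?_
  exact (Cochains.app_rs (Δ'.δ (T.map Q) hT' p (p + 1) rfl) q.le _).symm

include halg in
theorem Sq.good (p : ℕ) : ∀ (G : X.Modules) [Coh.IsQCoh (G.restrict (f ⁻¹ᵁ V).ι)], q.Good halg c B p p G := by
  induction p with
  | zero => intro G _; exact q.good_zero halg c B G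
  | succ p ih =>
    intro G _
    rw [show ((p + 1 : ℕ) : ℤ) = (p : ℤ) + 1 by push_cast; rfl]
    exact q.good_succ halg c B p G ih

/-- Base change of cochains as an equivalence. -/
theorem Sq.exists_ΦE (G : X.Modules) [Coh.IsQCoh (G.restrict (f ⁻¹ᵁ V).ι)] (i : ℤ) :
    ∃ E : (Γ(S', V') ⊗[Γ(S, V)] CF f q.hV c G i) ≃ₗ[Γ(S', V')]
        CF f' q.hV' (q.cov c) ((Scheme.Modules.pullback g').obj G) i,
      ∀ b x, E (b ⊗ₜ x) = b • q.Φ₀ halg c G i x := by
  haveI : Coh.IsQCoh (FV f (V := V) G) := ‹Coh.IsQCoh (G.restrict (f ⁻¹ᵁ V).ι)›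
  haveI : Finite c.ι := @Finite.of_fintype _ c.fin
  have hbc := isBaseChange_Φ q.r (ρV f q.hV) (ρV f' q.hV') (FV f (V := V) G) (q.compat halg) c.U
    (hasBC_of_isPullback (fV f q.hV) (fV f' q.hV') q.r (q.isPullback halg) (FV f (V := V) G)) c.affine i
  let m := Cochains.mapC (ρV f' q.hV') (Ub q.r c.U) (q.iso G).hom i
  let mi := Cochains.mapC (ρV f' q.hV') (Ub q.r c.U) (q.iso G).inv i
  let M : C (ρV f' q.hV') (Fb q.r (FV f (V := V) G)) (Ub q.r c.U) i ≃ₗ[Γ(S', V')]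
      CF f' q.hV' (q.cov c) ((Scheme.Modules.pullback g').obj G) i :=
    LinearEquiv.ofLinearMap m mi
      (LinearMap.ext fun y => (Cochains.mapC_comp (ρV f' q.hV') (Ub q.r c.U) (q.iso G).inv (q.iso G).hom i y).trans
        ((congrArg (fun k => Cochains.mapC (ρV f' q.hV') (Ub q.r c.U) k i y) (q.iso G).inv_hom_id).trans
          (funext fun a => rfl)))
      (LinearMap.ext fun y => (Cochains.mapC_comp (ρV f' q.hV') (Ub q.r c.U) (q.iso G).hom (q.iso G).inv i y).trans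
        ((congrArg (fun k => Cochains.mapC (ρV f' q.hV') (Ub q.r c.U) k i y) (q.iso G).hom_inv_id).trans
          (funext fun a => rfl)))
  refine ⟨hbc.equiv.trans M, fun b x => ?_⟩
  rw [LinearEquiv.trans_apply, IsBaseChange.equiv_tmul, map_smul]
  rfl

include halg in
theorem Sq.ψ_smul (p : ℕ) (G : X.Modules) (r : Γ(S, V)) (t : Γ((Coh.Rpush f p).obj G, V)) :
    q.ψ B p G (r • t) = algebraMap Γ(S, V) Γ(S', V') r • q.ψ B p G t := by
  rw [halg]
  unfold Sq.ψ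
  rw [(B.φ p G).app_smul r t]
  exact rs_smul ((Coh.Rpush f' p).obj ((Scheme.Modules.pullback g').obj G)) q.le (g.app V r) _

include halg in
/-- The base change map on sections comes from the base change of the Čech complex. -/
theorem Sq.exists_bcData (p : ℕ) (G : X.Modules) [Coh.IsQCoh (G.restrict (f ⁻¹ᵁ V).ι)] :
    letI : Module Γ(S, V) Γ((Coh.Rpush f' p).obj ((Scheme.Modules.pullback g').obj G), V') :=
      Module.compHom _ (algebraMap Γ(S, V) Γ(S', V'))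
    ∃ ψl : Γ((Coh.Rpush f p).obj G, V) →ₗ[Γ(S, V)] Γ((Coh.Rpush f' p).obj ((Scheme.Modules.pullback g').obj G), V'),
      (∀ t, ψl t = q.ψ B p G t) ∧
        Nonempty (BCData (dF f q.hV c G ((p : ℤ) - 1) p) (dF f q.hV c G p (p + 1)) Γ(S', V') ψl) := by
  letI : Module Γ(S, V) Γ((Coh.Rpush f' p).obj ((Scheme.Modules.pullback g').obj G), V') :=
    Module.compHom _ (algebraMap Γ(S, V) Γ(S', V'))
  let G' := (Scheme.Modules.pullback g').obj G
  let ψl : Γ((Coh.Rpush f p).obj G, V) →ₗ[Γ(S, V)] Γ((Coh.Rpush f' p).obj G', V') :=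
    { toFun := q.ψ B p G
      map_add' := fun a b => (congrArg (rs ((Coh.Rpush f' p).obj G') q.le) (map_add ((B.φ p G).app V).hom a b)).trans
        (map_add (((Coh.Rpush f' p).obj G').presheaf.map (homOfLE q.le).op).hom _ _)
      map_smul' := fun r t => q.ψ_smul halg B p G r t }
  obtain ⟨θ, θ', h1, h2, -, -, hc⟩ := q.good halg c B p G
  obtain ⟨e0, he0⟩ := q.exists_ΦE halg c G ((p : ℤ) - 1)
  obtain ⟨e1, he1⟩ := q.exists_ΦE halg c G (p : ℤ)
  obtain ⟨e2, he2⟩ := q.exists_ΦE halg c G ((p : ℤ) + 1)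
  have hcomm : ∀ (i j : ℤ) (ei : (Γ(S', V') ⊗[Γ(S, V)] CF f q.hV c G i) ≃ₗ[Γ(S', V')] CF f' q.hV' (q.cov c) G' i)
      (ej : (Γ(S', V') ⊗[Γ(S, V)] CF f q.hV c G j) ≃ₗ[Γ(S', V')] CF f' q.hV' (q.cov c) G' j),
      (∀ b x, ei (b ⊗ₜ x) = b • q.Φ₀ halg c G i x) → (∀ b x, ej (b ⊗ₜ x) = b • q.Φ₀ halg c G j x) →
      ∀ t, ej ((dF f q.hV c G i j).baseChange Γ(S', V') t) = dF f' q.hV' (q.cov c) G' i j (ei t) := by
    intro i j ei ej hi hj t
    induction t using TensorProduct.induction_on with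
    | zero => simp only [map_zero]
    | add a b ha hb => simp only [map_add, ha, hb]
    | tmul b x => rw [LinearMap.baseChange_tmul, hj, hi, map_smul, ← q.Φ₀_dF halg]
  have mem : ∀ t : LinearMap.ker ((dF f q.hV c G p (p + 1)).baseChange Γ(S', V')),
      e1 t.1 ∈ ZF f' q.hV' (q.cov c) G' p := fun t => by
    rw [LinearMap.mem_ker, ← hcomm _ _ e1 e2 he1 he2, t.2, map_zero]
  let e1' : LinearMap.ker ((dF f q.hV c G p (p + 1)).baseChange Γ(S', V')) →ₗ[Γ(S', V')]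
      ZF f' q.hV' (q.cov c) G' p := LinearMap.codRestrict _ (e1.toLinearMap.comp (Submodule.subtype _)) mem
  refine ⟨ψl, fun t => rfl, ⟨
    { θ := θ
      θ_surj := h1.surj
      θ_ker := h1.ker
      θ' := θ'.comp e1'
      θ'_surj := fun y => ?_
      θ'_ker := fun t => ?_
      compat := fun z hz hw => ?_ }⟩⟩
  · obtain ⟨z, rfl⟩ := h2.surj y
    have hz : e1.symm z.1 ∈ LinearMap.ker ((dF f q.hV c G p (p + 1)).baseChange Γ(S', V')) := by
      rw [LinearMap.mem_ker]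
      refine e2.injective ?_
      rw [hcomm _ _ e1 e2 he1 he2, e1.apply_symm_apply, map_zero]
      exact z.2
    exact ⟨⟨_, hz⟩, congrArg θ' (Subtype.ext (e1.apply_symm_apply z.1))⟩
  · rw [LinearMap.comp_apply, h2.ker]
    constructor
    · rintro ⟨v, hv⟩
      refine ⟨e0.symm v, e1.injective ?_⟩
      rw [hcomm _ _ e0 e1 he0 he1, e0.apply_symm_apply]
      exact hv
    · rintro ⟨v, hv⟩
      refine ⟨e0 v, ?_⟩
      rw [← hcomm _ _ e0 e1 he0 he1, hv]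
      rfl
  · refine (hc ⟨z, hz⟩).trans (congrArg θ' (Subtype.ext ?_))
    exact ((he1 1 z).trans (one_smul _ _)).symm

end Groth.L17.BC.Classes
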