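import Groth.Agent.L17.BC.ClassesZero

/-!
# Čech classes in the next degree
-/

set_option autoImplicit false
set_option linter.style.haveILetI false
set_option linter.unusedSectionVars false
set_option backward.isDefEq.respectTransparency false

universe u

open CategoryTheory CategoryTheory.Limits AlgebraicGeometry TopologicalSpace Opposite

noncomputable section

namespace Groth.L17.BC.Classes

open Effaced (Cov Prim)

variable {X Y : Scheme.{u}} (f : X ⟶ Y) {V : Y.Opens} (hV : IsAffineOpen V) (c : Cov f (V := V))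

/-- The differential on cochains of a module over the preimage. -/
abbrev dF (G : X.Modules) (i j : ℤ) : CF f hV c G i →ₗ[Γ(Y, V)] CF f hV c G j := ((KF f hV c G).d i j).hom

/-- Cocycles. -/
abbrev ZF (G : X.Modules) (i : ℤ) : Submodule Γ(Y, V) (CF f hV c G i) := LinearMap.ker (dF f hV c G i (i + 1))

/-- A map of modules on cochains. -/
abbrev mF {G H : X.Modules} (φ : G ⟶ H) (i : ℤ) : CF f hV c G i →ₗ[Γ(Y, V)] CF f hV c H i :=
  Cochains.mapC (ρV f hV) c.U ((Scheme.Modules.restrictFunctor (f ⁻¹ᵁ V).ι).map φ) i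

theorem mF_d {G H : X.Modules} (φ : G ⟶ H) (i j : ℤ) (x : CF f hV c G i) :
    mF f hV c φ j (dF f hV c G i j x) = dF f hV c H i j (mF f hV c φ i x) :=
  Cochains.mapC_d (ρV f hV) c.U _ i j x

theorem dF_dF (G : X.Modules) (i j k : ℤ) (x : CF f hV c G i) : dF f hV c G j k (dF f hV c G i j x) = 0 :=
  congr($((KF f hV c G).d_comp_d i j k) x)

theorem mem_ZF_mF {G H : X.Modules} (φ : G ⟶ H) (i : ℤ) (x : ZF f hV c G i) :
    mF f hV c φ i x.1 ∈ ZF f hV c H i := by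
  rw [LinearMap.mem_ker, ← mF_d, x.2, map_zero]

variable [HasInjectiveResolutions X.Modules]

/-- `θ` reads classes of cocycles as sections of the higher direct image. -/
structure IsCls (G : X.Modules) (p : ℕ) (i : ℤ) (θ : ZF f hV c G i →ₗ[Γ(Y, V)] Γ((Coh.Rpush f p).obj G, V)) : Prop where
  surj : Function.Surjective θ
  ker : ∀ z, θ z = 0 ↔ ∃ v, dF f hV c G (i - 1) i v = z.1

theorem isCls_θ0 (G : X.Modules) :
    ∃ θ : ZF f hV c G 0 →ₗ[Γ(Y, V)] Γ((Coh.Rpush f 0).obj G, V), IsCls f hV c G 0 0 θ ∧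
      ∀ (z : ZF f hV c G 0) (hz : z.1 ∈ LinearMap.ker (dL (ρV f hV) (FV f (V := V) G) c.U 0)),
        θ z = θ0 f hV c G ⟨z.1, hz⟩ := by
  have h : ZF f hV c G 0 ≤ LinearMap.ker (dL (ρV f hV) (FV f (V := V) G) c.U 0) := fun z hz =>
    (K_d _ _ c.U 0 z).symm.trans hz
  have h' : LinearMap.ker (dL (ρV f hV) (FV f (V := V) G) c.U 0) ≤ ZF f hV c G 0 := fun z hz =>
    (K_d _ _ c.U 0 z).trans hz
  refine ⟨(θ0 f hV c G).comp (Submodule.inclusion h), ⟨fun t => ?_, fun z => ?_⟩, fun z hz => rfl⟩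
  · obtain ⟨w, rfl⟩ := θ0_surjective f hV c G t
    exact ⟨⟨w.1, h' w.2⟩, rfl⟩
  · constructor
    · intro e
      have := (injective_iff_map_eq_zero _).1 (θ0_injective f hV c G) _ e
      exact ⟨0, by rw [map_zero]; exact (congrArg Subtype.val this).symm⟩
    · rintro ⟨v, hv⟩
      haveI := subsingleton_C (ρV f hV) (FV f (V := V) G) c.U (i := (0 : ℤ) - 1) (by omega)
      rw [Subsingleton.elim v 0, map_zero] at hv
      rw [show z = 0 from Subtype.ext hv.symm, map_zero]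

variable [IsSeparated f] [QuasiCompact f] (Δ : RDer.DerivedLES (Scheme.Modules.pushforward f))
  {T : ShortComplex X.Modules} (hT : T.ShortExact)
  [Coh.IsQCoh (T.X₁.restrict (f ⁻¹ᵁ V).ι)] [Coh.IsQCoh (T.X₂.restrict (f ⁻¹ᵁ V).ι)]
  [Coh.IsQCoh (T.X₃.restrict (f ⁻¹ᵁ V).ι)] (hp : Prim f hV c T.X₂)

include hT in
theorem exact_mF (i : ℤ) : Function.Injective (mF f hV c T.f i) ∧
    ∀ y, mF f hV c T.g i y = 0 → ∃ x, mF f hV c T.f i x = y := by
  let R := Scheme.Modules.restrictFunctor (f ⁻¹ᵁ V).ι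
  haveI : R.Additive :=
    haveI := preservesBinaryBiproducts_of_preservesBinaryCoproducts R
    Functor.additive_of_preservesBinaryBiproducts _
  have h := hT.map_of_exact R
  haveI := h.mono_f
  exact Cochains.mapC_exact (ρV f hV) c.U h.exact i

include hT in
theorem surjective_mF (i : ℤ) : Function.Surjective (mF f hV c T.g i) := by
  let R := Scheme.Modules.restrictFunctor (f ⁻¹ᵁ V).ι
  haveI := hT.epi_g
  haveI : Epi (R.map T.g) := inferInstance
  haveI : Coh.IsQCoh (R.obj T.X₂) := ‹Coh.IsQCoh (T.X₂.restrict (f ⁻¹ᵁ V).ι)›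
  haveI : Coh.IsQCoh (R.obj T.X₃) := ‹Coh.IsQCoh (T.X₃.restrict (f ⁻¹ᵁ V).ι)›
  exact Cochains.mapC_surjective (ρV f hV) c.U (R.map T.g) c.affine i

theorem mF_g_f (i : ℤ) (x : CF f hV c T.X₁ i) : mF f hV c T.g i (mF f hV c T.f i x) = 0 := by
  funext a
  show T.g.app _ (T.f.app _ _) = 0
  exact congr($(congrArg (fun k => Scheme.Modules.Hom.app k _) T.zero) _)

include hT hp in
theorem exists_lift {i : ℤ} (hi : 0 ≤ i) (z : ZF f hV c T.X₁ (i + 1)) :
    ∃ v : CF f hV c T.X₂ i, dF f hV c T.X₂ i (i + 1) v = mF f hV c T.f (i + 1) z.1 ∧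
      mF f hV c T.g i v ∈ ZF f hV c T.X₃ i := by
  have h := mem_ZF_mF f hV c T.f (i + 1) z
  obtain ⟨v, hv⟩ := hp i hi (mF f hV c T.f (i + 1) z.1) ((K_d _ _ c.U _ _).symm.trans h)
  have hv' : dF f hV c T.X₂ i (i + 1) v = mF f hV c T.f (i + 1) z.1 := (K_d _ _ c.U i v).trans hv
  refine ⟨v, hv', ?_⟩
  rw [LinearMap.mem_ker, ← mF_d, hv', mF_g_f]

include hV hT hp in
/-- Classes in a degree give classes in the next one, through the connecting maps. -/
theorem exists_isCls_succ {i : ℤ} (hi : 0 ≤ i) (p : ℕ)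
    (θQ : ZF f hV c T.X₃ i →ₗ[Γ(Y, V)] Γ((Coh.Rpush f p).obj T.X₃, V)) (hQ : IsCls f hV c T.X₃ p i θQ)
    (hnat : ∀ t, (∃ w : ZF f hV c T.X₂ i, θQ ⟨mF f hV c T.g i w.1, mem_ZF_mF f hV c T.g i w⟩ = t) ↔
      ∃ a, ((Coh.Rpush f p).map T.g).app V a = t) :
    ∃ θ : ZF f hV c T.X₁ (i + 1) →ₗ[Γ(Y, V)] Γ((Coh.Rpush f (p + 1)).obj T.X₁, V),
      IsCls f hV c T.X₁ (p + 1) (i + 1) θ ∧
        ∀ (z : ZF f hV c T.X₁ (i + 1)) (v : CF f hV c T.X₂ i),
          dF f hV c T.X₂ i (i + 1) v = mF f hV c T.f (i + 1) z.1 →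
            ∀ hm : mF f hV c T.g i v ∈ ZF f hV c T.X₃ i,
              θ z = (Δ.δ T hT p (p + 1) rfl).app V (θQ ⟨mF f hV c T.g i v, hm⟩) := by
  let D : ZF f hV c T.X₃ i → Γ((Coh.Rpush f (p + 1)).obj T.X₁, V) := fun y =>
    (Δ.δ T hT p (p + 1) rfl).app V (θQ y)
  have hDadd : ∀ y y', D (y + y') = D y + D y' := fun y y' =>
    (congrArg _ (map_add θQ y y')).trans (map_add ((Δ.δ T hT p (p + 1) rfl).app V).hom _ _)
  have hDsmul : ∀ (r : Γ(Y, V)) y, D (r • y) = r • D y := fun r y =>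
    (congrArg _ (map_smul θQ r y)).trans ((Δ.δ T hT p (p + 1) rfl).app_smul r _)
  have hD0 : ∀ y, D y = 0 ↔ ∃ w : ZF f hV c T.X₂ i, θQ ⟨mF f hV c T.g i w.1, mem_ZF_mF f hV c T.g i w⟩ = θQ y :=
    fun y => (Effaced.δ_eq_zero_iff f hV Δ hT p _).trans (hnat _).symm
  choose v hv hm using fun z => exists_lift f hV c hT hp hi z
  have wd : ∀ z v₁ (h₁ : dF f hV c T.X₂ i (i + 1) v₁ = mF f hV c T.f (i + 1) (z : ZF f hV c T.X₁ (i + 1)).1)
      (m₁ : mF f hV c T.g i v₁ ∈ ZF f hV c T.X₃ i), D ⟨_, hm z⟩ = D ⟨_, m₁⟩ := by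
    intro z v₁ h₁ m₁
    have hw : v z - v₁ ∈ ZF f hV c T.X₂ i := by
      rw [LinearMap.mem_ker, map_sub, hv z, h₁, sub_self]
    have e : (⟨_, hm z⟩ : ZF f hV c T.X₃ i) =
        ⟨_, m₁⟩ + ⟨_, mem_ZF_mF f hV c T.g i ⟨_, hw⟩⟩ := Subtype.ext (by
      show mF f hV c T.g i (v z) = mF f hV c T.g i v₁ + mF f hV c T.g i (v z - v₁)
      rw [← map_add, add_sub_cancel])
    rw [e, hDadd, (hD0 _).2 ⟨⟨_, hw⟩, rfl⟩, add_zero]
  let θ : ZF f hV c T.X₁ (i + 1) →ₗ[Γ(Y, V)] Γ((Coh.Rpush f (p + 1)).obj T.X₁, V) :=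
    { toFun := fun z => D ⟨_, hm z⟩
      map_add' := fun z z' => by
        have h1 : mF f hV c T.g i (v z + v z') ∈ ZF f hV c T.X₃ i := by
          rw [map_add]; exact add_mem (hm z) (hm z')
        refine (wd (z + z') (v z + v z') (by rw [map_add, hv, hv, ← map_add]; rfl) h1).trans ?_
        rw [← hDadd]
        exact congrArg D (Subtype.ext (map_add _ _ _))
      map_smul' := fun r z => by
        have h1 : mF f hV c T.g i (r • v z) ∈ ZF f hV c T.X₃ i := by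
          rw [map_smul]; exact Submodule.smul_mem _ r (hm z)
        refine (wd (r • z) (r • v z) (by rw [map_smul, hv, ← map_smul]; rfl) h1).trans ?_
        rw [RingHom.id_apply, ← hDsmul]
        exact congrArg D (Subtype.ext (map_smul _ _ _)) }
  have spec : ∀ z v₁ (h₁ : dF f hV c T.X₂ i (i + 1) v₁ = mF f hV c T.f (i + 1) (z : ZF f hV c T.X₁ (i + 1)).1)
      (m₁ : mF f hV c T.g i v₁ ∈ ZF f hV c T.X₃ i), θ z = D ⟨_, m₁⟩ := wd
  refine ⟨θ, ⟨fun t => ?_, fun z => ?_⟩, spec⟩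
  · obtain ⟨t', rfl⟩ := Effaced.δ_surjective f hV c Δ hT hp p t
    obtain ⟨q, rfl⟩ := hQ.surj t'
    obtain ⟨v₁, hv₁⟩ := surjective_mF f hV c hT i q.1
    have h0 : mF f hV c T.g (i + 1) (dF f hV c T.X₂ i (i + 1) v₁) = 0 := by rw [mF_d, hv₁, q.2]
    obtain ⟨z₁, hz₁⟩ := (exact_mF f hV c hT (i + 1)).2 _ h0
    have hz : z₁ ∈ ZF f hV c T.X₁ (i + 1) := by
      rw [LinearMap.mem_ker]
      refine (exact_mF f hV c hT (i + 1 + 1)).1 ?_
      rw [map_zero, mF_d, hz₁, dF_dF]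
    refine ⟨⟨z₁, hz⟩, (spec ⟨z₁, hz⟩ v₁ hz₁.symm (by rw [hv₁]; exact q.2)).trans ?_⟩
    exact congrArg D (Subtype.ext hv₁)
  · constructor
    · intro hz
      obtain ⟨w, hw⟩ := (hD0 _).1 hz
      have h2 : θQ (⟨_, hm z⟩ - ⟨_, mem_ZF_mF f hV c T.g i w⟩) = 0 := by rw [map_sub, hw, sub_self]
      obtain ⟨y, hy⟩ := (hQ.ker _).1 h2
      obtain ⟨y', rfl⟩ := surjective_mF f hV c hT (i - 1) y
      have h3 : mF f hV c T.g i (v z - w.1 - dF f hV c T.X₂ (i - 1) i y') = 0 := by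
        rw [map_sub, map_sub, mF_d, hy]
        exact sub_self _
      obtain ⟨x, hx⟩ := (exact_mF f hV c hT i).2 _ h3
      refine ⟨(show CF f hV c T.X₁ (i + 1 - 1) from (add_sub_cancel_right i (1 : ℤ)).symm ▸ x), ?_⟩
      have key : ∀ (k : ℤ) (e : k = i), dF f hV c T.X₁ k (i + 1) (e.symm ▸ x) = z.1 := by
        rintro _ rfl
        refine (exact_mF f hV c hT _).1 ?_
        rw [mF_d, hx, map_sub, map_sub, hv z, w.2, dF_dF, sub_zero, sub_zero]
      exact key _ (add_sub_cancel_right i (1 : ℤ))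
    · rintro ⟨x, hx⟩
      have key : ∀ (k : ℤ) (_ : k = i) (x : CF f hV c T.X₁ k), dF f hV c T.X₁ k (i + 1) x = z.1 → θ z = 0 := by
        intro k e x hx; subst k
        have m₁ : mF f hV c T.g i (mF f hV c T.f i x) ∈ ZF f hV c T.X₃ i := by rw [mF_g_f]; exact zero_mem _
        rw [spec z (mF f hV c T.f i x) (by rw [← mF_d, hx]) m₁, hD0]
        exact ⟨0, congrArg θQ (Subtype.ext ((map_zero _).trans (mF_g_f f hV c i x).symm))⟩
      exact key _ (add_sub_cancel_right i (1 : ℤ)) x hx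

end Groth.L17.BC.Classes
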