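import Groth.Agent.L17.BC.Delta

/-!
# Čech classes in degree zero
-/

set_option autoImplicit false
set_option linter.style.haveILetI false
set_option linter.unusedSectionVars false
set_option backward.isDefEq.respectTransparency false

universe u

open CategoryTheory CategoryTheory.Limits AlgebraicGeometry TopologicalSpace Opposite

noncomputable section

namespace Groth.L17.BC.Classes

open Groth.L18.Frame (rs ro rs_rs rs_self rs_smul ro_ro)
open Effaced (Cov)

variable {X Y : Scheme.{u}} (f : X ⟶ Y) {V : Y.Opens} (hV : IsAffineOpen V) (c : Cov f (V := V))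

/-- The functions on the base act on the preimage. -/
abbrev ρV : Γ(Y, V) →+* Coh.Γtop (↑(f ⁻¹ᵁ V) : Scheme.{u}) := Coh.toGlobal (A := Γ(Y, V)) (fV f hV)

theorem image_le (W : (↑(f ⁻¹ᵁ V) : Scheme.{u}).Opens) : (f ⁻¹ᵁ V).ι ''ᵁ W ≤ f ⁻¹ᵁ V := by
  rintro _ ⟨x, -, rfl⟩
  exact x.2

theorem act_eq (W : (↑(f ⁻¹ᵁ V) : Scheme.{u}).Opens) (a : Γ(Y, V)) :
    ((f ⁻¹ᵁ V).ι.appIso W).inv (act (ρV f hV) W a) = ro (image_le f W) (f.app V a) := by
  let j := (f ⁻¹ᵁ V).ι
  have key : (Scheme.ΓSpecIso Γ(Y, V)).inv ≫ (fV f hV).appLE ⊤ W le_top ≫ (j.appIso W).inv =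
      f.appLE V (j ''ᵁ W) (image_le f W) := by
    rw [← Category.assoc, Iso.comp_inv_eq, Scheme.Hom.appIso_hom', Scheme.Hom.appLE_comp_appLE]
    have h1 : (Scheme.ΓSpecIso Γ(Y, V)).inv = hV.fromSpec.appLE V ⊤ hV.fromSpec_preimage_self.ge := by
      rw [Scheme.Hom.appLE, hV.fromSpec_app_self, Category.assoc, ← Functor.map_comp]
      exact ((congrArg ((Scheme.ΓSpecIso Γ(Y, V)).inv ≫ ·) ((Spec Γ(Y, V)).presheaf.map_id _)).trans
        (Category.comp_id _)).symm
    rw [h1, Scheme.Hom.appLE_comp_appLE]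
    congr 1
    exact fV_fromSpec f hV
  exact congr($key a)

variable (F : X.Modules)

/-- Cochains of a module over the preimage. -/
abbrev CF (i : ℤ) : Type u := C (ρV f hV) (FV f (V := V) F) c.U i

/-- The complex of cochains of a module over the preimage. -/
abbrev KF : CochainComplex (ModuleCat.{u} Γ(Y, V)) ℤ := K (ρV f hV) (FV f (V := V) F) c.U

theorem smul_apply {i : ℤ} (a : Γ(Y, V)) (z : CF f hV c F i) (b : Idx c.ι i) :
    (show Γ(F, (f ⁻¹ᵁ V).ι ''ᵁ opn c.U b.1) from (a • z) b) =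
      ro (image_le f (opn c.U b.1)) (f.app V a) • (show Γ(F, (f ⁻¹ᵁ V).ι ''ᵁ opn c.U b.1) from z b) := by
  rw [← act_eq f hV]
  rfl

/-- A section glues a cochain of degree zero. -/
def Glues (s : Γ(F, f ⁻¹ᵁ V)) (z : CF f hV c F 0) : Prop :=
  ∀ a : Idx c.ι (0 : ℤ), rs F (image_le f (opn c.U a.1)) s = (show Γ(F, (f ⁻¹ᵁ V).ι ''ᵁ opn c.U a.1) from z a)

/-- The index of a member of the cover. -/
def sing (i : c.ι) : Idx c.ι (0 : ℤ) := ⟨[i], by simp⟩

theorem le_opn_sing (i : c.ι) : c.U i ≤ opn c.U (sing f c i).1 :=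
  le_iInf fun k => by
    have h := k.2
    obtain ⟨k, hk⟩ := k
    simp only [sing, List.length_singleton, Nat.lt_one_iff] at hk
    subst hk
    exact le_rfl

theorem sup_sing : f ⁻¹ᵁ V ≤ ⨆ i, (f ⁻¹ᵁ V).ι ''ᵁ opn c.U (sing f c i).1 := fun x hx => by
  obtain ⟨i, hi⟩ := Opens.mem_iSup.1 (c.cover.ge (Opens.mem_top (⟨x, hx⟩ : (↑(f ⁻¹ᵁ V) : Scheme.{u}))))
  exact Opens.mem_iSup.2 ⟨i, ⟨_, le_opn_sing f c i hi, rfl⟩⟩

theorem glues_inj {s t : Γ(F, f ⁻¹ᵁ V)} {z : CF f hV c F 0} (hs : Glues f hV c F s z)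
    (ht : Glues f hV c F t z) : s = t :=
  TopCat.Sheaf.eq_of_locally_eq' (⟨F.presheaf, F.isSheaf⟩ : TopCat.Sheaf Ab X.toTopCat) _ (f ⁻¹ᵁ V)
    (fun i => homOfLE (image_le f (opn c.U (sing f c i).1))) (sup_sing f c) s t
    fun i => (hs (sing f c i)).trans (ht (sing f c i)).symm

theorem glues_iff {z : CF f hV c F 0} {s : Γ(F, f ⁻¹ᵁ V)} :
    Glues f hV c F s z ↔ ∀ i, rs F (image_le f (opn c.U (sing f c i).1)) s =
      (show Γ(F, (f ⁻¹ᵁ V).ι ''ᵁ opn c.U (sing f c i).1) from z (sing f c i)) := by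
  refine ⟨fun h i => h _, fun h a => ?_⟩
  obtain ⟨l, hl⟩ := a
  obtain ⟨i, rfl⟩ : ∃ i, l = [i] := List.length_eq_one_iff.1 (by omega)
  exact h i

theorem exists_glues {z : CF f hV c F 0} (hz : dL (ρV f hV) (FV f (V := V) F) c.U 0 z = 0) :
    ∃ s, Glues f hV c F s z := by
  obtain ⟨s, hs, -⟩ := TopCat.Sheaf.existsUnique_gluing' (⟨F.presheaf, F.isSheaf⟩ : TopCat.Sheaf Ab X.toTopCat) _
    (f ⁻¹ᵁ V) (fun i => homOfLE (image_le f (opn c.U (sing f c i).1))) (sup_sing f c)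
    (fun i => (show Γ(F, (f ⁻¹ᵁ V).ι ''ᵁ opn c.U (sing f c i).1) from z (sing f c i))) fun i j => by
      let e : Idx c.ι ((0 : ℤ) + 1) := ⟨[i, j], by simp⟩
      have hle : (f ⁻¹ᵁ V).ι ''ᵁ opn c.U (sing f c i).1 ⊓ (f ⁻¹ᵁ V).ι ''ᵁ opn c.U (sing f c j).1 ≤
          (f ⁻¹ᵁ V).ι ''ᵁ opn c.U e.1 := by
        rintro x ⟨⟨y, hy, rfl⟩, ⟨y', hy', hyy⟩⟩
        obtain rfl := (f ⁻¹ᵁ V).ι.isOpenEmbedding.injective hyy
        refine ⟨_, ?_, rfl⟩
        have hi := (iInf_le (fun k : Fin (sing f c i).1.length => c.U (sing f c i).1[k.1]) ⟨0, by simp [sing]⟩) hy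
        have hj := (iInf_le (fun k : Fin (sing f c j).1.length => c.U (sing f c j).1[k.1]) ⟨0, by simp [sing]⟩) hy'
        have : c.U i ⊓ c.U j ≤ opn c.U e.1 :=
          le_iInf fun k => Fin.cases inf_le_left (fun k' => Fin.cases inf_le_right (fun k'' => k''.elim0) k') k
        exact this ⟨hi, hj⟩
      have h := congrFun hz e
      rw [dL_apply _ _ _ le_rfl] at h
      erw [Fin.sum_univ_two] at h
      simp only [Fin.val_zero, Fin.val_one, pow_zero, one_smul, pow_one, neg_smul, ← sub_eq_add_neg] at h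
      have h' : resL (ρV f hV) (FV f (V := V) F) (opn_le_erase c.U e.1 0) (z (sing f c j)) =
          resL (ρV f hV) (FV f (V := V) F) (opn_le_erase c.U e.1 1) (z (sing f c i)) := sub_eq_zero.1 h
      have h'' := congrArg (fun v : Γ(F, (f ⁻¹ᵁ V).ι ''ᵁ opn c.U e.1) => rs F hle v) h'
      have hi : (f ⁻¹ᵁ V).ι ''ᵁ opn c.U e.1 ≤ (f ⁻¹ᵁ V).ι ''ᵁ opn c.U (sing f c i).1 :=
        (f ⁻¹ᵁ V).ι.image_mono (opn_le_erase c.U e.1 1)
      have hj : (f ⁻¹ᵁ V).ι ''ᵁ opn c.U e.1 ≤ (f ⁻¹ᵁ V).ι ''ᵁ opn c.U (sing f c j).1 :=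
        (f ⁻¹ᵁ V).ι.image_mono (opn_le_erase c.U e.1 0)
      have h3 : rs F hle (rs F hj (show Γ(F, (f ⁻¹ᵁ V).ι ''ᵁ opn c.U (sing f c j).1) from z (sing f c j))) =
          rs F hle (rs F hi (show Γ(F, (f ⁻¹ᵁ V).ι ''ᵁ opn c.U (sing f c i).1) from z (sing f c i))) := h''
      exact (rs_rs F hi hle _).symm.trans (h3.symm.trans (rs_rs F hj hle _))
  exact ⟨s, (glues_iff f hV c F).2 hs⟩

theorem glues_zero_of_glues_zero {s : Γ(F, f ⁻¹ᵁ V)} : Glues f hV c F s 0 → s = 0 := fun h =>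
  glues_inj f hV c F h fun _ => map_zero _

theorem glues_add {s t : Γ(F, f ⁻¹ᵁ V)} {z w : CF f hV c F 0} (hs : Glues f hV c F s z) (ht : Glues f hV c F t w) :
    Glues f hV c F (s + t) (z + w) := fun a =>
  (map_add (F.presheaf.map (homOfLE (image_le f (opn c.U a.1))).op).hom s t).trans (by
    rw [show (F.presheaf.map (homOfLE (image_le f (opn c.U a.1))).op).hom s = _ from hs a,
      show (F.presheaf.map (homOfLE (image_le f (opn c.U a.1))).op).hom t = _ from ht a]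
    rfl)

theorem glues_smul (r : Γ(Y, V)) {s : Γ(F, f ⁻¹ᵁ V)} {z : CF f hV c F 0} (hs : Glues f hV c F s z) :
    Glues f hV c F (f.app V r • s) (r • z) := fun a => by
  exact (rs_smul F (image_le f (opn c.U a.1)) _ s).trans
    ((congrArg (ro (image_le f (opn c.U a.1)) (f.app V r) • ·) (hs a)).trans (smul_apply f hV c F r z a).symm)

/-- Every section glues its restrictions. -/
theorem exists_cocycle (s : Γ(F, f ⁻¹ᵁ V)) :
    ∃ z : CF f hV c F 0, dL (ρV f hV) (FV f (V := V) F) c.U 0 z = 0 ∧ Glues f hV c F s z := by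
  refine ⟨fun a => (show Sec (ρV f hV) (FV f (V := V) F) (opn c.U a.1) from rs F (image_le f (opn c.U a.1)) s), ?_,
    fun a => rfl⟩
  funext e
  rw [dL_apply _ _ _ le_rfl]
  have hl : e.1.length = 2 := by have := e.2.1; omega
  rw [← (Fin.castOrderIso hl.symm).toEquiv.sum_comp]
  rw [Fin.sum_univ_two]
  simp only [RelIso.coe_fn_toEquiv, Fin.castOrderIso_apply, Fin.val_cast, Fin.val_zero, Fin.val_one, pow_zero,
    one_smul, pow_one, neg_smul, ← sub_eq_add_neg]
  refine sub_eq_zero.2 ?_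
  exact (rs_rs F (image_le f _) ((f ⁻¹ᵁ V).ι.image_mono (opn_le_erase c.U e.1 _)) s).trans
    (rs_rs F (image_le f _) ((f ⁻¹ᵁ V).ι.image_mono (opn_le_erase c.U e.1 _)) s).symm

variable [HasInjectiveResolutions X.Modules]

/-- The classes of cocycles of degree zero. -/
def θ0 : LinearMap.ker (dL (ρV f hV) (FV f (V := V) F) c.U 0) →ₗ[Γ(Y, V)] Γ((Coh.Rpush f 0).obj F, V) where
  toFun z := ((Scheme.Modules.pushforward f).toRightDerivedZero.app F).app V (exists_glues f hV c F z.2).choose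
  map_add' z w := by
    refine Eq.trans ?_ (map_add (((Scheme.Modules.pushforward f).toRightDerivedZero.app F).app V).hom _ _)
    exact congrArg _ (glues_inj f hV c F (exists_glues f hV c F (z + w).2).choose_spec
      (glues_add f hV c F (exists_glues f hV c F z.2).choose_spec (exists_glues f hV c F w.2).choose_spec))
  map_smul' r z := by
    refine Eq.trans ?_ (((Scheme.Modules.pushforward f).toRightDerivedZero.app F).app_smul r _)
    exact congrArg _ (glues_inj f hV c F (exists_glues f hV c F (r • z).2).choose_spec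
      (glues_smul f hV c F r (exists_glues f hV c F z.2).choose_spec))

theorem θ0_eq (z : LinearMap.ker (dL (ρV f hV) (FV f (V := V) F) c.U 0)) (s : Γ(F, f ⁻¹ᵁ V))
    (hs : Glues f hV c F s z.1) :
    θ0 f hV c F z = ((Scheme.Modules.pushforward f).toRightDerivedZero.app F).app V s :=
  congrArg (fun t => ((Scheme.Modules.pushforward f).toRightDerivedZero.app F).app V t)
    (glues_inj f hV c F (exists_glues f hV c F z.2).choose_spec hs)

theorem θ0_injective : Function.Injective (θ0 f hV c F) := fun z w h => Subtype.ext <| funext fun a => by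
  have e := Delta.injective_toRightDerivedZero f F V h
  exact ((exists_glues f hV c F z.2).choose_spec a).symm.trans
    ((congrArg _ e).trans ((exists_glues f hV c F w.2).choose_spec a))

theorem θ0_surjective : Function.Surjective (θ0 f hV c F) := fun t => by
  obtain ⟨s, rfl⟩ := Delta.exists_toRightDerivedZero f F V t
  obtain ⟨z, hz, hs⟩ := exists_cocycle f hV c F s
  exact ⟨⟨z, hz⟩, θ0_eq f hV c F ⟨z, hz⟩ s hs⟩

/-- Classes in degree zero are natural. -/
theorem θ0_natural {G : X.Modules} (φ : F ⟶ G) (z : LinearMap.ker (dL (ρV f hV) (FV f (V := V) F) c.U 0))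
    (w : LinearMap.ker (dL (ρV f hV) (FV f (V := V) G) c.U 0))
    (h : Cochains.mapC (ρV f hV) c.U ((Scheme.Modules.restrictFunctor (f ⁻¹ᵁ V).ι).map φ) 0 z.1 = w.1) :
    θ0 f hV c G w = ((Coh.Rpush f 0).map φ).app V (θ0 f hV c F z) := by
  obtain ⟨s, hs⟩ := exists_glues f hV c F z.2
  have ht : Glues f hV c G (φ.app (f ⁻¹ᵁ V) s) w.1 := fun a => by
    rw [← h, ← Cochains.app_rs φ]
    exact congrArg _ (hs a)
  rw [θ0_eq f hV c G w _ ht, θ0_eq f hV c F z s hs]
  exact congr($(congrArg (fun k => Scheme.Modules.Hom.app k V)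
    ((Scheme.Modules.pushforward f).toRightDerivedZero.naturality φ)) s)

end Groth.L17.BC.Classes
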