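import Groth.Agent.L17.BC.Cochains
import Groth.Agent.L17.BC.Fibre
import Groth.Agent.L17.BC.Model
import Groth.Agent.L17.ProperCoh
import Groth.Prelude.Def_CohCmp

/-!
# The effacement over an affine open of the base
-/

set_option autoImplicit false
set_option linter.style.haveILetI false
set_option linter.unusedSectionVars false
set_option backward.isDefEq.respectTransparency false

universe u

open CategoryTheory CategoryTheory.Limits AlgebraicGeometry TopologicalSpace Opposite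

noncomputable section

namespace Groth.L17.BC.Effaced

open Groth.L18.Frame (rs ro rs_rs rs_self)

variable {X Y : Scheme.{u}} (f : X ⟶ Y) {V : Y.Opens} (hV : IsAffineOpen V)

theorem subsingleton_of_isZero {T : Scheme.{u}} {M : T.Modules} (h : IsZero M) (W : T.Opens) :
    Subsingleton Γ(M, W) :=
  subsingleton_of_forall_eq 0 fun t => congr($(congrArg (fun k => Scheme.Modules.Hom.app k W)
    (h.eq_of_src (𝟙 M) 0)) t)

/-- Higher direct images of a module quasi-coherent over the preimage of an open are quasi-coherent there. -/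
theorem isQCoh_Rpush_on [QuasiCompact f] [QuasiSeparated f] [HasInjectiveResolutions X.Modules] (W : Y.Opens)
    (G : X.Modules) [Coh.IsQCoh (G.restrict (f ⁻¹ᵁ W).ι)] (n : ℕ) :
    Coh.IsQCoh (((Coh.Rpush f n).obj G).restrict W.ι) := by
  haveI := PushQCoh.hasInjectiveResolutions (f ⁻¹ᵁ W : Scheme.{u})
  haveI : QuasiCompact (f ∣_ W) := inferInstance
  haveI : QuasiSeparated (f ∣_ W) := inferInstance
  obtain ⟨e⟩ := PushQCoh.nonempty_Rpush_restrict_iso f W.ι (f ⁻¹ᵁ W).ι (f ∣_ W)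
    (by rw [Scheme.Opens.opensRange_ι, Scheme.Opens.opensRange_ι]) (morphismRestrict_ι f W) G n
  exact Groth.L29.DC.isQCoh_of_iso' e.symm (PushQCoh.isQCoh_Rpush (f ∣_ W) _ n)

variable [IsSeparated f] [QuasiCompact f]

instance : IsSeparated (fV f hV) := inferInstanceAs (IsSeparated ((f ∣_ V) ≫ hV.isoSpec.hom))

instance : QuasiCompact (fV f hV) := inferInstanceAs (QuasiCompact ((f ∣_ V) ≫ hV.isoSpec.hom))

include hV in
theorem compactSpace : CompactSpace (↑(f ⁻¹ᵁ V) : Scheme.{u}) :=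
  QuasiCompact.compactSpace_of_compactSpace (fV f hV)

include hV in
theorem isSeparated : (↑(f ⁻¹ᵁ V) : Scheme.{u}).IsSeparated :=
  ⟨by rw [← terminal.comp_from (fV f hV)]; infer_instance⟩

/-- A finite cover of the preimage by affine opens with affine intersections. -/
structure Cov where
  /-- the indices -/
  ι : Type u
  fin : Fintype ι
  /-- the opens -/
  U : ι → (↑(f ⁻¹ᵁ V) : Scheme.{u}).Opens
  cover : ⨆ i, U i = ⊤
  affine : ∀ (n : ℕ) (a : Fin (n + 1) → ι), IsAffineOpen (⨅ k, U (a k))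

include hV in
theorem nonempty_cov : Nonempty (Cov f (V := V)) := by
  haveI := compactSpace f hV
  haveI := isSeparated f hV
  obtain ⟨t, U, hcov, haff⟩ := exists_affine_cover (X := (↑(f ⁻¹ᵁ V) : Scheme.{u}))
  exact ⟨⟨_, inferInstance, U, hcov, haff⟩⟩

variable (c : Cov f (V := V))

attribute [local instance] Cov.fin

/-- The opens of the cover, in the source. -/
abbrev Cov.W : c.ι → X.Opens := fun i => (f ⁻¹ᵁ V).ι ''ᵁ c.U i

theorem Cov.W_le (i : c.ι) : c.W f i ≤ f ⁻¹ᵁ V := by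
  rintro x ⟨y, -, rfl⟩; exact y.2

theorem Cov.isAffineOpen_U (i : c.ι) : IsAffineOpen (c.U i) := by
  have h := c.affine 0 fun _ => i
  rwa [iInf_const] at h

theorem Cov.isAffineOpen_W (i : c.ι) : IsAffineOpen (c.W f i) :=
  (c.isAffineOpen_U f i).image_of_isOpenImmersion _

theorem Cov.covers (x : X) (hx : x ∈ f ⁻¹ᵁ V) : ∃ i, x ∈ c.W f i := by
  obtain ⟨i, hi⟩ := Opens.mem_iSup.1 (c.cover.ge (Opens.mem_top (⟨x, hx⟩ : (↑(f ⁻¹ᵁ V) : Scheme.{u}))))
  exact ⟨i, ⟨_, hi, rfl⟩⟩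

/-- The effacing sequence of a module. -/
abbrev SC (F : X.Modules) : ShortComplex X.Modules := Efface.S (f ⁻¹ᵁ V) (c.W f) F

theorem shortExact_SC (F : X.Modules) : (SC f c F).ShortExact := Efface.shortExact_S _ _ F (c.covers f)

section SC

variable (F : X.Modules) [hF : Coh.IsQCoh (F.restrict (f ⁻¹ᵁ V).ι)]

include hV in
theorem isQCoh_C : Coh.IsQCoh ((SC f c F).X₂.restrict (f ⁻¹ᵁ V).ι) := by
  haveI := isSeparated f hV
  haveI : QuasiSeparatedSpace (↑(f ⁻¹ᵁ V) : Scheme.{u}) := inferInstance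
  exact Efface.isQCoh_restrict_C _ _ F (c.W_le f) (c.isAffineOpen_W f)

include hV in
theorem isQCoh_Q : Coh.IsQCoh ((SC f c F).X₃.restrict (f ⁻¹ᵁ V).ι) := by
  haveI := isSeparated f hV
  haveI : QuasiSeparatedSpace (↑(f ⁻¹ᵁ V) : Scheme.{u}) := inferInstance
  exact Efface.isQCoh_restrict_Q _ _ F (c.W_le f) (c.isAffineOpen_W f)

theorem isLocalTo_restrict {Ω : X.Opens} {P : X.Modules} {W : Ω.toScheme.Opens}
    (h : Efface.IsLocalTo P (Ω.ι ''ᵁ W)) : Efface.IsLocalTo (P.restrict Ω.ι) W := by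
  intro W₁ W₂ hle hinf
  refine h (Ω.ι ''ᵁ W₁) (Ω.ι ''ᵁ W₂) (Ω.ι.image_mono hle) ?_
  rintro x ⟨⟨y, hy, rfl⟩, ⟨y', hy', e⟩⟩
  obtain rfl := Ω.ι.isOpenEmbedding.injective e
  exact ⟨_, hinf ⟨hy, hy'⟩, rfl⟩

include hF in
/-- Positive degree Čech cocycles of the effacing module are coboundaries. -/
theorem exists_primitive_C {A : Type u} [CommRing A] (ρ : A →+* Coh.Γtop (↑(f ⁻¹ᵁ V) : Scheme.{u})) {i : ℤ}
    (hi : 0 ≤ i) (z : C ρ ((SC f c F).X₂.restrict (f ⁻¹ᵁ V).ι) c.U (i + 1))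
    (hz : dL ρ _ c.U (i + 1) z = 0) :
    ∃ v, dL ρ ((SC f c F).X₂.restrict (f ⁻¹ᵁ V).ι) c.U i v = z := by
  let R := Scheme.Modules.restrictFunctor (f ⁻¹ᵁ V).ι
  haveI : R.Additive :=
    haveI := preservesBinaryBiproducts_of_preservesBinaryCoproducts R
    Functor.additive_of_preservesBinaryBiproducts _
  refine Cochains.exists_primitive ρ c.U (fun j => R.obj (Efface.P (c.W f) F j))
    (fun j => R.map (Efface.proj (f ⁻¹ᵁ V) (c.W f) F j)) (fun j => R.map (Efface.incl (f ⁻¹ᵁ V) (c.W f) F j)) ?_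
    (fun j l h _ => Cochains.bijective_resL_of_isLocalTo ρ c.U (isLocalTo_restrict (Efface.isLocalTo_push _ _)) l h)
    hi z hz
  have h := congrArg R.map (Efface.sum_proj_incl (f ⁻¹ᵁ V) (c.W f) F)
  rw [Functor.map_add, Functor.map_sum, R.map_comp (biprod.snd) (biprod.inr),
    (Efface.isZero_restrict_D (f ⁻¹ᵁ V) F).eq_of_tgt (R.map biprod.snd) 0, zero_comp, add_zero,
    R.map_id] at h
  simp only [← R.map_comp]
  exact h

end SC

/-- Positive degree Čech cocycles of a module over the preimage are coboundaries. -/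
def Prim (G : X.Modules) : Prop :=
  ∀ (i : ℤ), 0 ≤ i → ∀ z : C (Coh.toGlobal (A := Γ(Y, V)) (fV f hV)) (G.restrict (f ⁻¹ᵁ V).ι) c.U (i + 1),
    dL _ _ c.U (i + 1) z = 0 →
      ∃ v, dL (Coh.toGlobal (A := Γ(Y, V)) (fV f hV)) (G.restrict (f ⁻¹ᵁ V).ι) c.U i v = z

include hV in
theorem prim_SC (F : X.Modules) [Coh.IsQCoh (F.restrict (f ⁻¹ᵁ V).ι)] : Prim f hV c (SC f c F).X₂ :=
  fun _ hi z hz => exists_primitive_C f c F _ hi z hz

section Gen

variable (G : X.Modules) [hG : Coh.IsQCoh (G.restrict (f ⁻¹ᵁ V).ι)] (hp : Prim f hV c G)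

include hV hG hp in
/-- A module with coboundaries has no cohomology over the open in positive degree. -/
theorem subsingleton_HH (n : ℕ) :
    Subsingleton (Coh.HH (↑(f ⁻¹ᵁ V) : Scheme.{u}) (G.restrict (f ⁻¹ᵁ V).ι) (n + 1)) := by
  let ρ := Coh.toGlobal (fV f hV)
  obtain ⟨e⟩ := exists_homology_equiv ρ (G.restrict (f ⁻¹ᵁ V).ι) c.U c.cover c.affine (n + 1)
  suffices h : IsZero ((K ρ (G.restrict (f ⁻¹ᵁ V).ι) c.U).homology ((n + 1 : ℕ) : ℤ)) by
    haveI := ModuleCat.subsingleton_of_isZero h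
    exact e.symm.injective.subsingleton
  rw [← HomologicalComplex.exactAt_iff_isZero_homology,
    HomologicalComplex.exactAt_iff' _ (n : ℤ) ((n + 1 : ℕ) : ℤ) ((n + 1 : ℕ) + 1 : ℤ) (by simp) (by simp)]
  refine (ShortComplex.moduleCat_exact_iff _).2 fun z hz => ?_
  have hn : ((n + 1 : ℕ) : ℤ) = (n : ℤ) + 1 := by push_cast; rfl
  revert z hz
  rw [hn]
  intro z hz
  obtain ⟨v, hv⟩ := hp (n : ℤ) (Int.natCast_nonneg n) z
    ((K_d ρ _ c.U _ z).symm.trans hz)
  exact ⟨v, (K_d ρ _ c.U _ v).trans hv⟩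

variable [HasInjectiveResolutions X.Modules]

include hV hG hp in
theorem subsingleton_sections (n : ℕ) : Subsingleton Γ((Coh.Rpush f (n + 1)).obj G, V) := by
  haveI := PushQCoh.hasInjectiveResolutions (f ⁻¹ᵁ V : Scheme.{u})
  haveI : Coh.IsQCoh (FV f (V := V) G) := hG
  obtain ⟨e⟩ := PushQCoh.nonempty_Rpush_restrict_iso f hV.fromSpec (f ⁻¹ᵁ V).ι (fV f hV)
    (by rw [hV.opensRange_fromSpec, Scheme.Opens.opensRange_ι]) (fV_fromSpec f hV) G (n + 1)
  letI : Module Γ(Y, V) (Coh.HH (↑(f ⁻¹ᵁ V) : Scheme.{u}) (FV f (V := V) G) (n + 1)) :=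
    Module.compHom _ (Coh.toGlobal (fV f hV))
  obtain ⟨e'⟩ := Groth.L17.ProperCoh.nonempty_Γ_Rpush_equiv (fV f hV) (FV f (V := V) G) (n + 1)
  haveI := subsingleton_HH f hV c G hp n
  haveI := PushQCoh.isQCoh_Rpush (fV f hV) (FV f (V := V) G) (n + 1)
  have hz : IsZero ((Coh.Rpush (fV f hV) (n + 1)).obj (FV f (V := V) G)) := by
    haveI : Subsingleton ((moduleSpecΓFunctor (R := Γ(Y, V))).obj
        ((Coh.Rpush (fV f hV) (n + 1)).obj (FV f (V := V) G))) := e'.symm.injective.subsingleton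
    exact IsZero.of_iso ((tilde.functor Γ(Y, V)).map_isZero (ModuleCat.isZero_of_subsingleton _))
      (Groth.L18.TildeF.counitIso _).symm
  haveI := subsingleton_of_isZero (hz.of_iso e) ⊤
  have h1 : hV.fromSpec ''ᵁ ⊤ ≤ V := by rw [Scheme.Hom.image_top_eq_opensRange, IsAffineOpen.opensRange_fromSpec]
  have h2 : V ≤ hV.fromSpec ''ᵁ ⊤ := by rw [Scheme.Hom.image_top_eq_opensRange, IsAffineOpen.opensRange_fromSpec]
  refine subsingleton_of_forall_eq 0 fun t => ?_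
  rw [← rs_self _ le_rfl t, ← rs_rs _ h1 h2 t]
  haveI : Subsingleton Γ((Coh.Rpush f (n + 1)).obj G, hV.fromSpec ''ᵁ ⊤) :=
    ‹Subsingleton Γ(((Coh.Rpush f (n + 1)).obj G).restrict hV.fromSpec, ⊤)›
  rw [Subsingleton.elim (rs _ h1 t) 0]
  exact map_zero _

end Gen

variable (Δ : RDer.DerivedLES (Scheme.Modules.pushforward f)) {T : ShortComplex X.Modules} (hT : T.ShortExact)
  [Coh.IsQCoh (T.X₁.restrict (f ⁻¹ᵁ V).ι)] [Coh.IsQCoh (T.X₂.restrict (f ⁻¹ᵁ V).ι)]
  [Coh.IsQCoh (T.X₃.restrict (f ⁻¹ᵁ V).ι)] (hp : Prim f hV c T.X₂)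

include hV hp in
/-- Sections of the connecting map over the affine open are surjective. -/
theorem δ_surjective (p : ℕ) (t : Γ((Coh.Rpush f (p + 1)).obj T.X₁, V)) :
    ∃ t', (Δ.δ T hT p (p + 1) rfl).app V t' = t := by
  haveI := isQCoh_Rpush_on f V T.X₁ (p + 1)
  haveI := isQCoh_Rpush_on f V T.X₂ (p + 1)
  haveI := isQCoh_Rpush_on f V T.X₃ p
  haveI := subsingleton_sections f hV c T.X₂ hp p
  exact Cochains.exact_app_on (Δ.exact₁ T hT p (p + 1) rfl) hV t (Subsingleton.elim _ _)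

include hV in
/-- The kernel of the connecting map on sections over the affine open. -/
theorem δ_eq_zero_iff (p : ℕ) (t : Γ((Coh.Rpush f p).obj T.X₃, V)) :
    (Δ.δ T hT p (p + 1) rfl).app V t = 0 ↔ ∃ a, ((Coh.Rpush f p).map T.g).app V a = t := by
  haveI := isQCoh_Rpush_on f V T.X₁ (p + 1)
  haveI := isQCoh_Rpush_on f V T.X₂ p
  haveI := isQCoh_Rpush_on f V T.X₃ p
  refine ⟨fun h => Cochains.exact_app_on (Δ.exact₃ T hT p (p + 1) rfl) hV t h, ?_⟩
  rintro ⟨a, rfl⟩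
  exact congr($(congrArg (fun k => Scheme.Modules.Hom.app k V) (Δ.comp_δ T hT p (p + 1) rfl)) a)

end Groth.L17.BC.Effaced
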