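import Groth.Agent.L17.BC.FlatHom
import Groth.Agent.L17.BC.Sheaf

/-!
# Base change for modules with flat higher direct images
-/

set_option autoImplicit false
set_option linter.style.haveILetI false
set_option linter.unusedSectionVars false
set_option backward.isDefEq.respectTransparency false

universe u

open CategoryTheory CategoryTheory.Limits AlgebraicGeometry TopologicalSpace Opposite
open scoped TensorProduct

noncomputable section

namespace Groth.L17.BC.FlatBC

open Classes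
open Effaced (Cov)
open Groth.L18.Frame (rs pull)

section Indep

/-- The differential does not depend on the ring of scalars. -/
theorem dL_indep {X : Scheme.{u}} {A B : Type u} [CommRing A] [CommRing B] (ρ : A →+* Coh.Γtop X)
    (ρ' : B →+* Coh.Γtop X) (F : X.Modules) {ι : Type u} (U : ι → X.Opens) (i : ℤ) (v : C ρ F U i) :
    (show C ρ' F U (i + 1) from dL ρ F U i v) = dL ρ' F U i (show C ρ' F U i from v) := by
  by_cases hi : 0 ≤ i
  · funext a
    exact (dL_apply ρ F U hi v a).trans (dL_apply ρ' F U hi v a).symm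
  · haveI := subsingleton_C ρ F U (i := i) (by omega)
    rw [Subsingleton.elim v 0, map_zero]
    exact (map_zero (dL ρ' F U i)).symm

end Indep

section Flat

variable {X Y S : Scheme.{u}} (f : X ⟶ Y) [IsSeparated f] [QuasiCompact f] (b : Y ⟶ S)
  {V : Y.Opens} (hV : IsAffineOpen V) {W : S.Opens} (hW : IsAffineOpen W) (e : V ≤ b ⁻¹ᵁ W)
  (c : Cov f (V := V)) (F : X.Modules) [Coh.IsQCoh F]

/-- The structure map of the preimage over the affine open of the base. -/
abbrev hB : (↑(f ⁻¹ᵁ V) : Scheme.{u}) ⟶ Spec (CommRingCat.of Γ(S, W)) := fV f hV ≫ Spec.map (b.appLE W V e)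

theorem toGlobal_hB (r : Γ(S, W)) : Coh.toGlobal (hB f b hV e) r = ρV f hV (b.appLE W V e r) := by
  show ((Scheme.ΓSpecIso Γ(S, W)).inv ≫ (fV f hV ≫ Spec.map (b.appLE W V e)).appTop) r =
    (b.appLE W V e ≫ (Scheme.ΓSpecIso Γ(Y, V)).inv ≫ (fV f hV).appTop) r
  rw [Scheme.Hom.comp_appTop, ← Category.assoc, ← Scheme.ΓSpecIso_inv_naturality, Category.assoc]

theorem appIso_act (W' : (↑(f ⁻¹ᵁ V) : Scheme.{u}).Opens) (hle : (f ⁻¹ᵁ V).ι ''ᵁ W' ≤ (f ≫ b) ⁻¹ᵁ W)
    (r : Γ(S, W)) : ((f ⁻¹ᵁ V).ι.appIso W').inv (act (Coh.toGlobal (hB f b hV e)) W' r) =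
      (f ≫ b).appLE W ((f ⁻¹ᵁ V).ι ''ᵁ W') hle r := by
  let j := (f ⁻¹ᵁ V).ι
  have hWV : j ''ᵁ W' ≤ f ⁻¹ᵁ V := image_le f W'
  have key : (Scheme.ΓSpecIso Γ(Y, V)).inv ≫ (fV f hV).appLE ⊤ W' le_top ≫ (j.appIso W').inv =
      f.appLE V (j ''ᵁ W') hWV := by
    rw [← Category.assoc, Iso.comp_inv_eq, Scheme.Hom.appIso_hom', Scheme.Hom.appLE_comp_appLE]
    have h1 : (Scheme.ΓSpecIso Γ(Y, V)).inv = hV.fromSpec.appLE V ⊤ hV.fromSpec_preimage_self.ge := by
      rw [Scheme.Hom.appLE, hV.fromSpec_app_self, Category.assoc, ← Functor.map_comp]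
      exact ((congrArg ((Scheme.ΓSpecIso Γ(Y, V)).inv ≫ ·) ((Spec Γ(Y, V)).presheaf.map_id _)).trans
        (Category.comp_id _)).symm
    rw [h1, Scheme.Hom.appLE_comp_appLE]
    congr 1
    exact fV_fromSpec f hV
  show (j.appIso W').inv (((↑(f ⁻¹ᵁ V) : Scheme.{u}).presheaf.map (homOfLE le_top).op)
    (Coh.toGlobal (hB f b hV e) r)) = _
  rw [toGlobal_hB, ← Scheme.Hom.appLE_comp_appLE f b W V (j ''ᵁ W') e hWV, ← key]
  rfl

include hW in
/-- Sections on affine pieces are flat over the base. -/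
theorem flat_sec_hB (hfl : FlatMod.IsFlatOver (f ≫ b) F) {W' : (↑(f ⁻¹ᵁ V) : Scheme.{u}).Opens}
    (hW' : IsAffineOpen W') :
    Module.Flat Γ(S, W) (Sec (Coh.toGlobal (hB f b hV e)) (FV f (V := V) F) W') := by
  let j := (f ⁻¹ᵁ V).ι
  have hle : j ''ᵁ W' ≤ (f ≫ b) ⁻¹ᵁ W := fun x hx => e (image_le f W' hx)
  have h := flat_appLE (f ≫ b) F hfl (hW'.image_of_isOpenImmersion j) hle hW
  letI : Module Γ(S, W) Γ(F, j ''ᵁ W') := Module.compHom _ ((f ≫ b).appLE W (j ''ᵁ W') hle).hom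
  haveI : Module.Flat Γ(S, W) Γ(F, j ''ᵁ W') := h
  refine Module.Flat.of_linearEquiv (M := Γ(F, j ''ᵁ W')) ?_
  exact
    { (AddEquiv.refl Γ(F, j ''ᵁ W')) with
      map_smul' := fun a s => by
        show (j.appIso W').inv (act (Coh.toGlobal (hB f b hV e)) W' a) • (show Γ(F, j ''ᵁ W') from s) =
          (f ≫ b).appLE W (j ''ᵁ W') hle a • (show Γ(F, j ''ᵁ W') from s)
        rw [appIso_act f b hV e W' hle a] }

/-- The cochains as a module over the base. -/
@[reducible]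
def modCF (i : ℤ) : Module Γ(S, W) (CF f hV c F i) := Module.compHom _ (b.appLE W V e).hom

/-- Cochains over the base are cochains. -/
def eqvC (i : ℤ) :
    letI := modCF f b hV e c F i
    C (Coh.toGlobal (hB f b hV e)) (FV f (V := V) F) c.U i ≃ₗ[Γ(S, W)] CF f hV c F i :=
  letI := modCF f b hV e c F i
  { toFun := fun z => z
    invFun := fun z => z
    left_inv := fun _ => rfl
    right_inv := fun _ => rfl
    map_add' := fun _ _ => rfl
    map_smul' := fun r z => funext fun a => by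
      show act (Coh.toGlobal (hB f b hV e)) (opn c.U a.1) r • (show Γ(FV f (V := V) F, opn c.U a.1) from z a) =
        act (ρV f hV) (opn c.U a.1) (b.appLE W V e r) • (show Γ(FV f (V := V) F, opn c.U a.1) from z a)
      exact congrArg (· • (show Γ(FV f (V := V) F, opn c.U a.1) from z a))
        (congrArg ((↑(f ⁻¹ᵁ V) : Scheme.{u}).presheaf.map (homOfLE le_top).op) (toGlobal_hB f b hV e r)) }

include hW in
theorem flat_CF (hfl : FlatMod.IsFlatOver (f ≫ b) F) (i : ℤ) :
    letI := modCF f b hV e c F i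
    Module.Flat Γ(S, W) (CF f hV c F i) := by
  letI := modCF f b hV e c F i
  haveI : Finite c.ι := @Finite.of_fintype _ c.fin
  haveI : Module.Flat Γ(S, W) (C (Coh.toGlobal (hB f b hV e)) (FV f (V := V) F) c.U i) :=
    flat_K (hB f b hV e) c.U (FV f (V := V) F) (fun U hU => flat_sec_hB f b hV hW e F hfl hU) c.affine i
  exact Module.Flat.of_linearEquiv (eqvC f b hV e c F i).symm

include hW in
/-- The cokernels in high degrees are flat over the base. -/
theorem flat_coker_high (hfl : FlatMod.IsFlatOver (f ≫ b) F) (i : ℤ) (hi : (Nat.card c.ι : ℤ) ≤ i + 1) :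
    letI : Algebra Γ(S, W) Γ(Y, V) := (b.appLE W V e).hom.toAlgebra
    letI := modCF f b hV e c F (i + 1)
    haveI : IsScalarTower Γ(S, W) Γ(Y, V) (CF f hV c F (i + 1)) := IsScalarTower.of_algebraMap_smul fun _ _ => rfl
    Module.Flat Γ(S, W) (CF f hV c F (i + 1) ⧸ LinearMap.range (dF f hV c F i (i + 1))) := by
  letI : Algebra Γ(S, W) Γ(Y, V) := (b.appLE W V e).hom.toAlgebra
  letI := modCF f b hV e c F i
  letI := modCF f b hV e c F (i + 1)
  haveI : IsScalarTower Γ(S, W) Γ(Y, V) (CF f hV c F i) := IsScalarTower.of_algebraMap_smul fun _ _ => rfl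
  haveI : IsScalarTower Γ(S, W) Γ(Y, V) (CF f hV c F (i + 1)) := IsScalarTower.of_algebraMap_smul fun _ _ => rfl
  haveI : Finite c.ι := @Finite.of_fintype _ c.fin
  haveI : Coh.IsQCoh (FV f (V := V) F) := Scheme.Modules.isQuasicoherent_restrictFunctor _ F
  let P := K (Coh.toGlobal (hB f b hV e)) (FV f (V := V) F) c.U
  have hflat : ∀ j, Module.Flat Γ(S, W) (P.X j) := fun j =>
    flat_K (hB f b hV e) c.U (FV f (V := V) F) (fun U hU => flat_sec_hB f b hV hW e F hfl hU) c.affine j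
  have hz : ∀ M : ModuleCat.{u} Γ(S, W), IsZero (CohIII.T P (i + 1) M) := fun M =>
    isZero_T_K (hB f b hV e) c.U (FV f (V := V) F) c.cover c.affine M (i + 1) hi
  haveI hQ : Module.Flat Γ(S, W) (Groth.L01.FlatCx.Coker P i (i + 1)) := by
    refine (Groth.L01.FlatCx.preservesMono_iff P (i := i) (j := i + 1) ((ComplexShape.up ℤ).prev_eq' rfl) hflat).1
      ⟨fun {M N} g _ => ?_⟩
    rw [ModuleCat.mono_iff_injective]
    haveI := ModuleCat.subsingleton_of_isZero (hz M)
    exact fun a a' _ => Subsingleton.elim (α := CohIII.T P (i + 1) M) a a'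
  let ε := eqvC f b hV e c F
  have hε : ∀ v, (ε (i + 1)) (Groth.L01.FlatCx.dd P i (i + 1) v) = dF f hV c F i (i + 1) (ε i v) := fun v =>
    (congrArg (ε (i + 1)) (K_d (Coh.toGlobal (hB f b hV e)) (FV f (V := V) F) c.U i v)).trans
      ((dL_indep (Coh.toGlobal (hB f b hV e)) (ρV f hV) (FV f (V := V) F) c.U i v).trans
        (K_d (ρV f hV) (FV f (V := V) F) c.U i (ε i v)).symm)
  let q : CF f hV c F (i + 1) →ₗ[Γ(S, W)] Groth.L01.FlatCx.Coker P i (i + 1) :=
    (LinearMap.range (Groth.L01.FlatCx.dd P i (i + 1))).mkQ.comp (ε (i + 1)).symm.toLinearMap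
  have hq : LinearMap.ker q = (LinearMap.range (dF f hV c F i (i + 1))).restrictScalars Γ(S, W) := by
    rw [LinearMap.ker_comp, Submodule.ker_mkQ]
    refine Submodule.ext fun z => ?_
    rw [Submodule.mem_comap, Submodule.restrictScalars_mem, LinearMap.mem_range, LinearMap.mem_range]
    constructor
    · rintro ⟨v, hv⟩
      refine ⟨ε i v, ?_⟩
      rw [← hε v, hv]
      exact (ε (i + 1)).apply_symm_apply z
    · rintro ⟨v, hv⟩
      refine ⟨(ε i).symm v, (ε (i + 1)).injective ?_⟩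
      rw [hε, LinearEquiv.apply_symm_apply, hv]
      exact ((ε (i + 1)).apply_symm_apply z).symm
  have hqs : Function.Surjective q := by
    rw [LinearMap.coe_comp]
    exact Function.Surjective.comp (Submodule.mkQ_surjective (LinearMap.range (Groth.L01.FlatCx.dd P i (i + 1))))
      (ε (i + 1)).symm.surjective
  let R₁ := LinearMap.range (dF f hV c F i (i + 1))
  let e₁ : (CF f hV c F (i + 1) ⧸ R₁.restrictScalars Γ(S, W)) ≃ₗ[Γ(S, W)] CF f hV c F (i + 1) ⧸ R₁ :=
    Submodule.Quotient.restrictScalarsEquiv Γ(S, W) R₁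
  exact Module.Flat.of_linearEquiv
    (e₁.symm.trans ((Submodule.quotEquivOfEq _ _ hq.symm).trans (q.quotKerEquivOfSurjective hqs)))

variable [HasInjectiveResolutions X.Modules] (Δ : RDer.DerivedLES (Scheme.Modules.pushforward f))

include hW Δ in
/-- Images and cokernels of the differentials are flat over the base. -/
theorem flat_dF (hfl : FlatMod.IsFlatOver (f ≫ b) F)
    (hR : ∀ n : ℕ, FlatMod.IsFlatOver b ((Coh.Rpush f n).obj F)) (i : ℤ) :
    letI := modCF f b hV e c F (i + 1)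
    letI : Algebra Γ(S, W) Γ(Y, V) := (b.appLE W V e).hom.toAlgebra
    haveI : IsScalarTower Γ(S, W) Γ(Y, V) (CF f hV c F (i + 1)) := IsScalarTower.of_algebraMap_smul fun _ _ => rfl
    Module.Flat Γ(S, W) (LinearMap.range (dF f hV c F i (i + 1))) ∧
      Module.Flat Γ(S, W) (CF f hV c F (i + 1) ⧸ LinearMap.range (dF f hV c F i (i + 1))) := by
  letI : Algebra Γ(S, W) Γ(Y, V) := (b.appLE W V e).hom.toAlgebra
  letI hm : ∀ j : ℤ, Module Γ(S, W) (CF f hV c F j) := fun j => modCF f b hV e c F j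
  haveI : ∀ j : ℤ, IsScalarTower Γ(S, W) Γ(Y, V) (CF f hV c F j) :=
    fun j => IsScalarTower.of_algebraMap_smul fun _ _ => rfl
  refine FlatHom.flat_ranges (A := Γ(Y, V)) Γ(S, W) (fun i j => dF f hV c F i j)
    (fun j => flat_CF f b hV hW e c F hfl j) (Nat.card c.ι : ℤ)
    (fun j hj => flat_coker_high f b hV hW e c F hfl j (by omega))
    (fun j => LinearMap.ext fun x => Transfer.dd_zero (KF f hV c F) _ _ _ x) (fun j => ?_) i
  by_cases hj : j + 1 < 0
  · haveI := subsingleton_C (ρV f hV) (FV f (V := V) F) c.U (i := j + 1) hj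
    haveI : Subsingleton (LinearMap.ker (dF f hV c F (j + 1) (j + 1 + 1)) ⧸
        (LinearMap.range (dF f hV c F j (j + 1))).comap (LinearMap.ker (dF f hV c F (j + 1) (j + 1 + 1))).subtype) :=
      (Submodule.mkQ_surjective _).subsingleton
    infer_instance
  · obtain ⟨n, hn⟩ : ∃ n : ℕ, j + 1 = n := ⟨(j + 1).toNat, (Int.toNat_of_nonneg (by omega)).symm⟩
    haveI : Coh.IsQCoh (F.restrict (f ⁻¹ᵁ V).ι) := Scheme.Modules.isQuasicoherent_restrictFunctor _ F
    have key : ∀ (i k : ℤ), i = (n : ℤ) - 1 → k = n → Module.Flat Γ(S, W) (LinearMap.ker (dF f hV c F k (k + 1)) ⧸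
        (LinearMap.range (dF f hV c F i k)).comap (LinearMap.ker (dF f hV c F k (k + 1))).subtype) := by
      rintro i k rfl rfl
      obtain ⟨θ, hθ⟩ := exists_isCls f hV c Δ n F
      haveI := PushQCoh.isQCoh_Rpush f F n
      letI : Module Γ(S, W) Γ((Coh.Rpush f n).obj F, V) := Module.compHom _ (b.appLE W V e).hom
      haveI : IsScalarTower Γ(S, W) Γ(Y, V) Γ((Coh.Rpush f n).obj F, V) :=
        IsScalarTower.of_algebraMap_smul fun _ _ => rfl
      haveI : Module.Flat Γ(S, W) Γ((Coh.Rpush f n).obj F, V) := flat_appLE b _ (hR n) hV e hW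
      have hker : (LinearMap.range (dF f hV c F ((n : ℤ) - 1) n)).comap
          (LinearMap.ker (dF f hV c F (n : ℤ) ((n : ℤ) + 1))).subtype = LinearMap.ker θ :=
        Submodule.ext fun z => (hθ.ker z).symm
      exact Module.Flat.of_linearEquiv
        (((Submodule.quotEquivOfEq _ _ hker).trans (θ.quotKerEquivOfSurjective hθ.surj)).restrictScalars Γ(S, W))
    exact key j (j + 1) (by omega) hn

end Flat

section BC

variable {X Y S X' Y' S' : Scheme.{u}} {b : Y ⟶ S} {f : X ⟶ Y} [IsSeparated f] [QuasiCompact f]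
  {g : S' ⟶ S} {gY : Y' ⟶ Y} {b' : Y' ⟶ S'} {gX : X' ⟶ X} {f' : X' ⟶ Y'}
  [HasInjectiveResolutions X.Modules] [HasInjectiveResolutions X'.Modules]
  {F : X.Modules} [Coh.IsQCoh F] {w : gX ≫ f = f' ≫ gY}
  {Δ : RDer.DerivedLES (Scheme.Modules.pushforward f)} {Δ' : RDer.DerivedLES (Scheme.Modules.pushforward f')}
  {E : CohCmp.SectCmp f Δ} {E' : CohCmp.SectCmp f' Δ'} (B : CohCmp.GenBC f gY f' gX w E E')

theorem bc_app_pull (p : ℕ) (U : Y.Opens) (t : Γ((Coh.Rpush f p).obj F, U)) :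
    (B.bc p F).app (gY ⁻¹ᵁ U) (pull gY ((Coh.Rpush f p).obj F) U t) = (B.φ p F).app U t :=
  congr($(congrArg (fun k => Scheme.Modules.Hom.app k U)
    (((Scheme.Modules.pullbackPushforwardAdjunction gY).homEquiv_unit _ _ (B.bc p F)).symm.trans
      (((Scheme.Modules.pullbackPushforwardAdjunction gY).homEquiv _ _).apply_symm_apply (B.φ p F)))) t)

include B in
/-- Sections of the base change map over an affine open, from a base change property of the classes. -/
theorem bijective_bc_app_of_isBaseChange {V : Y.Opens} {V' : Y'.Opens} (q : Sq f gY f' gX V V') (p : ℕ)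
    (h : letI : Algebra Γ(Y, V) Γ(Y', V') := q.φ.hom.toAlgebra
      letI : Module Γ(Y, V) Γ((Coh.Rpush f' p).obj ((Scheme.Modules.pullback gX).obj F), V') :=
        Module.compHom _ (algebraMap Γ(Y, V) Γ(Y', V'))
      haveI : IsScalarTower Γ(Y, V) Γ(Y', V') Γ((Coh.Rpush f' p).obj ((Scheme.Modules.pullback gX).obj F), V') :=
        IsScalarTower.of_algebraMap_smul fun _ _ => rfl
      ∃ ψl : Γ((Coh.Rpush f p).obj F, V) →ₗ[Γ(Y, V)] Γ((Coh.Rpush f' p).obj ((Scheme.Modules.pullback gX).obj F), V'),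
        (∀ t, ψl t = q.ψ B p F t) ∧ IsBaseChange Γ(Y', V') ψl) :
    Function.Bijective ((B.bc p F).app V') := by
  letI : Algebra Γ(Y, V) Γ(Y', V') := q.φ.hom.toAlgebra
  letI : Module Γ(Y, V) Γ((Coh.Rpush f' p).obj ((Scheme.Modules.pullback gX).obj F), V') :=
    Module.compHom _ (algebraMap Γ(Y, V) Γ(Y', V'))
  haveI : IsScalarTower Γ(Y, V) Γ(Y', V') Γ((Coh.Rpush f' p).obj ((Scheme.Modules.pullback gX).obj F), V') :=
    IsScalarTower.of_algebraMap_smul fun _ _ => rfl
  obtain ⟨ψl, hψ, hbc⟩ := h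
  haveI := PushQCoh.isQCoh_Rpush f F p
  letI : Module Γ(Y, V) Γ((Scheme.Modules.pullback gY).obj ((Coh.Rpush f p).obj F), V') :=
    Module.compHom _ (gY.appLE V V' q.le).hom
  haveI : IsScalarTower Γ(Y, V) Γ(Y', V') Γ((Scheme.Modules.pullback gY).obj ((Coh.Rpush f p).obj F), V') :=
    IsScalarTower.of_algebraMap_smul fun _ _ => rfl
  have hpr : IsBaseChange Γ(Y', V') (Groth.L16.AffineBC.pullRes gY ((Coh.Rpush f p).obj F) q.le) :=
    Groth.L16.AffineBC.isBaseChange_pull gY ((Coh.Rpush f p).obj F) q.hV q.hV' q.le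
  have key : ∀ x, (B.bc p F).app V' (hpr.equiv x) = hbc.equiv x := by
    intro x
    induction x using TensorProduct.induction_on with
    | zero => rw [map_zero, map_zero, map_zero]
    | add a a' ha hb => rw [map_add, map_add, map_add, ha, hb]
    | tmul a t =>
      rw [IsBaseChange.equiv_tmul, IsBaseChange.equiv_tmul, hψ]
      refine ((B.bc p F).app_smul a _).trans (congrArg (a • ·) ?_)
      show (B.bc p F).app V' (rs _ q.le (pull gY ((Coh.Rpush f p).obj F) V t)) = _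
      rw [Cochains.app_rs, bc_app_pull]
      rfl
  have : Function.Bijective (fun x => (B.bc p F).app V' (hpr.equiv x)) := by
    rw [funext key]; exact hbc.equiv.bijective
  exact (Function.Bijective.of_comp_iff _ hpr.equiv.bijective).1 this

include B in
/-- The base change map is an isomorphism when the module and its direct images are flat over the base. -/
theorem isIso_bc_of_flat (hY : IsPullback gY b' b g) (hX : IsPullback gX f' f gY)
    (hfl : FlatMod.IsFlatOver (f ≫ b) F) (hR : ∀ n : ℕ, FlatMod.IsFlatOver b ((Coh.Rpush f n).obj F)) (p : ℕ) :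
    IsIso (B.bc p F) := by
  refine isIso_of_affine _ fun z => ?_
  obtain ⟨_, ⟨W, hW, rfl⟩, hzW, -⟩ :=
    S.isBasis_affineOpens.exists_subset_of_mem_open (a := b (gY z)) (Set.mem_univ _) isOpen_univ
  obtain ⟨_, ⟨V, hV, rfl⟩, hzV, hVW⟩ :=
    Y.isBasis_affineOpens.exists_subset_of_mem_open (a := gY z) (show gY z ∈ b ⁻¹ᵁ W from hzW) (b ⁻¹ᵁ W).2
  have hzW' : g (b' z) ∈ W := by
    rw [← Scheme.Hom.comp_apply, ← hY.w, Scheme.Hom.comp_apply]
    exact hzW
  obtain ⟨_, ⟨W', hW', rfl⟩, hzW'', hW'W⟩ :=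
    S'.isBasis_affineOpens.exists_subset_of_mem_open (a := b' z) (show b' z ∈ g ⁻¹ᵁ W from hzW') (g ⁻¹ᵁ W).2
  change W' ≤ g ⁻¹ᵁ W at hW'W
  change V ≤ b ⁻¹ᵁ W at hVW
  let U : Y'.Opens := gY ⁻¹ᵁ V ⊓ b' ⁻¹ᵁ W'
  refine ⟨U, ⟨hzV, hzW''⟩, fun V' hV'U hV' => ?_⟩
  have q : Sq f gY f' gX V V' := ⟨hV, hV', fun x hx => (hV'U hx).1, hX⟩
  refine bijective_bc_app_of_isBaseChange B q p ?_
  obtain ⟨c⟩ := Effaced.nonempty_cov f hV
  haveI : Coh.IsQCoh (F.restrict (f ⁻¹ᵁ V).ι) := Scheme.Modules.isQuasicoherent_restrictFunctor _ F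
  haveI : IsSeparated f' := MorphismProperty.of_isPullback hX inferInstance
  haveI : QuasiCompact f' := MorphismProperty.of_isPullback hX inferInstance
  letI : Algebra Γ(Y, V) Γ(Y', V') := q.φ.hom.toAlgebra
  letI : Module Γ(Y, V) Γ((Coh.Rpush f' p).obj ((Scheme.Modules.pullback gX).obj F), V') :=
    Module.compHom _ (algebraMap Γ(Y, V) Γ(Y', V'))
  haveI : IsScalarTower Γ(Y, V) Γ(Y', V') Γ((Coh.Rpush f' p).obj ((Scheme.Modules.pullback gX).obj F), V') :=
    IsScalarTower.of_algebraMap_smul fun _ _ => rfl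
  obtain ⟨ψl, hψ, ⟨D⟩⟩ := q.exists_bcData rfl c B p F
  refine ⟨ψl, hψ, ?_⟩
  letI : Algebra Γ(S, W) Γ(S', W') := (g.appLE W W' hW'W).hom.toAlgebra
  letI : Algebra Γ(S, W) Γ(Y, V) := (b.appLE W V hVW).hom.toAlgebra
  letI : Algebra Γ(S', W') Γ(Y', U) := (b'.appLE W' U inf_le_right).hom.toAlgebra
  letI : Algebra Γ(Y, V) Γ(Y', U) := (gY.appLE V U inf_le_left).hom.toAlgebra
  letI : Algebra Γ(S, W) Γ(Y', U) :=
    (g.appLE W W' hW'W ≫ b'.appLE W' U inf_le_right).hom.toAlgebra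
  haveI : IsScalarTower Γ(S, W) Γ(S', W') Γ(Y', U) := IsScalarTower.of_algebraMap_eq fun _ => rfl
  haveI hiso := isIso_pushoutSection_of_isAffineOpen hY hW'W hVW (rfl : U = _) hW hW' hV
  have hpo := (isIso_pushoutSection_iff hY hW'W hVW (rfl : U = _)).1 hiso
  haveI : IsScalarTower Γ(S, W) Γ(Y, V) Γ(Y', U) := IsScalarTower.of_algebraMap_eq fun a =>
    (ConcreteCategory.congr_hom hpo.w a).symm
  haveI : Algebra.IsPushout Γ(S, W) Γ(S', W') Γ(Y, V) Γ(Y', U) := CommRingCat.isPushout_iff_isPushout.1 hpo.flip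
  letI : Algebra Γ(Y', U) Γ(Y', V') := (Y'.presheaf.map (homOfLE hV'U).op).hom.toAlgebra
  haveI : IsScalarTower Γ(Y, V) Γ(Y', U) Γ(Y', V') := IsScalarTower.of_algebraMap_eq fun a => by
    show q.φ a = (gY.appLE V U inf_le_left ≫ Y'.presheaf.map (homOfLE hV'U).op) a
    rw [Scheme.Hom.appLE_map]
    rfl
  haveI : Module.Flat Γ(Y', U) Γ(Y', V') := by
    haveI : IsAffine _ := hW
    haveI : IsAffine _ := hW'
    haveI : IsAffine _ := hV
    have hU : IsAffineOpen U :=
      .of_isIso (Scheme.Hom.isPullback_resLE hY hW'W hVW (rfl : U = _)).isoPullback.hom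
    have h := HasRingHomProperty.appLE @Flat (𝟙 Y') inferInstance ⟨U, hU⟩ ⟨V', hV'⟩ hV'U
    rw [Scheme.Hom.appLE, Scheme.Hom.id_app] at h
    exact h
  letI : Module Γ(S, W) (CF f hV c F (p : ℤ)) := modCF f b hV hVW c F _
  haveI : IsScalarTower Γ(S, W) Γ(Y, V) (CF f hV c F (p : ℤ)) := IsScalarTower.of_algebraMap_smul fun _ _ => rfl
  letI : Module Γ(S, W) (CF f hV c F ((p : ℤ) + 1)) := modCF f b hV hVW c F _
  haveI : IsScalarTower Γ(S, W) Γ(Y, V) (CF f hV c F ((p : ℤ) + 1)) :=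
    IsScalarTower.of_algebraMap_smul fun _ _ => rfl
  obtain ⟨h1, h2⟩ := flat_dF f b hV hW hVW c F Δ hfl hR p
  haveI := h1
  haveI := h2
  exact FlatHom.isBaseChange (R := Γ(S, W)) (R' := Γ(S', W')) (A' := Γ(Y', U)) Γ(Y', V') D
    (LinearMap.ext fun x => Transfer.dd_zero (KF f hV c F) _ _ _ x)

end BC

end Groth.L17.BC.FlatBC
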