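import Groth.Agent.L17.BC.Split
import Groth.Agent.L01.FlatCx.Seq
import Mathlib.RingTheory.Flat.Equalizer
import Mathlib.RingTheory.IsTensorProduct

/-!
# Base change of complexes with terms and homology flat over a base ring

`A` is an algebra over `R`, `A'` its base change along `R → R'`, and `B` is flat over `A'`.
-/

set_option autoImplicit false
set_option linter.style.haveILetI false

universe u

open scoped TensorProduct

noncomputable section

namespace Groth.L17.BC.FlatHom

variable {R R' A A' : Type u} [CommRing R] [CommRing R'] [CommRing A] [CommRing A']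
  [Algebra R R'] [Algebra R A] [Algebra R A'] [Algebra R' A'] [Algebra A A']
  [IsScalarTower R R' A'] [IsScalarTower R A A'] [Algebra.IsPushout R R' A A']
  (B : Type u) [CommRing B] [Algebra A B] [Algebra A' B] [IsScalarTower A A' B] [Module.Flat A' B]
  {K M N : Type u} [AddCommGroup K] [Module A K] [Module R K] [IsScalarTower R A K]
  [AddCommGroup M] [Module A M] [Module R M] [IsScalarTower R A M]
  [AddCommGroup N] [Module A N] [Module R N] [IsScalarTower R A N]

include R R' A' in
/-- An injection with cokernel flat over the base stays injective. -/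
theorem baseChange_injective [Module.Flat R N] (f : K →ₗ[A] M) (g : M →ₗ[A] N) (hf : Function.Injective f)
    (hg : Function.Surjective g) (hfg : Function.Exact f g) : Function.Injective (f.baseChange B) := by
  have h1 : Function.Injective ((f.restrictScalars R).lTensor R') := by
    rw [LinearMap.lTensor_inj_iff_rTensor_inj]
    exact Groth.L01.FlatCx.rTensor_injective_of_flat_quot (f := f.restrictScalars R) (g := g.restrictScalars R)
      hf hg hfg R'
  let cK := Algebra.IsPushout.cancelBaseChange R R' A A' K
  let cM := Algebra.IsPushout.cancelBaseChange R R' A A' M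
  have hc : ∀ x, f.baseChange A' (cK.symm x) = cM.symm ((f.restrictScalars R).lTensor R' x) := by
    intro x
    induction x using TensorProduct.induction_on with
    | zero => simp only [map_zero]
    | add a b ha hb => simp only [map_add, ha, hb]
    | tmul s k =>
      rw [Algebra.IsPushout.cancelBaseChange_symm_tmul, LinearMap.lTensor_tmul,
        Algebra.IsPushout.cancelBaseChange_symm_tmul]
      rfl
  have h2 : Function.Injective (f.baseChange A') := fun x y h => by
    obtain ⟨x, rfl⟩ := cK.symm.surjective x
    obtain ⟨y, rfl⟩ := cK.symm.surjective y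
    rw [hc, hc] at h
    rw [h1 (cM.symm.injective h)]
  let eK := TensorProduct.AlgebraTensorModule.cancelBaseChange A A' A' B K
  let eM := TensorProduct.AlgebraTensorModule.cancelBaseChange A A' A' B M
  have he : ∀ x, f.baseChange B (eK x) = eM ((f.baseChange A').lTensor B x) := by
    intro x
    induction x using TensorProduct.induction_on with
    | zero => simp only [map_zero]
    | add a b ha hb => simp only [map_add, ha, hb]
    | tmul b y =>
      induction y using TensorProduct.induction_on with
      | zero => simp only [TensorProduct.tmul_zero, map_zero]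
      | add a c ha hc' => simp only [TensorProduct.tmul_add, map_add, ha, hc']
      | tmul a k =>
        rw [LinearMap.lTensor_tmul, LinearMap.baseChange_tmul, TensorProduct.AlgebraTensorModule.cancelBaseChange_tmul,
          TensorProduct.AlgebraTensorModule.cancelBaseChange_tmul, LinearMap.baseChange_tmul]
  intro x y h
  obtain ⟨x, rfl⟩ := eK.surjective x
  obtain ⟨y, rfl⟩ := eK.surjective y
  rw [he, he] at h
  rw [Module.Flat.lTensor_preserves_injective_linearMap (M := B) _ h2 (eM.injective h)]

variable {P₀ P P₂ T T' : Type u} [AddCommGroup P₀] [Module A P₀] [AddCommGroup P] [Module A P]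
  [AddCommGroup P₂] [Module A P₂] [Module R P] [IsScalarTower R A P] [Module R P₂] [IsScalarTower R A P₂]
  [AddCommGroup T] [Module A T] [AddCommGroup T'] [Module A T'] [Module B T'] [IsScalarTower A B T']
  {d' : P₀ →ₗ[A] P} {d : P →ₗ[A] P₂} {ψ : T →ₗ[A] T'}

include R R' A' in
/-- Cycles commute with the base change when the images and cokernels are flat over the base. -/
theorem isBaseChange (D : BCData d' d B ψ) (hdd : d ∘ₗ d' = 0) [Module.Flat R (LinearMap.range d)]
    [Module.Flat R (P₂ ⧸ LinearMap.range d)] : IsBaseChange B ψ := by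
  let Z := LinearMap.ker d
  let π : P →ₗ[A] LinearMap.range d := d.rangeRestrict
  have hπ : Function.Exact Z.subtype π := LinearMap.exact_iff.2 (by
    rw [LinearMap.ker_rangeRestrict, Submodule.range_subtype])
  have i1 : Function.Injective (Z.subtype.baseChange B) :=
    baseChange_injective (R := R) (R' := R') (A' := A') B Z.subtype π Z.injective_subtype
      d.surjective_rangeRestrict hπ
  have i2 : Function.Injective ((LinearMap.range d).subtype.baseChange B) :=
    baseChange_injective (R := R) (R' := R') (A' := A') B (LinearMap.range d).subtype (LinearMap.range d).mkQ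
      (LinearMap.range d).injective_subtype (LinearMap.range d).mkQ_surjective
      (LinearMap.exact_subtype_mkQ _)
  have cyc : LinearMap.ker (d.baseChange B) ≤ LinearMap.range (Z.subtype.baseChange B) := by
    intro w hw
    have h0 : π.baseChange B w = 0 := i2 (by
      rw [map_zero, ← LinearMap.comp_apply, ← LinearMap.baseChange_comp]
      exact hw)
    exact (lTensor_exact B hπ d.surjective_rangeRestrict w).1 h0
  refine IsBaseChange.of_equiv (LinearEquiv.ofBijective (ψ.liftBaseChange B) ⟨?_, D.span_of_cycles_le cyc⟩)
    fun x => by simp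
  rw [← LinearMap.ker_eq_bot, Submodule.eq_bot_iff]
  intro x hx
  obtain ⟨t, rfl⟩ := LinearMap.lTensor_surjective B D.θ_surj x
  rw [show (LinearMap.lTensor B D.θ) t = D.θ.baseChange B t from rfl, LinearMap.mem_ker,
    D.lift_eq t (BCData.mem_ker_baseChange B d t), D.θ'_ker] at hx
  obtain ⟨u, hu⟩ := hx
  let e : P₀ →ₗ[A] Z := LinearMap.codRestrict Z d' fun v => LinearMap.congr_fun hdd v
  have ht : t = e.baseChange B u := i1 (by
    rw [← LinearMap.comp_apply (Z.subtype.baseChange B), ← LinearMap.baseChange_comp]
    exact hu.symm)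
  show D.θ.baseChange B t = 0
  rw [ht, ← LinearMap.comp_apply, ← LinearMap.baseChange_comp,
    show D.θ ∘ₗ e = 0 from LinearMap.ext fun v => (D.θ_ker _).2 ⟨v, rfl⟩, LinearMap.baseChange_zero]
  rfl

section Ranges

variable (R : Type u) [CommRing R] [Algebra R A] {C : ℤ → Type u} [∀ i, AddCommGroup (C i)] [∀ i, Module A (C i)]
  [∀ i, Module R (C i)] [∀ i, IsScalarTower R A (C i)] (d : ∀ i j, C i →ₗ[A] C j)

/-- Images and cokernels in a bounded above complex with flat terms and homology are flat. -/
theorem flat_ranges (hflat : ∀ i, Module.Flat R (C i)) (N : ℤ)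
    (hN : ∀ i, N ≤ i → Module.Flat R (C (i + 1) ⧸ LinearMap.range (d i (i + 1))))
    (hdd : ∀ i, d (i + 1) (i + 1 + 1) ∘ₗ d i (i + 1) = 0)
    (hH : ∀ i, Module.Flat R (LinearMap.ker (d (i + 1) (i + 1 + 1)) ⧸
      (LinearMap.range (d i (i + 1))).comap (LinearMap.ker (d (i + 1) (i + 1 + 1))).subtype)) (i : ℤ) :
    Module.Flat R (LinearMap.range (d i (i + 1))) ∧ Module.Flat R (C (i + 1) ⧸ LinearMap.range (d i (i + 1))) := by
  suffices ∀ (k : ℕ) (i : ℤ), N ≤ i + k →
      Module.Flat R (LinearMap.range (d i (i + 1))) ∧ Module.Flat R (C (i + 1) ⧸ LinearMap.range (d i (i + 1))) from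
    this (N - i).toNat i (by omega)
  intro k
  induction k with
  | zero =>
    intro i hi
    haveI := hflat (i + 1)
    haveI := hN i (by omega)
    exact ⟨Groth.L01.FlatCx.flat_left (f := (LinearMap.range (d i (i + 1))).subtype.restrictScalars R)
      (g := (LinearMap.range (d i (i + 1))).mkQ.restrictScalars R)
      (Submodule.injective_subtype _) (Submodule.mkQ_surjective _) (LinearMap.exact_subtype_mkQ _), inferInstance⟩
  | succ k ih =>
    intro i hi
    haveI := hflat (i + 1)
    haveI := (ih (i + 1) (by push_cast at hi ⊢; omega)).1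
    haveI := hH i
    let Z := LinearMap.ker (d (i + 1) (i + 1 + 1))
    let W := LinearMap.range (d i (i + 1))
    have hWZ : W ≤ Z := by
      rintro _ ⟨v, rfl⟩
      exact LinearMap.congr_fun (hdd i) v
    let ι : (Z ⧸ W.comap Z.subtype) →ₗ[A] C (i + 1) ⧸ W := (W.comap Z.subtype).mapQ W Z.subtype le_rfl
    let π : (C (i + 1) ⧸ W) →ₗ[A] LinearMap.range (d (i + 1) (i + 1 + 1)) :=
      W.liftQ (d (i + 1) (i + 1 + 1)).rangeRestrict (by rw [LinearMap.ker_rangeRestrict]; exact hWZ)
    have hι : Function.Injective ι := by
      rw [← LinearMap.ker_eq_bot, Submodule.eq_bot_iff]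
      intro z hz
      obtain ⟨z, rfl⟩ := Submodule.mkQ_surjective _ z
      exact (Submodule.Quotient.mk_eq_zero _).2
        ((Submodule.Quotient.mk_eq_zero W).1 (show (Submodule.Quotient.mk z.1 : C (i + 1) ⧸ W) = 0 from hz))
    have hπ : Function.Surjective π := fun y => by
      obtain ⟨x, rfl⟩ := (d (i + 1) (i + 1 + 1)).surjective_rangeRestrict y
      exact ⟨W.mkQ x, rfl⟩
    have hex : Function.Exact ι π := by
      intro q
      obtain ⟨x, rfl⟩ := W.mkQ_surjective q
      constructor
      · intro hx
        exact ⟨(W.comap Z.subtype).mkQ ⟨x, congrArg Subtype.val hx⟩, rfl⟩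
      · rintro ⟨z, hz⟩
        obtain ⟨z, rfl⟩ := Submodule.mkQ_surjective _ z
        rw [← hz]
        exact Subtype.ext z.2
    haveI hQ : Module.Flat R (C (i + 1) ⧸ W) := Groth.L01.FlatCx.flat_middle (f := ι.restrictScalars R)
      (g := π.restrictScalars R) hι hπ hex
    exact ⟨Groth.L01.FlatCx.flat_left (f := W.subtype.restrictScalars R) (g := W.mkQ.restrictScalars R)
      W.injective_subtype W.mkQ_surjective (LinearMap.exact_subtype_mkQ W), hQ⟩

end Ranges

end Groth.L17.BC.FlatHom
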