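import Groth.Agent.L17.BC.TwistFrame
import Groth.Agent.L17.Approx.Pull
import Mathlib.RingTheory.Flat.EquationalCriterion

/-!
# Flatness from the sections of large twists by an ample invertible module
-/

set_option autoImplicit false
set_option linter.style.haveILetI false
set_option backward.isDefEq.respectTransparency false

universe u

open CategoryTheory AlgebraicGeometry TopologicalSpace Opposite

noncomputable section

namespace Groth.L17.BC.TwistFrame

open Groth.L18.Frame (rs ro rs_rs rs_self rs_smul ro_ro ro_self IsFrame)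
open Groth.L18.GenLoc
open Groth.L18.Ample

variable {X : Scheme.{u}} {L N : X.Modules} {A : Type u} [CommRing A] (ρ : A →+* Coh.Γtop X)

theorem ro_act {U V : X.Opens} (h : V ≤ U) (a : A) : ro h (act ρ U a) = act ρ V a := ro_ro _ _ _

/-- Sections over the locus of a section are flat once those of all large twists are. -/
theorem flat_genLocus [CompactSpace X] [QuasiSeparatedSpace X] [Coh.IsQCoh N] (hL : PicF.IsInvertible L)
    (s : Coh.structureModule X ⟶ L) (k₀ : ℕ) (h : ∀ k, k₀ ≤ k → Module.Flat A (Sec ρ (tw N L k) ⊤)) :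
    Module.Flat A (Sec ρ N (CohB1.genLocus L s)) := by
  let G := CohB1.genLocus L s
  let σ := secOf s
  rw [Module.Flat.iff_forall_isTrivialRelation]
  intro l f x hfx
  choose k t ht using fun i : Fin l => exists_extend_qcoh hL s (show Γ(N, G) from x i)
  obtain ⟨K, hK⟩ := ((Set.finite_range k).union (Set.finite_singleton k₀)).bddAbove
  have lift : ∀ i, ∃ t' : Γ(tw N L K, ⊤), rs (tw N L K) le_top t' = it σ G (show Γ(N, G) from x i) K := fun i => by
    obtain ⟨d, hd⟩ := Nat.exists_eq_add_of_le (hK (Or.inl ⟨i, rfl⟩))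
    subst hd
    exact ⟨up N σ ⊤ d (t i), by rw [up_rs, ht i, up_it]⟩
  choose t' ht' using lift
  let z : Γ(tw N L K, ⊤) := ∑ i, act ρ ⊤ (f i) • t' i
  have hz : rs (tw N L K) (le_top : G ≤ ⊤) z = 0 := by
    have h1 : rs (tw N L K) (le_top : G ≤ ⊤) z = ∑ i, it σ G (act ρ G (f i) • (show Γ(N, G) from x i)) K := by
      refine (map_sum _ _ _).trans (Finset.sum_congr rfl fun i _ => ?_)
      refine (rs_smul _ _ _ _).trans ?_
      rw [ht', it_smul, ro_act]
    let itHom : Γ(N, G) →+ Γ(tw N L K, G) := AddMonoidHom.mk' (fun m => it σ G m K) (fun a b => it_add σ a b K)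
    rw [h1]
    show ∑ i, itHom (act ρ G (f i) • (show Γ(N, G) from x i)) = 0
    rw [← map_sum, show ∑ i, act ρ G (f i) • (show Γ(N, G) from x i) = 0 from hfx, map_zero]
  obtain ⟨d, hd⟩ := exists_up_eq_zero hL s z hz
  let upHom : Γ(tw N L K, ⊤) →+ Γ(tw N L (K + d), ⊤) :=
    AddMonoidHom.mk' (up N σ ⊤ d) (fun a b => up_add σ d a b)
  let y' : Fin l → Sec ρ (tw N L (K + d)) ⊤ := fun i => upHom (t' i)
  have hrel : ∑ i, f i • y' i = 0 := by
    refine Eq.trans ?_ hd
    show ∑ i, act ρ ⊤ (f i) • upHom (t' i) = upHom z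
    rw [map_sum]
    exact Finset.sum_congr rfl fun i _ => (up_smul σ _ d _).symm
  obtain ⟨c, a, y, hy, ha⟩ := Module.Flat.iff_forall_isTrivialRelation.1 (h (K + d) ((hK (Or.inr rfl)).trans (Nat.le_add_right _ _))) hrel
  have hb := bijective_it (N := N) σ (isFrame_genLocus s) (K + d)
  choose n hn using fun j => hb.2 (rs (tw N L (K + d)) le_top (show Γ(tw N L (K + d), ⊤) from y j))
  refine ⟨c, a, n, fun i => hb.1 ?_, ha⟩
  let itHom : Γ(N, G) →+ Γ(tw N L (K + d), G) := AddMonoidHom.mk' (fun m => it σ G m (K + d)) (fun a b => it_add σ a b _)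
  show it σ G (show Γ(N, G) from x i) (K + d) = itHom (∑ j, act ρ G (a i j) • n j)
  rw [← up_it, ← ht' i, ← up_rs, map_sum]
  refine (congrArg (rs (tw N L (K + d)) le_top) (hy i)).trans ?_
  show rs (tw N L (K + d)) le_top (∑ j, act ρ ⊤ (a i j) • (show Γ(tw N L (K + d), ⊤) from y j)) = _
  refine (map_sum _ _ _).trans (Finset.sum_congr rfl fun j _ => ?_)
  show _ = it σ G (act ρ G (a i j) • n j) (K + d)
  refine (rs_smul _ _ _ _).trans ?_
  rw [it_smul, ro_act]
  exact congrArg (act ρ G (a i j) • ·) (hn j).symm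

end Groth.L17.BC.TwistFrame
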