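import Groth.Agent.L17.BC.Flattening
import Groth.Agent.L13.FixedLocus.Glue

/-!
# The subscheme representing universal local freeness of a direct image with given rank
-/

set_option autoImplicit false
set_option linter.style.haveILetI false
set_option linter.unusedSectionVars false
set_option backward.isDefEq.respectTransparency false

universe u

open CategoryTheory CategoryTheory.Limits AlgebraicGeometry TopologicalSpace Opposite

noncomputable section

namespace Groth.L17.BC.Classes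

open Groth.L01.FlatCx (mu)
open SplitCoker (Cond)

variable {X S : Scheme.{u}} (f : X ⟶ S) (F : X.Modules) [IsProper f] [LocallyOfFinitePresentation f]
  [HasInjectiveResolutions X.Modules] [Coh.IsQCoh F]

/-- The property to be represented. -/
def BCFree (r : ℕ) {T XT : Scheme.{u}} (fT : XT ⟶ T) (gT : XT ⟶ X) : Prop :=
  FlatMod.IsFinLocFreeOfRank r ((Scheme.Modules.pushforward fT).obj ((Scheme.Modules.pullback gT).obj F)) ∧
    ∀ ⦃X'' T' : Scheme.{u}⦄ (v' : X'' ⟶ XT) (f'' : X'' ⟶ T') (u' : T' ⟶ T) (h : IsPullback v' f'' fT u'),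
      IsIso (CohBC.bc0 fT u' f'' v' h.w ((Scheme.Modules.pullback gT).obj F))

variable (hfp : CohB1.IsFP F) (hfl : FlatMod.IsFlatOver f F)

include hfp hfl

theorem exists_chart_pair {T : Scheme.{u}} (v : T ⟶ S) (t : T) (O : T.Opens) (ht : t ∈ O) :
    ∃ (V : S.Opens) (_ : IsAffineOpen V) (W : T.Opens) (_ : IsAffineOpen W),
      W ≤ v ⁻¹ᵁ V ∧ W ≤ O ∧ t ∈ W := by
  obtain ⟨_, ⟨V, hV, rfl⟩, hvV, -⟩ :=
    S.isBasis_affineOpens.exists_subset_of_mem_open (Set.mem_univ (v t)) isOpen_univ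
  obtain ⟨_, ⟨W, hW, rfl⟩, htW, hWV⟩ := T.isBasis_affineOpens.exists_subset_of_mem_open
    (show t ∈ v ⁻¹ᵁ V ⊓ O from ⟨hvV, ht⟩) (v ⁻¹ᵁ V ⊓ O).2
  exact ⟨V, hV, W, hW, fun x hx => (hWV hx).1, fun x hx => (hWV hx).2, htW⟩

/-- The property holds exactly when every point is good. -/
theorem bcFree_iff_goodSq (r : ℕ) {T XT : Scheme.{u}} (v : T ⟶ S) {fT : XT ⟶ T} {gT : XT ⟶ X}
    (pb : IsPullback gT fT f v) : BCFree F r fT gT ↔ ∀ t, GoodSq f F v fT gT r t := by
  haveI : IsProper fT := MorphismProperty.of_isPullback pb inferInstance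
  haveI : LocallyOfFinitePresentation fT := MorphismProperty.of_isPullback pb inferInstance
  haveI := PushQCoh.hasInjectiveResolutions XT
  haveI : Coh.IsQCoh ((Scheme.Modules.pullback gT).obj F) :=
    Groth.L16.AffineBC.isQCoh_pullback _ _
  constructor
  · rintro ⟨hfree, hbc⟩ t
    have hepi : ∀ t', Epi (CohBC.bc0 fT (T.fromSpecResidueField t')
        (fT.fiberToSpecResidueField t') (fT.fiberι t')
        (fT.fiber_fac t') ((Scheme.Modules.pullback gT).obj F)) := fun t' => by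
      haveI := hbc (fT.fiberι t') (fT.fiberToSpecResidueField t')
        (T.fromSpecResidueField t') (IsPullback.of_hasPullback _ _)
      infer_instance
    refine ⟨hepi t, ?_⟩
    obtain ⟨U, htU, ⟨i⟩⟩ := hfree t
    obtain ⟨V, hV, W, hW, le, hWU, htW⟩ := exists_chart_pair f F hfp hfl v t U htU
    obtain ⟨g, l, hl⟩ := exists_det f F hfp hfl hV
    obtain ⟨l', hl'⟩ := exists_freeBC0_pullback hfl hV g l hl v pb hW le
    rw [← (hl' t htW).2]
    exact l'.fiberRank_eq_of_restrict hW hWU i htW ((epi_bc0_iff_split hW l' htW).1 (hepi t))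
  · intro h
    have hsplit : ∀ y ∈ (⊤ : T.Opens), ∃ (W : T.Opens) (hW : IsAffineOpen W)
        (l' : FreeBC0 fT ((Scheme.Modules.pullback gT).obj F) W),
        y ∈ W ∧ ∀ y' (hy' : y' ∈ W), y' ∈ (⊤ : T.Opens) → l'.free.Split hW 0 hy' := fun y _ => by
      obtain ⟨V, hV, W, hW, le, -, hyW⟩ := exists_chart_pair f F hfp hfl v y ⊤ trivial
      obtain ⟨g, l, hl⟩ := exists_det f F hfp hfl hV
      obtain ⟨l', -⟩ := exists_freeBC0_pullback hfl hV g l hl v pb hW le
      exact ⟨W, hW, l', hyW, fun y' hy' _ => (epi_bc0_iff_split hW l' hy').1 (h y').1⟩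
    refine ⟨fun t => ?_, fun X'' T' v' f'' u' pb => isIso_bc0 (U := ⊤) pb (fun _ => trivial) hsplit⟩
    obtain ⟨W, hW, l', htW, hl'⟩ := hsplit t trivial
    obtain ⟨Δ⟩ := nonempty_derivedLES fT
    obtain ⟨O, htO, hO, -⟩ := l'.exists_locFree hW Δ htW (hl' t htW trivial)
    obtain ⟨U, n, htU, ⟨i⟩⟩ := hO t htO
    obtain ⟨V, hV, W', hW', le, hW'U, htW'⟩ := exists_chart_pair f F hfp hfl v t U htU
    obtain ⟨g, l, hl⟩ := exists_det f F hfp hfl hV
    obtain ⟨l'', hl''⟩ := exists_freeBC0_pullback hfl hV g l hl v pb hW' le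
    have hn : n = r := by
      rw [← (h t).2, ← (hl'' t htW').2]
      exact (l''.fiberRank_eq_of_restrict hW' hW'U i htW' ((epi_bc0_iff_split hW' l'' htW').1 (h t).1)).symm
    exact ⟨U, htU, ⟨hn ▸ i⟩⟩

/-- Goodness does not depend on the chosen base change. -/
theorem forall_goodSq_iff (r : ℕ) {T XT : Scheme.{u}} (v : T ⟶ S) {fT : XT ⟶ T} {gT : XT ⟶ X}
    (pb : IsPullback gT fT f v) : (∀ t, GoodSq f F v fT gT r t) ↔ ∀ t, Good f F v r t := by
  haveI : IsProper fT := MorphismProperty.of_isPullback pb inferInstance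
  haveI : LocallyOfFinitePresentation fT := MorphismProperty.of_isPullback pb inferInstance
  constructor <;> intro h t <;>
  · obtain ⟨V, hV, W, hW, le, -, htW⟩ := exists_chart_pair f F hfp hfl v t ⊤ trivial
    obtain ⟨g, l, hl⟩ := exists_det f F hfp hfl hV
    have h₁ := forall_good_iff_cond hfl hV g l hl v pb r hW le
    have h₂ := forall_good_iff_cond hfl hV g l hl v (IsPullback.of_hasPullback f v) r hW le
    first
      | exact h₂.2 (h₁.1 fun t _ => h t) t htW
      | exact h₁.2 (h₂.1 fun t _ => h t) t htW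

/-- The property holds exactly when every point is good. -/
theorem bcFree_iff_good (r : ℕ) {T XT : Scheme.{u}} (v : T ⟶ S) {fT : XT ⟶ T} {gT : XT ⟶ X}
    (pb : IsPullback gT fT f v) : BCFree F r fT gT ↔ ∀ t, Good f F v r t :=
  (bcFree_iff_goodSq f F hfp hfl r v pb).trans (forall_goodSq_iff f F hfp hfl r v pb)

theorem good_comp (r : ℕ) {T T' : Scheme.{u}} (h : T' ⟶ T) (v : T ⟶ S) (hv : ∀ t, Good f F v r t) (t' : T') :
    Good f F (h ≫ v) r t' := by
  obtain ⟨V, hV, W, hW, le, -, hW0⟩ := exists_chart_pair f F hfp hfl v (h t') ⊤ trivial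
  obtain ⟨_, ⟨W', hW', rfl⟩, htW', hW'W⟩ :=
    T'.isBasis_affineOpens.exists_subset_of_mem_open (show t' ∈ h ⁻¹ᵁ W from hW0) (h ⁻¹ᵁ W).2
  obtain ⟨g, l, hl⟩ := exists_det f F hfp hfl hV
  have le' : W' ≤ (h ≫ v) ⁻¹ᵁ V := fun x hx => le (hW'W hx)
  refine (forall_good_iff_cond hfl hV g l hl (h ≫ v) (IsPullback.of_hasPullback f _) r hW' le').2 ?_ t' htW'
  have := ((forall_good_iff_cond hfl hV g l hl v (IsPullback.of_hasPullback f _) r hW le).1 fun t _ => hv t).comp (h.appLE W W' hW'W).hom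
  rwa [← CommRingCat.hom_comp, Scheme.Hom.appLE_comp_appLE] at this

theorem good_of_local (r : ℕ) {T : Scheme.{u}} (v : T ⟶ S) (O : T.Opens)
    (hv : ∀ t, Good f F (O.ι ≫ v) r t) {t : T} (ht : t ∈ O) : Good f F v r t := by
  obtain ⟨V, hV, W, hW, le, hWO, htW⟩ := exists_chart_pair f F hfp hfl v t O ht
  obtain ⟨g, l, hl⟩ := exists_det f F hfp hfl hV
  have hr : W ≤ O.ι.opensRange := by rwa [Scheme.Opens.opensRange_ι]
  have hW' : IsAffineOpen (O.ι ⁻¹ᵁ W) := hW.preimage_of_isOpenImmersion O.ι hr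
  have h0 := (forall_good_iff_cond hfl hV g l hl (O.ι ≫ v) (IsPullback.of_hasPullback f _) r hW' (fun x hx => le hx)).1 fun s _ => hv s
  rw [← Scheme.Hom.appLE_comp_appLE O.ι v V W (O.ι ⁻¹ᵁ W) le le_rfl] at h0
  haveI : IsIso (O.ι.appLE W (O.ι ⁻¹ᵁ W) le_rfl) := by
    rw [← Scheme.Hom.app_eq_appLE]
    exact Scheme.Hom.isIso_app O.ι W hr
  refine (forall_good_iff_cond hfl hV g l hl v (IsPullback.of_hasPullback f _) r hW le).2 ?_ t htW
  have := h0.comp (inv (O.ι.appLE W (O.ι ⁻¹ᵁ W) le_rfl)).hom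
  rwa [← CommRingCat.hom_comp, Category.assoc, IsIso.hom_inv_id, Category.comp_id] at this

/-- Points of fibre dimension at most `r` form an open set with quasi-compact inclusion. -/
theorem isOpen_fiberRank_le (r : ℕ) :
    IsOpen {s : S | CohIII.fiberRank f F 0 s ≤ r} ∧
      ∀ V : S.Opens, IsAffineOpen V → IsCompact ((V : Set S) ∩ {s : S | CohIII.fiberRank f F 0 s ≤ r}) := by
  have key : ∀ (V : S.Opens) (hV : IsAffineOpen V),
      ∃ C : Set (Spec Γ(S, V)), IsOpen C ∧ IsCompact C ∧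
        (V : Set S) ∩ {s : S | CohIII.fiberRank f F 0 s ≤ r} = hV.fromSpec '' C := by
    intro V hV
    obtain ⟨g, l, hl⟩ := exists_det f F hfp hfl hV
    haveI := l.finitePresentation_N
    refine ⟨{x : PrimeSpectrum Γ(S, V) | mu l.N x ≤ r + l.n₁}, ?_, ?_, ?_⟩
    · rw [SplitCoker.setOf_mu_le]
      exact (PrimeSpectrum.isClosed_zeroLocus _).isOpen_compl
    · rw [SplitCoker.setOf_mu_le]
      exact PrimeSpectrum.isCompact_isOpen_iff_ideal.2
        ⟨_, Groth.L13.Fitting.ideal_fg_of_finitePresentation (M := l.N) (r + l.n₁), rfl⟩ |>.1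
    · ext s
      constructor
      · rintro ⟨hs, hsr : CohIII.fiberRank f F 0 s ≤ r⟩
        refine ⟨hV.primeIdealOf ⟨s, hs⟩, ?_, hV.fromSpec_primeIdealOf _⟩
        show mu l.N (hV.primeIdealOf ⟨s, hs⟩) ≤ r + l.n₁
        rw [l.mu_N hV hs]; omega
      · rintro ⟨x, hx, rfl⟩
        obtain ⟨y, hy, rfl⟩ := exists_primeIdealOf hV x
        replace hx : mu l.N (hV.primeIdealOf ⟨y, hy⟩) ≤ r + l.n₁ := hx
        rw [l.mu_N hV hy] at hx
        rw [hV.fromSpec_primeIdealOf]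
        exact ⟨hy, by show CohIII.fiberRank f F 0 y ≤ r; omega⟩
  refine ⟨isOpen_iff_forall_mem_open.2 fun s hs => ?_, fun V hV => ?_⟩
  · obtain ⟨_, ⟨V, hV, rfl⟩, hsV, -⟩ :=
      S.isBasis_affineOpens.exists_subset_of_mem_open (Set.mem_univ s) isOpen_univ
    obtain ⟨C, hC, -, e⟩ := key V hV
    exact ⟨_, Set.inter_subset_right, e ▸ hV.fromSpec.isOpenEmbedding.isOpenMap _ hC, hsV, hs⟩
  · obtain ⟨C, -, hC, e⟩ := key V hV
    rw [e]
    exact hC.image hV.fromSpec.continuous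

theorem good_spec_iff (r : ℕ) {W : S.Opens} (hW : IsAffineOpen W) (g : GLocal f hW F) (l : FreeBC0 f F W)
    (hl : l.free.L = CohIII.bcCx g.φ g.m.L) {R : CommRingCat.{u}} (φ : Γ(S, W) ⟶ R) :
    (∀ x, Good f F (Spec.map φ ≫ hW.fromSpec) r x) ↔ Cond φ.hom l.N (r + l.n₁) := by
  have le : (⊤ : (Spec R).Opens) ≤ (Spec.map φ ≫ hW.fromSpec) ⁻¹ᵁ W := fun x _ =>
    hW.opensRange_fromSpec.le ⟨Spec.map φ x, (Scheme.Hom.comp_apply _ _ _).symm⟩
  have he : (Spec.map φ ≫ hW.fromSpec).appLE W ⊤ le = φ ≫ (Scheme.ΓSpecIso R).inv := by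
    rw [← Scheme.Hom.appLE_comp_appLE (Spec.map φ) hW.fromSpec W ⊤ ⊤ hW.fromSpec_preimage_self.ge le_top,
      Scheme.ΓSpecIso_inv_naturality]
    congr 1
    · rw [Scheme.Hom.appLE, hW.fromSpec_app_self, Category.assoc, ← Functor.map_comp]
      exact (congrArg ((Scheme.ΓSpecIso Γ(S, W)).inv ≫ ·) ((Spec Γ(S, W)).presheaf.map_id _)).trans
        (Category.comp_id _)
  refine Iff.trans ⟨fun h t _ => h t, fun h t => h t trivial⟩
    ((forall_good_iff_cond hfl hW g l hl _ (IsPullback.of_hasPullback f _) r (isAffineOpen_top _) le).trans ?_)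
  rw [he]
  constructor
  · intro h
    have := h.comp (Scheme.ΓSpecIso R).hom.hom
    rwa [← CommRingCat.hom_comp, Category.assoc, Iso.inv_hom_id, Category.comp_id] at this
  · intro h
    exact h.comp (Scheme.ΓSpecIso R).inv.hom

/-- The representing subscheme. -/
theorem exists_bcFree_subscheme (r : ℕ) :
    ∃ (Z : Scheme.{u}) (ι : Z ⟶ S), IsImmersion ι ∧ LocallyOfFinitePresentation ι ∧ QuasiCompact ι ∧
      (∀ (T XT : Scheme.{u}) (v : T ⟶ S) (fT : XT ⟶ T) (gT : XT ⟶ X), IsPullback gT fT f v →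
        ((∃ v' : T ⟶ Z, v' ≫ ι = v) ↔ BCFree F r fT gT)) ∧
      Set.range ι = {s : S | CohIII.fiberRank f F 0 s = r} := by
  obtain ⟨hopen, hcpt⟩ := isOpen_fiberRank_le f F hfp hfl r
  let U : S.Opens := ⟨_, hopen⟩
  let P : ∀ (Y : Scheme.{u}), (Y ⟶ (U : Scheme.{u})) → Prop := fun Y w => ∀ y, Good f F (w ≫ U.ι) r y
  have hcomp : ∀ (Y Z : Scheme.{u}) (h : Z ⟶ Y) (w : Y ⟶ U), P Y w → P Z (h ≫ w) := fun Y Z h w hw z => by
    rw [Category.assoc]; exact good_comp f F hfp hfl r h _ hw z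
  have hloc : ∀ (Y : Scheme.{u}) (w : Y ⟶ U), (∀ y : Y, ∃ O : Y.Opens, y ∈ O ∧ P O (O.ι ≫ w)) → P Y w := by
    intro Y w h y
    obtain ⟨O, hy, hO⟩ := h y
    exact good_of_local f F hfp hfl r _ O (fun t => by rw [← Category.assoc]; exact hO t) hy
  have hideal : ∀ W : (U : Scheme.{u}).affineOpens, ∃ I : Ideal Γ(U, W.1), I.FG ∧
      ∀ (R : CommRingCat.{u}) (φ : Γ(U, W.1) ⟶ R),
        P (Spec R) (Spec.map φ ≫ W.2.fromSpec) ↔ I ≤ RingHom.ker φ.hom := by
    intro W
    have hW' : IsAffineOpen (U.ι ''ᵁ W.1) := W.2.image_of_isOpenImmersion U.ι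
    obtain ⟨g, l, hl⟩ := exists_det f F hfp hfl hW'
    haveI := l.finitePresentation_N
    let a := U.ι.appIso W.1
    refine ⟨Ideal.map a.hom.hom ((Finset.range (r + l.n₁)).sup (Fitt.ideal _ l.N)),
      Ideal.FG.map (SplitCoker.fg_sup _) _, fun R φ => ?_⟩
    have he : Spec.map a.hom ≫ hW'.fromSpec = W.2.fromSpec ≫ U.ι := by
      simp only [a, Scheme.Hom.appIso_hom']
      exact IsAffineOpen.SpecMap_appLE_fromSpec U.ι hW' W.2 _
    rw [Ideal.map_le_iff_le_comap, RingHom.comap_ker, ← CommRingCat.hom_comp]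
    refine Iff.trans ?_ (SplitCoker.cond_iff_le_ker _ (fun x => ?_) _)
    · refine Iff.trans ?_ (good_spec_iff f F hfp hfl r hW' g l hl (a.hom ≫ φ))
      rw [Spec.map_comp, Category.assoc, he]
      simp only [P, Category.assoc]
    · obtain ⟨y, hy, rfl⟩ := exists_primeIdealOf hW' x
      rw [l.mu_N hW' hy]
      obtain ⟨z, -, rfl⟩ := hy
      exact Nat.add_le_add_right (show CohIII.fiberRank f F 0 (U.ι z) ≤ r from z.2) _
  choose I hfg hI using hideal
  obtain ⟨Z, j, hj, hker, hZ⟩ := Groth.L13.FixedLocus.exists_closedImmersion_of_ideals P hcomp hloc I hI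
  haveI : LocallyOfFinitePresentation j :=
    Groth.L13.FixedLocus.locallyOfFinitePresentation_of_fg j fun W => (hker W).symm ▸ hfg W
  haveI : QuasiCompact U.ι := by
    rw [quasiCompact_iff_forall_isAffineOpen]
    intro V hV
    rw [U.ι.isOpenEmbedding.isInducing.isCompact_iff]
    convert hcpt V hV using 1
    ext s
    constructor
    · rintro ⟨z, hz, rfl⟩; exact ⟨hz, z.2⟩
    · rintro ⟨h1, h2⟩; exact ⟨⟨s, h2⟩, h1, rfl⟩
  have univ : ∀ (T : Scheme.{u}) (v : T ⟶ S), (∃ v' : T ⟶ Z, v' ≫ j ≫ U.ι = v) ↔ ∀ t, Good f F v r t := by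
    intro T v
    constructor
    · rintro ⟨v', rfl⟩
      have := (hZ T (v' ≫ j)).1 ⟨v', rfl⟩
      intro t
      rw [← Category.assoc]
      exact this t
    · intro h
      let w : T ⟶ U := IsOpenImmersion.lift U.ι v (by
        rintro _ ⟨t, rfl⟩
        rw [Scheme.Opens.range_ι]
        exact (h t).2.le)
      have hw : w ≫ U.ι = v := IsOpenImmersion.lift_fac _ _ _
      obtain ⟨v', hv'⟩ := (hZ T w).2 (fun t => by rw [hw]; exact h t)
      exact ⟨v', by rw [← Category.assoc, hv', hw]⟩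
  refine ⟨Z, j ≫ U.ι, inferInstance, inferInstance, inferInstance,
    fun T XT v fT gT pb => (univ T v).trans (bcFree_iff_good f F hfp hfl r v pb).symm, Set.ext fun s => ⟨?_, fun hs => ?_⟩⟩
  · rintro ⟨z, rfl⟩
    exact ((univ Z (j ≫ U.ι)).1 ⟨𝟙 Z, Category.id_comp _⟩ z).2
  · obtain ⟨v', hv'⟩ := (univ _ (S.fromSpecResidueField s)).2 fun t => by
      obtain ⟨_, ⟨V, hV, rfl⟩, hsV, -⟩ :=
        S.isBasis_affineOpens.exists_subset_of_mem_open (Set.mem_univ s) isOpen_univ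
      obtain ⟨g, l, hl⟩ := exists_det f F hfp hfl hV
      haveI := l.finitePresentation_N
      have hb : Spec.map (S.evaluation V s hsV) ≫ hV.fromSpec = S.fromSpecResidueField s := by
        rw [← Scheme.germ_residue, Spec.map_comp, Category.assoc]
        exact congrArg (Spec.map (S.residue s) ≫ ·) (hV.fromSpecStalk_eq_fromSpecStalk hsV)
      rw [← hb]
      refine (good_spec_iff f F hfp hfl r hV g l hl (S.evaluation V s hsV)).2 ?_ t
      letI : Algebra Γ(S, V) (S.residueField s) := (S.evaluation V s hsV).hom.toAlgebra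
      show Cond (algebraMap Γ(S, V) (S.residueField s)) l.N (r + l.n₁)
      rw [SplitCoker.cond_iff]
      refine ⟨inferInstance, fun x => ?_⟩
      obtain rfl : x = ⊥ := Subsingleton.elim _ _
      rw [show PrimeSpectrum.comap (algebraMap Γ(S, V) (S.residueField s)) ⊥ = hV.primeIdealOf ⟨s, hsV⟩ from
        comap_evaluation hV hsV, l.mu_N hV hsV, show CohIII.fiberRank f F 0 s = r from hs]
    exact ⟨v' (IsLocalRing.closedPoint _), by rw [← Scheme.Hom.comp_apply, hv', Scheme.fromSpecResidueField_apply]⟩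

end Groth.L17.BC.Classes
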