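import Groth.Agent.L17.BC.Exchange

/-!
# Global sections are degree zero cohomology, linearly and naturally
-/

set_option autoImplicit false
set_option linter.style.haveILetI false
set_option linter.unusedSectionVars false
set_option backward.isDefEq.respectTransparency false

universe u

open CategoryTheory CategoryTheory.Limits AlgebraicGeometry Opposite

noncomputable section

namespace Groth.L17.BC.Exchange

variable {A : Type u} [CommRing A] {X : Scheme.{u}} [X.Over (Spec (CommRingCat.of A))]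

/-- Degree zero cohomology is global sections, additively. -/
def H0Γ (M : X.Modules) : Coh.HH X M 0 ≃+ (CohIII.globalSectionsA A).obj M :=
  Sheaf.H.equiv₀ (Coh.toAb M) (Limits.isTerminalTop : Limits.IsTerminal (⊤ : TopologicalSpace.Opens X))

theorem H0Γ_natural {M N : X.Modules} (φ : M ⟶ N) (x : Coh.HH X M 0) :
    H0Γ (A := A) N ((CohIII.HAb X 0).map φ x) = (CohIII.globalSectionsA A).map φ (H0Γ (A := A) M x) :=
  (Sheaf.H.equiv₀_naturality _ _ _).symm

theorem H0Γ_smul (M : X.Modules) (a : A) (x : Coh.HH X M 0) :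
    H0Γ (A := A) M (a • x) = a • H0Γ (A := A) M x := by
  refine ((congrArg (H0Γ (A := A) M) (Groth.L16.Rees.hmap_smulMod (A := A) (M := M) a 0 x).symm).trans
    (H0Γ_natural (A := A) (Formal.smulMod A M a) x)).trans ?_
  generalize H0Γ (A := A) M x = s
  show (Formal.smulModΓ M _).app ⊤ s = _
  rw [Groth.L16.Rees.smulModΓ_app]
  exact congrArg (fun c : Γ(X, ⊤) => c • (show Γ(M, ⊤) from s))
    (Groth.L18.Frame.ro_self (le_rfl : (⊤ : X.Opens) ≤ ⊤) _)

/-- Global sections, linearly. -/
def H0ΓLin (M : X.Modules) : Coh.HH X M 0 ≃ₗ[A] (CohIII.globalSectionsA A).obj M :=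
  { H0Γ (A := A) M with map_smul' := H0Γ_smul M }

theorem nonempty_gammaIso {F : X.Modules} {S : ModuleCat.{u} A ⥤ ModuleCat.{u} A} [S.Additive] [S.Linear A]
    (e : CohIII.tensorAFunctor A F ⋙ CohIII.HAb X 0 ≅ S ⋙ forget₂ (ModuleCat.{u} A) AddCommGrpCat.{u}) :
    Nonempty (CohIII.tensorAFunctor A F ⋙ CohIII.globalSectionsA A ≅ S) := by
  refine ⟨NatIso.ofComponents (fun M => ((H0ΓLin _).symm.trans (linEquiv e M)).toModuleIso) fun {M N} g => ?_⟩
  refine ModuleCat.hom_ext (LinearMap.ext fun y => ?_)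
  obtain ⟨x, rfl⟩ := (H0ΓLin (A := A) ((CohIII.tensorAFunctor A F).obj M)).surjective y
  show eApp e N ((H0Γ (A := A) _).symm ((CohIII.globalSectionsA A).map _ (H0Γ (A := A) _ x))) =
    (S.map g).hom (eApp e M ((H0Γ (A := A) _).symm (H0Γ (A := A) _ x)))
  rw [← H0Γ_natural, AddEquiv.symm_apply_apply, AddEquiv.symm_apply_apply]
  exact eApp_natural e g x

end Groth.L17.BC.Exchange
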