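import Groth.Agent.L17.BC.ClassComp
import Groth.Agent.L17.BC.Delta
import Groth.Agent.L17.PushQCoh
import Groth.Agent.L17.PushMV
import Groth.Agent.L00.StalkFunctor

/-!
# Base change maps of composed squares
-/

set_option autoImplicit false
set_option linter.style.haveILetI false
set_option linter.unusedSectionVars false
set_option backward.isDefEq.respectTransparency false
set_option backward.isDefEq.respectTransparency.types false

universe u

open CategoryTheory CategoryTheory.Limits AlgebraicGeometry TopologicalSpace Opposite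

noncomputable section

namespace Groth.L17.BC.GenBCComp

open Groth.L18.Frame (rs rs_rs pull)

/-- Preimages of the values of an epimorphism exist locally. -/
theorem exists_local {Y : Scheme.{u}} {M N : Y.Modules} (φ : M ⟶ N) [Epi φ] {V : Y.Opens} (t : Γ(N, V))
    {y : Y} (hy : y ∈ V) :
    ∃ (W : Y.Opens) (hW : W ≤ V) (_ : y ∈ W) (s : Γ(M, W)), φ.app W s = rs N hW t := by
  obtain ⟨z, hz⟩ := (ModuleCat.epi_iff_surjective _).1 (inferInstance : Epi ((Groth.L00.Stk.F Y y).map φ))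
    (N.presheaf.germ V y hy t)
  obtain ⟨W₀, hW₀, s, rfl⟩ := M.presheaf.exists_germ_eq (x := y) z
  rw [show ((Groth.L00.Stk.F Y y).map φ).hom (M.presheaf.germ W₀ y hW₀ s) = N.presheaf.germ W₀ y hW₀ (φ.app W₀ s)
    from DerSch.stalkFunctor_map_germ y φ W₀ hW₀ s] at hz
  obtain ⟨W, hW, i, j, h⟩ := TopCat.Presheaf.germ_eq N.presheaf y hW₀ hy _ _ hz
  exact ⟨W, j.le, hW, rs M i.le s, (PullSec.app_rs φ i.le s).trans h⟩

section Surj

variable {X Y : Scheme.{u}} (f : X ⟶ Y) [HasInjectiveResolutions X.Modules]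
  {Δ : RDer.DerivedLES (Scheme.Modules.pushforward f)} (E : CohCmp.SectCmp f Δ)

/-- Sections of higher direct images are locally classes. -/
theorem exists_local_ε : ∀ (p : ℕ) (F : X.Modules) (V : Y.Opens) (t : Γ((Coh.Rpush f p).obj F, V)) (y : Y),
    y ∈ V → ∃ (W : Y.Opens) (hW : W ≤ V) (_ : y ∈ W) (x : Coh.HHon X F (f ⁻¹ᵁ W) p),
      E.ε W F p x = rs _ hW t := by
  intro p
  induction p with
  | zero =>
    intro F V t y hy
    obtain ⟨s, rfl⟩ := Delta.exists_toRightDerivedZero f F V t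
    exact ⟨V, le_rfl, hy, _, (E.zero V F s).trans (Groth.L18.Frame.rs_self _ _ _).symm⟩
  | succ p ih =>
    intro F V t y hy
    let S := Godement.S F
    have hS := Godement.shortExact_S F
    have hz : IsZero ((Coh.Rpush f (p + 1)).obj S.X₂) :=
      Groth.L17.PushQCoh.isZero_Rpush_of_flasque f _ (Godement.isFlasque_God F) p
    haveI : Epi (Δ.δ S hS p (p + 1) rfl) :=
      (Δ.exact₁ S hS p (p + 1) rfl).epi_f (hz.eq_of_tgt _ _)
    obtain ⟨W₁, hW₁, hy₁, s, hs⟩ := exists_local (Δ.δ S hS p (p + 1) rfl) t hy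
    obtain ⟨W, hW, hyW, x, hx⟩ := ih S.X₃ W₁ s y hy₁
    refine ⟨W, hW.trans hW₁, hyW, _,
      (E.delta W S hS (PullClass.shortExact_toAbOn _ hS) p x).trans ?_⟩
    rw [hx]
    exact (PullSec.app_rs _ hW s).trans ((congrArg (rs _ hW) hs).trans (rs_rs _ _ _ t))

/-- Maps out of higher direct images are determined by their values on classes. -/
theorem hom_ext_ε {p : ℕ} {F : X.Modules} {N : Y.Modules} {a b : (Coh.Rpush f p).obj F ⟶ N}
    (h : ∀ (V : Y.Opens) (x : Coh.HHon X F (f ⁻¹ᵁ V) p), a.app V (E.ε V F p x) = b.app V (E.ε V F p x)) :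
    a = b := by
  refine Scheme.Modules.hom_ext _ _ fun V => ConcreteCategory.hom_ext _ _ fun t => ?_
  refine TopCat.Presheaf.section_ext ⟨N.presheaf, Scheme.Modules.isSheaf N⟩ V _ _ fun y hy => ?_
  obtain ⟨W, hW, hyW, x, hx⟩ := exists_local_ε f E p F V t y hy
  show N.presheaf.germ V y hy _ = N.presheaf.germ V y hy _
  rw [← Groth.L20.ModStalk.germ_rs N hW hyW (a.app V t), ← Groth.L20.ModStalk.germ_rs N hW hyW (b.app V t),
    ← PullSec.app_rs, ← PullSec.app_rs, ← hx, h]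

end Surj

theorem bc_pull {S S' X X' : Scheme.{u}} {f : X ⟶ S} {g : S' ⟶ S} {f' : X' ⟶ S'} {g' : X' ⟶ X}
    {w : g' ≫ f = f' ≫ g} [HasInjectiveResolutions X.Modules] [HasInjectiveResolutions X'.Modules]
    {Δ : RDer.DerivedLES (Scheme.Modules.pushforward f)} {Δ' : RDer.DerivedLES (Scheme.Modules.pushforward f')}
    {E : CohCmp.SectCmp f Δ} {E' : CohCmp.SectCmp f' Δ'} (B : CohCmp.GenBC f g f' g' w E E')
    (p : ℕ) (F : X.Modules) (V : S.Opens) (t : Γ((Coh.Rpush f p).obj F, V)) :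
    (B.bc p F).app (g ⁻¹ᵁ V) (pull g _ V t) = (B.φ p F).app V t := by
  have h := ((Scheme.Modules.pullbackPushforwardAdjunction g).homEquiv _ _).apply_symm_apply (B.φ p F)
  rw [Adjunction.homEquiv_unit] at h
  exact congr($(congrArg (fun k => Scheme.Modules.Hom.app k V) h) t)

variable {X Y Z U V W : Scheme.{u}} (f : X ⟶ Y) (g : Y ⟶ Z) (ξ : X ⟶ U) (η : Y ⟶ V) (ζ : Z ⟶ W)
    (φ : U ⟶ V) (ψ : V ⟶ W)
    [HasInjectiveResolutions X.Modules] [HasInjectiveResolutions Y.Modules] [HasInjectiveResolutions Z.Modules]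
    {Δζ : RDer.DerivedLES (Scheme.Modules.pushforward ζ)} {Δη : RDer.DerivedLES (Scheme.Modules.pushforward η)}
    {Δξ : RDer.DerivedLES (Scheme.Modules.pushforward ξ)}
    (Eζ : CohCmp.SectCmp ζ Δζ) (Eη : CohCmp.SectCmp η Δη) (Eξ : CohCmp.SectCmp ξ Δξ)
    {w₂ : g ≫ ζ = η ≫ ψ} {w₁ : f ≫ η = ξ ≫ φ} {hw : (f ≫ g) ≫ ζ = ξ ≫ (φ ≫ ψ)}
    (B₂ : CohCmp.GenBC ζ ψ η g w₂ Eζ Eη) (B₁ : CohCmp.GenBC η φ ξ f w₁ Eη Eξ)
    (B : CohCmp.GenBC ζ (φ ≫ ψ) ξ (f ≫ g) hw Eζ Eξ)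

/-- The base change map of a composed square. -/
theorem bc_comp (L : Z.Modules) (p : ℕ) :
    (Scheme.Modules.pullbackComp φ ψ).hom.app ((Coh.Rpush ζ p).obj L) ≫ B.bc p L =
      (Scheme.Modules.pullback φ).map (B₂.bc p L) ≫ B₁.bc p ((Scheme.Modules.pullback g).obj L) ≫
        (Coh.Rpush ξ p).map ((Scheme.Modules.pullbackComp f g).hom.app L) := by
  let m : (Scheme.Modules.pullback f).obj ((Scheme.Modules.pullback g).obj L) ⟶
      (Scheme.Modules.pullback (f ≫ g)).obj L := (Scheme.Modules.pullbackComp f g).hom.app L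
  apply (((Scheme.Modules.pullbackPushforwardAdjunction ψ).comp
    (Scheme.Modules.pullbackPushforwardAdjunction φ)).homEquiv _ _).injective
  refine hom_ext_ε ζ Eζ fun T x => ?_
  let t := Eζ.ε T L p x
  let c : (Scheme.Modules.pullback φ).obj ((Scheme.Modules.pullback ψ).obj ((Coh.Rpush ζ p).obj L)) ⟶
      (Scheme.Modules.pullback (φ ≫ ψ)).obj ((Coh.Rpush ζ p).obj L) :=
    (Scheme.Modules.pullbackComp φ ψ).hom.app ((Coh.Rpush ζ p).obj L)
  show (B.bc p L).app _ (c.app _ (pull φ _ (ψ ⁻¹ᵁ T) (pull ψ _ T t))) =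
    ((Coh.Rpush ξ p).map m).app _ ((B₁.bc p _).app _
      (((Scheme.Modules.pullback φ).map (B₂.bc p L)).app _ (pull φ _ (ψ ⁻¹ᵁ T) (pull ψ _ T t))))
  rw [show c.app _ (pull φ _ (ψ ⁻¹ᵁ T) (pull ψ _ T t)) = pull (φ ≫ ψ) _ T t from
    PullSec.comp_pull φ ψ _ T t, PullSec.map_pull, bc_pull B₂, bc_pull B₁]
  refine (bc_pull B p L T t).trans ?_
  rw [B.compat T L p x, B₂.compat T L p x, B₁.compat (ψ ⁻¹ᵁ T) _ p _, ← Eξ.natural]
  exact congrArg _ (ClassComp.pullOn_comp f g (ζ ⁻¹ᵁ T) (η ⁻¹ᵁ (ψ ⁻¹ᵁ T)) (ξ ⁻¹ᵁ ((φ ≫ ψ) ⁻¹ᵁ T))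
    (CohCmp.sqLE ζ ψ η g w₂ T) (CohCmp.sqLE η φ ξ f w₁ (ψ ⁻¹ᵁ T))
    (CohCmp.sqLE ζ (φ ≫ ψ) ξ (f ≫ g) hw T) p L x).symm

end Groth.L17.BC.GenBCComp
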