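import Groth.Agent.L17.BC.Efface
import Groth.Prelude.Def_DerSch
import Mathlib.Algebra.Category.ModuleCat.Presheaf

/-!
# The Godement module of a sheaf of modules
-/

set_option autoImplicit false
set_option linter.style.haveILetI false
set_option linter.unusedSectionVars false
set_option backward.isDefEq.respectTransparency false
set_option backward.isDefEq.respectTransparency.types false

universe u

open CategoryTheory CategoryTheory.Limits AlgebraicGeometry TopologicalSpace Opposite

noncomputable section

namespace Groth.L17.BC.Godement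

variable {X : Scheme.{u}} (M : X.Modules)

/-- Families of germs. -/
abbrev Sec (U : X.Opens) : Type u := (x : U) → M.presheaf.stalk (x : X)

instance secModule (U : X.Opens) : Module (X.presheaf.obj (op U)) (Sec M U) where
  smul r s := fun x => X.presheaf.germ U x.1 x.2 r • s x
  one_smul s := funext fun x => by
    change X.presheaf.germ U x.1 x.2 (1 : X.presheaf.obj (op U)) • s x = _
    rw [map_one, one_smul]
  mul_smul r r' s := funext fun x => by
    change X.presheaf.germ U x.1 x.2 (r * r') • s x = _
    rw [map_mul, mul_smul]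
    rfl
  smul_zero r := funext fun x => smul_zero (X.presheaf.germ U x.1 x.2 r)
  smul_add r s t := funext fun x => smul_add (X.presheaf.germ U x.1 x.2 r) (s x) (t x)
  add_smul r r' s := funext fun x => by
    change X.presheaf.germ U x.1 x.2 (r + r') • s x = _
    rw [map_add, add_smul]
    rfl
  zero_smul s := funext fun x => by
    change X.presheaf.germ U x.1 x.2 (0 : X.presheaf.obj (op U)) • s x = _
    rw [map_zero, zero_smul]
    rfl

/-- The presheaf of families of germs. -/
def abPre : (TopologicalSpace.Opens X)ᵒᵖ ⥤ AddCommGrpCat.{u} where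
  obj U := AddCommGrpCat.of (Sec M U.unop)
  map {U V} i := AddCommGrpCat.ofHom
    { toFun := fun s x => s ⟨x.1, i.unop.le x.2⟩
      map_zero' := rfl
      map_add' := fun _ _ => rfl }

instance (U : (TopologicalSpace.Opens X)ᵒᵖ) :
    Module ((X.presheaf ⋙ forget₂ CommRingCat RingCat).obj U) ((abPre M).obj U) :=
  secModule M U.unop

theorem abPre_map_smul ⦃U V : (TopologicalSpace.Opens X)ᵒᵖ⦄ (i : U ⟶ V)
    (r : (X.presheaf ⋙ forget₂ CommRingCat RingCat).obj U) (m : (abPre M).obj U) :
    (abPre M).map i (r • m) = (X.presheaf ⋙ forget₂ CommRingCat RingCat).map i r • (abPre M).map i m := by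
  funext x
  change X.presheaf.germ U.unop x.1 (i.unop.le x.2) r • m ⟨x.1, i.unop.le x.2⟩ =
    X.presheaf.germ V.unop x.1 x.2 (X.presheaf.map i r) • m ⟨x.1, i.unop.le x.2⟩
  rw [show i = i.unop.op from rfl, TopCat.Presheaf.germ_res_apply]

theorem abPre_isSheaf : TopCat.Presheaf.IsSheaf (X := X.toTopCat) (abPre M) := by
  rw [TopCat.Presheaf.isSheaf_iff_isSheafUniqueGluing]
  intro ι U sf hc
  classical
  let s : Sec M (iSup U) := fun x =>
    sf (Opens.mem_iSup.1 x.2).choose ⟨x.1, (Opens.mem_iSup.1 x.2).choose_spec⟩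
  refine ⟨s, fun i => funext fun x => ?_, fun t ht => funext fun x => ?_⟩
  · exact congrFun (hc _ i) ⟨x.1, ⟨(Opens.mem_iSup.1 ((Opens.leSupr U i).le x.2)).choose_spec, x.2⟩⟩
  · exact congrFun (ht (Opens.mem_iSup.1 x.2).choose) ⟨x.1, (Opens.mem_iSup.1 x.2).choose_spec⟩

/-- The Godement module. -/
def God : X.Modules :=
  { val := PresheafOfModules.ofPresheaf (R := X.presheaf ⋙ forget₂ CommRingCat RingCat) (abPre M) (abPre_map_smul M)
    isSheaf := abPre_isSheaf M }

/-- The canonical map. -/
def toGod : M ⟶ God M :=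
  ⟨PresheafOfModules.homMk
    { app := fun U => AddCommGrpCat.ofHom
        { toFun := fun m => (fun x => M.presheaf.germ U.unop x.1 x.2 m : Sec M U.unop)
          map_zero' := funext fun x => map_zero _
          map_add' := fun a b => funext fun x => map_add _ _ _ }
      naturality := fun U V i => by
        refine AddCommGrpCat.hom_ext (AddMonoidHom.ext fun m => funext fun x => ?_)
        exact TopCat.Presheaf.germ_res_apply M.presheaf i.unop x.1 x.2 m }
    (fun U r m => funext fun x => Groth.L20.ModStalk.germ_smul M x.2 r m)⟩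

theorem toGod_app (U : X.Opens) (m : Γ(M, U)) (x : U) :
    ((toGod M).app U m : Sec M U) x = M.presheaf.germ U x.1 x.2 m := rfl

theorem isFlasque_God : TopCat.Sheaf.IsFlasque (Coh.toAb (God M)) := by
  classical
  refine ⟨fun {U V} i => (AddCommGrpCat.epi_iff_surjective _).2 fun s => ?_⟩
  exact ⟨(fun x => if h : x.1 ∈ V.unop then (s : Sec M V.unop) ⟨x.1, h⟩ else 0 : Sec M U.unop),
    funext fun x => dif_pos x.2⟩

/-- Sections on image opens. -/
theorem isFlasque_God_restrict {X' : Scheme.{u}} (ι : X' ⟶ X) [IsOpenImmersion ι] :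
    TopCat.Sheaf.IsFlasque (Coh.toAb ((God M).restrict ι)) := by
  haveI := isFlasque_God M
  exact ⟨fun {U V} i => TopCat.Presheaf.IsFlasque.epi (F := (Coh.toAb (God M)).obj)
    (ι.opensFunctor.map i.unop).op⟩

/-- Evaluation at a point on germs. -/
def evalNT (y : X) : (OpenNhds.inclusion y).op ⋙ (God M).presheaf ⟶
    (Functor.const _).obj (M.presheaf.stalk y) where
  app U := AddCommGrpCat.ofHom
    { toFun := fun (s : Sec M U.unop.1) => s ⟨y, U.unop.2⟩
      map_zero' := rfl
      map_add' := fun _ _ => rfl }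
  naturality U V i := rfl

/-- Evaluation at a point on the stalk. -/
def evalStalk (y : X) : (God M).presheaf.stalk y →+ M.presheaf.stalk y :=
  (colimit.desc _ { pt := M.presheaf.stalk y, ι := evalNT M y }).hom

theorem evalStalk_germ {U : X.Opens} {y : X} (hy : y ∈ U) (s : Γ(God M, U)) :
    evalStalk M y ((God M).presheaf.germ U y hy s) = (s : Sec M U) ⟨y, hy⟩ :=
  ConcreteCategory.congr_hom (colimit.ι_desc { pt := M.presheaf.stalk y, ι := evalNT M y } (op ⟨U, hy⟩)) s

theorem evalStalk_smul (y : X) (c : X.presheaf.stalk y) (m : (God M).presheaf.stalk y) :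
    evalStalk M y (c • m) = c • evalStalk M y m := by
  obtain ⟨U, hU, s, rfl⟩ := (God M).presheaf.exists_germ_eq (x := y) m
  obtain ⟨V, hV, a, rfl⟩ := X.presheaf.exists_germ_eq (x := y) c
  have hUV : y ∈ U ⊓ V := ⟨hU, hV⟩
  rw [← Groth.L20.ModStalk.germ_rs (God M) (inf_le_left : U ⊓ V ≤ U) hUV s,
    ← TopCat.Presheaf.germ_res_apply X.presheaf (homOfLE inf_le_right : U ⊓ V ⟶ V) y hUV a,
    ← Groth.L20.ModStalk.germ_smul (God M) hUV, evalStalk_germ, evalStalk_germ]
  rfl

theorem stalkSplit_toGod : Groth.L17.BC.Efface.StalkSplit (toGod M) := fun y => by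
  refine IsSplitMono.mk' ⟨ModuleCat.ofHom
    { toFun := evalStalk M y, map_add' := map_add _, map_smul' := evalStalk_smul M y }, ?_⟩
  refine ModuleCat.hom_ext (LinearMap.ext fun z => ?_)
  obtain ⟨U, hU, m, rfl⟩ := M.presheaf.exists_germ_eq (x := y) z
  exact (congrArg (evalStalk M y) (DerSch.stalkFunctor_map_germ y (toGod M) U hU m)).trans (evalStalk_germ M hU _)

/-- The short exact sequence. -/
def S : ShortComplex X.Modules := ShortComplex.mk (toGod M) (cokernel.π _) (cokernel.condition _)

theorem shortExact_S : (S M).ShortExact := by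
  haveI := Groth.L17.BC.Efface.mono_of_stalkSplit (stalkSplit_toGod M)
  exact { exact := ShortComplex.exact_of_g_is_cokernel _ (cokernelIsCokernel _)
          mono_f := ‹_›
          epi_g := inferInstanceAs (Epi (cokernel.π _)) }

theorem shortExact_pullback_S {X' : Scheme.{u}} (g : X' ⟶ X) : ((S M).map (Scheme.Modules.pullback g)).ShortExact :=
  Groth.L17.BC.Efface.shortExact_pullback (shortExact_S M) (stalkSplit_toGod M) g

end Groth.L17.BC.Godement
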