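import Groth.Agent.L17.BC.LocFree
import Groth.Agent.L17.BC.Criteria

/-!
# Locally constant fibre dimension over a reduced base
-/

set_option autoImplicit false
set_option linter.style.haveILetI false
set_option linter.unusedSectionVars false
set_option backward.isDefEq.respectTransparency false

universe u

open CategoryTheory CategoryTheory.Limits AlgebraicGeometry TopologicalSpace Opposite
open scoped TensorProduct

noncomputable section

namespace Groth.L17.BC.Classes

open Groth.L01.FlatCx (mu Coker dd)

/-- A differential with projective cokernel is split everywhere. -/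
theorem splitAt_of_projective_coker {A : Type u} [CommRing A] {P P₂ : Type u} [AddCommGroup P] [Module A P]
    [AddCommGroup P₂] [Module A P₂] [Module.Free A P₂] (d : P →ₗ[A] P₂)
    [Module.Projective A (P₂ ⧸ LinearMap.range d)] (x : PrimeSpectrum A) : SplitAt d x := by
  obtain ⟨s, hs⟩ := Module.projective_lifting_property (LinearMap.range d).mkQ LinearMap.id
    (Submodule.mkQ_surjective _)
  let e : P₂ →ₗ[A] LinearMap.range d := LinearMap.codRestrict _ (LinearMap.id - s ∘ₗ (LinearMap.range d).mkQ)
    fun v => by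
      rw [← Submodule.Quotient.mk_eq_zero]
      show (LinearMap.range d).mkQ (v - s ((LinearMap.range d).mkQ v)) = 0
      rw [map_sub, show (LinearMap.range d).mkQ (s ((LinearMap.range d).mkQ v)) = (LinearMap.range d).mkQ v from
        LinearMap.congr_fun hs _, sub_self]
  obtain ⟨σ, hσ⟩ := Module.projective_lifting_property d.rangeRestrict e d.surjective_rangeRestrict
  refine ⟨1, σ, fun h => x.2.ne_top ((Ideal.eq_top_iff_one _).2 h), fun v => ?_⟩
  have h1 : d (σ (d v)) = e (d v) := congrArg Subtype.val (LinearMap.congr_fun hσ (d v))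
  rw [h1, one_smul]
  simp [e, show (LinearMap.range d).mkQ (d v) = 0 from (Submodule.Quotient.mk_eq_zero _).2 ⟨v, rfl⟩]

variable {X S : Scheme.{u}} {f : X ⟶ S} [IsProper f] [LocallyOfFinitePresentation f]
  [HasInjectiveResolutions X.Modules] {F : X.Modules} [Coh.IsQCoh F]
  {V : S.Opens} (hV : IsAffineOpen V) (l : FreeBC f (V := V) F)

/-- Over a reduced base a locally constant fibre dimension splits the two neighbouring differentials. -/
theorem FreeBC.split_of_isLocallyConstant [IsReduced S] (p : ℕ)
    (h : IsLocallyConstant (CohIII.fiberRank f F p)) {y : S} (hy : y ∈ V) :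
    l.Split hV p hy ∧ SplitAt (l.L.d ((p : ℤ) - 1) p).hom (hV.primeIdealOf ⟨y, hy⟩) := by
  haveI : _root_.IsReduced Γ(S, V) := IsReduced.component_reduced V
  haveI := fun i => l.finite i
  haveI := fun i => l.free i
  haveI : ∀ i, Module.FinitePresentation Γ(S, V) (l.L.X i) := fun i => Module.finitePresentation_of_projective _ _
  have hd : IsLocallyConstant (CohIII.dRank l.L (p : ℤ)) := by
    have e : CohIII.dRank l.L (p : ℤ) = CohIII.fiberRank f F p ∘ hV.fromSpec := funext fun x => by
      have hx : hV.fromSpec x ∈ V := hV.opensRange_fromSpec.le ⟨x, rfl⟩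
      show _ = CohIII.fiberRank f F p (hV.fromSpec x)
      rw [l.rank_eq hV _ hx p]
      exact congrArg _ (hV.fromSpec.isOpenEmbedding.injective (hV.fromSpec_primeIdealOf ⟨_, hx⟩).symm)
    rw [e]
    exact h.comp_continuous hV.fromSpec.continuous
  have hr : IsLocallyConstant (mu (A := Γ(S, V)) (l.L.X ((p : ℤ) + 1))) := Groth.L01.FlatCx.isLocallyConstant_mu _
  have key := fun x => Groth.L01.FlatCx.dRank_add_mu l.L (i := (p : ℤ) - 1) (j := (p : ℤ)) (l := (p : ℤ) + 1)
    (CochainComplex.prev ℤ _) (CochainComplex.next ℤ _) x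
  have hc : ∀ z, (∀ᶠ x in nhds z, mu (A := Γ(S, V)) (Coker l.L ((p : ℤ) - 1) p) x =
        mu (A := Γ(S, V)) (Coker l.L ((p : ℤ) - 1) p) z) ∧
      ∀ᶠ x in nhds z, mu (A := Γ(S, V)) (Coker l.L (p : ℤ) (p + 1)) x = mu (A := Γ(S, V)) (Coker l.L (p : ℤ) (p + 1)) z := by
    intro z
    rw [IsLocallyConstant.iff_eventually_eq] at hd hr
    refine Groth.L01.FlatCx.eventually_eq_of_add (Groth.L01.FlatCx.mu_eventually_le _ z)
      (Groth.L01.FlatCx.mu_eventually_le _ z) ?_
    filter_upwards [hd z, hr z] with x e1 e2
    have := key x; have := key z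
    omega
  haveI : Module.Flat Γ(S, V) (Coker l.L ((p : ℤ) - 1) p) := Groth.L01.FlatCx.flat_of_isLocallyConstant _
    ((IsLocallyConstant.iff_eventually_eq _).mpr fun z => (hc z).1)
  haveI : Module.Flat Γ(S, V) (Coker l.L (p : ℤ) (p + 1)) := Groth.L01.FlatCx.flat_of_isLocallyConstant _
    ((IsLocallyConstant.iff_eventually_eq _).mpr fun z => (hc z).2)
  haveI : Module.FinitePresentation Γ(S, V) (Coker l.L ((p : ℤ) - 1) p) :=
    Module.finitePresentation_of_surjective _ (Submodule.mkQ_surjective _) (by
      rw [Submodule.ker_mkQ]; exact Module.Finite.iff_fg.1 inferInstance)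
  haveI : Module.FinitePresentation Γ(S, V) (Coker l.L (p : ℤ) (p + 1)) :=
    Module.finitePresentation_of_surjective _ (Submodule.mkQ_surjective _) (by
      rw [Submodule.ker_mkQ]; exact Module.Finite.iff_fg.1 inferInstance)
  haveI : Module.Projective Γ(S, V) (Coker l.L ((p : ℤ) - 1) p) := Module.Flat.projective_of_finitePresentation
  haveI : Module.Projective Γ(S, V) (Coker l.L (p : ℤ) (p + 1)) := Module.Flat.projective_of_finitePresentation
  exact ⟨splitAt_of_projective_coker _ _, splitAt_of_projective_coker _ _⟩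

end Groth.L17.BC.Classes
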