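import Groth.Agent.L18.ExtendQCoh

/-!
# Tensoring with a frame is bijective; sections of large twists see the non-vanishing locus
-/

set_option autoImplicit false
set_option linter.style.haveILetI false
set_option backward.isDefEq.respectTransparency false

universe u

open CategoryTheory MonoidalCategory AlgebraicGeometry TopologicalSpace Opposite
open scoped TensorProduct

noncomputable section

namespace Groth.L17.BC.TwistFrame

open Groth.L18.Frame (rs ro rs_rs rs_self rs_smul ro_ro ro_self IsFrame)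
open Groth.L18.GenLoc
open Groth.L18.Ample
open Groth.L00.Tensor (pre)

variable {X : Scheme.{u}} {L N : X.Modules}

theorem bijective_tens {W : X.Opens} {ε : Γ(L, W)} (hε : IsFrame L W ε) (V : X.Opens) (h : V ≤ W) :
    Function.Bijective fun m : Γ(N, V) => tens N L V m (rs L h ε) := by
  let P := pre N ⊗ pre L
  let η := Groth.L00.Tensor.unit P
  let g : ∀ (V : X.Opens), V ≤ W → Γ(N, V) → P.obj (op V) := fun V h m =>
    (show (pre N).obj (op V) from m) ⊗ₜ[X.sheaf.obj.obj (op V)] (show (pre L).obj (op V) from rs L h ε)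
  have hg : ∀ (V V' : X.Opens) (h : V ≤ W) (i : V' ⟶ V) (m : Γ(N, V)),
      Groth.L00.Tensor.rs P i.op (g V h m) = g V' (i.le.trans h) (rs N i.le m) := by
    intro V V' h i m
    show (show (pre N).obj (op V') from rs N i.le m) ⊗ₜ[X.sheaf.obj.obj (op V')]
      (show (pre L).obj (op V') from rs L i.le (rs L h ε)) = _
    rw [rs_rs]
  have hP : ∀ (V : X.Opens) (h : V ≤ W), Function.Bijective (g V h) := by
    intro V h
    let eL : X.sheaf.obj.obj (op V) ≃ₗ[X.sheaf.obj.obj (op V)] (pre L).obj (op V) :=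
      LinearEquiv.ofBijective (LinearMap.toSpanSingleton _ _ (show (pre L).obj (op V) from rs L h ε)) (hε V h)
    let φ := (TensorProduct.rid (X.sheaf.obj.obj (op V)) ((pre N).obj (op V))).symm.trans
      (TensorProduct.congr (LinearEquiv.refl _ _) eL)
    have hφ : ∀ m, φ m = g V h m := fun m => by simp [φ, g, eL]
    exact (funext hφ : ⇑φ = g V h) ▸ φ.bijective
  have hkey : ∀ (V : X.Opens) (h : V ≤ W) (m : Γ(N, V)), tens N L V m (rs L h ε) = η.app (op V) (g V h m) :=
    fun _ _ _ => rfl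
  have hW := ((Opens.grothendieckTopology X).W_iff_isLocallyBijective _).1 (Groth.L00.Tensor.Wp_unit P)
  let ON : TopCat.Sheaf Ab.{u} X.toTopCat := ⟨N.presheaf, N.isSheaf⟩
  have inj : ∀ (V : X.Opens) (h : V ≤ W), Function.Injective fun m : Γ(N, V) => tens N L V m (rs L h ε) := by
    intro V h a b hab
    simp only [hkey] at hab
    haveI := hW.1
    obtain ⟨S, hS, hS'⟩ := Groth.L00.Tensor.local_eq (J := Opens.grothendieckTopology X) η _ _ hab
    choose V' i hi hxV' using fun x : V => hS x.1 x.2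
    refine ON.eq_of_locally_eq' V' V (fun x => i x) (fun x hx => Opens.mem_iSup.mpr ⟨⟨x, hx⟩, hxV' ⟨x, hx⟩⟩)
      a b fun x => ?_
    show rs N (i x).le a = rs N (i x).le b
    refine (hP (V' x) ((i x).le.trans h)).1 ?_
    rw [← hg V (V' x) h (i x), ← hg V (V' x) h (i x)]
    exact hS' (i x) (hi x)
  refine ⟨inj V h, fun y => ?_⟩
  haveI := hW.2
  obtain ⟨S, hS, hS'⟩ := Groth.L00.Tensor.exists_local (J := Opens.grothendieckTopology X) η (U := op V) y
  choose V' i hi hxV' using fun x : V => hS x.1 x.2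
  choose p hp using fun x : V => hS' (i x) (hi x)
  choose a ha using fun x : V => (hP (V' x) ((i x).le.trans h)).2 (p x)
  have hc : V ≤ ⨆ x, V' x := fun x hx => Opens.mem_iSup.mpr ⟨⟨x, hx⟩, hxV' ⟨x, hx⟩⟩
  have hva : ∀ x, tens N L (V' x) (a x) (rs L ((i x).le.trans h) ε) = rs (CohB1.tensorMod N L) (i x).le y :=
    fun x => by
    rw [hkey]
    exact (congrArg (η.app (op (V' x))) (ha x)).trans (hp x)
  obtain ⟨c, hcs, -⟩ := ON.existsUnique_gluing' V' V (fun x => i x) hc a fun x z => by
    show rs N inf_le_left (a x) = rs N inf_le_right (a z)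
    have hle : V' x ⊓ V' z ≤ W := inf_le_left.trans ((i x).le.trans h)
    refine inj _ hle ?_
    have e1 := congrArg (rs (CohB1.tensorMod N L) (inf_le_left : V' x ⊓ V' z ≤ V' x)) (hva x)
    have e2 := congrArg (rs (CohB1.tensorMod N L) (inf_le_right : V' x ⊓ V' z ≤ V' z)) (hva z)
    simp only [tens_rs, rs_rs] at e1 e2
    exact e1.trans e2.symm
  let OM : TopCat.Sheaf Ab.{u} X.toTopCat := ⟨(CohB1.tensorMod N L).presheaf, (CohB1.tensorMod N L).isSheaf⟩
  refine ⟨c, OM.eq_of_locally_eq' V' V (fun x => i x) hc _ y fun x => ?_⟩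
  show rs (CohB1.tensorMod N L) (i x).le (tens N L V c (rs L h ε)) = rs (CohB1.tensorMod N L) (i x).le y
  rw [tens_rs, rs_rs, show rs N (i x).le c = a x from hcs x]
  exact hva x

variable (σ : Γ(L, ⊤))

/-- Where the section is a frame, multiplying by its powers is bijective. -/
theorem bijective_it {G : X.Opens} (hσ : IsFrame L G (rs L le_top σ)) :
    ∀ k : ℕ, Function.Bijective fun m : Γ(N, G) => it σ G m k
  | 0 => Function.bijective_id
  | k + 1 => by
    have h := bijective_tens (N := tw N L k) hσ G le_rfl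
    simp only [rs_self] at h
    exact h.comp (bijective_it hσ k)

theorem up_add {U : X.Opens} : ∀ (d : ℕ) {k : ℕ} (x y : Γ(tw N L k, U)),
    up N σ U d (x + y) = up N σ U d x + up N σ U d y
  | 0, _, _, _ => rfl
  | d + 1, k, x, y => by
    show tens _ L U (up N σ U d (x + y)) _ = tens _ L U (up N σ U d x) _ + tens _ L U (up N σ U d y) _
    rw [up_add d x y]
    exact Groth.L00.Tensor.ev_add₁ _ _ _ _ _

theorem it_add {U : X.Opens} (m m' : Γ(N, U)) : ∀ k : ℕ, it σ U (m + m') k = it σ U m k + it σ U m' k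
  | 0 => rfl
  | k + 1 => by
    show tens _ L U (it σ U (m + m') k) _ = tens _ L U (it σ U m k) _ + tens _ L U (it σ U m' k) _
    rw [it_add m m' k]
    exact Groth.L00.Tensor.ev_add₁ _ _ _ _ _

theorem it_smul {U : X.Opens} (c : Γ(X, U)) (m : Γ(N, U)) : ∀ k : ℕ, it σ U (c • m) k = c • it σ U m k
  | 0 => rfl
  | k + 1 => by
    show tens _ L U (it σ U (c • m) k) _ = c • tens _ L U _ _
    rw [it_smul c m k, tens_smul_left]

theorem up_eq_zero_mono {U : X.Opens} {k a b : ℕ} (x : Γ(tw N L k, U)) (hab : a ≤ b)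
    (hx : up N σ U a x = 0) : up N σ U b x = 0 := by
  induction hab with
  | refl => exact hx
  | @step p hp ih =>
    show tens _ L U (up N σ U p x) _ = 0
    rw [ih]
    have := tens_smul_left (L := tw N L (k + p)) (M := L) (U := U) 0 (0 : Γ(tw N L (k + p), U)) (rs L le_top σ)
    rwa [zero_smul, zero_smul] at this

/-- A global section of a twist vanishing on the locus dies after multiplying by a power. -/
theorem exists_up_eq_zero [CompactSpace X] [Coh.IsQCoh N] (hL : PicF.IsInvertible L)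
    (s : Coh.structureModule X ⟶ L) {k : ℕ} (t : Γ(tw N L k, ⊤))
    (ht : rs (tw N L k) (le_top : CohB1.genLocus L s ≤ ⊤) t = 0) :
    ∃ d : ℕ, up N (secOf s) ⊤ d t = 0 := by
  choose W ε hW hxW hε using fun x : X => exists_affine_frame hL x
  obtain ⟨T, hT⟩ := isCompact_univ.elim_finite_subcover (fun x : X => (W x : Set X)) (fun x => (W x).2)
    (fun x _ => Set.mem_iUnion.2 ⟨x, hxW x⟩)
  have hcov : (⊤ : X.Opens) ≤ ⨆ i : T, W i.1 := fun x _ => by
    obtain ⟨y, hy, hxy⟩ := Set.mem_iUnion₂.1 (hT (Set.mem_univ x))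
    exact Opens.mem_iSup.2 ⟨⟨y, hy⟩, hxy⟩
  choose a ha using fun i : T => (hε i.1).exists_coeff le_rfl (rs L le_top (secOf s))
  simp only [rs_self] at ha
  haveI := isQCoh_tw N hL k
  choose d hd using fun i : T => Groth.L16.QcqsPush.exists_pow_smul_eq_zero (tw N L k)
    (hW i.1).isCompact (a i) (rs (tw N L k) le_top t) (by
      have hle : X.basicOpen (a i) ≤ CohB1.genLocus L s :=
        (genLocus_inf_eq s (hε i.1) (ha i)).ge.trans inf_le_left
      show rs _ _ (rs _ _ t) = 0
      rw [rs_rs, ← rs_rs (tw N L k) le_top hle t, ht]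
      exact map_zero _)
  obtain ⟨D, hD⟩ := (Set.finite_range d).bddAbove
  refine ⟨D, ?_⟩
  let OM : TopCat.Sheaf Ab.{u} X.toTopCat := ⟨(tw N L (k + D)).presheaf, (tw N L (k + D)).isSheaf⟩
  refine OM.eq_of_locally_eq' (fun i : T => W i.1) ⊤ (fun i => homOfLE le_top) hcov _ _ fun i => ?_
  show rs (tw N L (k + D)) le_top (up N (secOf s) ⊤ D t) = rs (tw N L (k + D)) le_top 0
  rw [up_rs, show rs (tw N L (k + D)) (le_top : W i.1 ≤ ⊤) 0 = 0 from map_zero _]
  refine up_eq_zero_mono (secOf s) _ (hD ⟨i, rfl⟩) ((one_smul _ _).symm.trans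
    (up_eq_zero (secOf s) (ha i) (d i) _ 1 ?_))
  rw [one_mul]
  exact hd i

end Groth.L17.BC.TwistFrame
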